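import Cfsg.Agent.Lib.Block.CentralDefect2

/-!
# Blocks of `G = P C_G(P)` with defect group `P`: the count
-/

set_option autoImplicit false
set_option linter.unusedSectionVars false
set_option linter.unusedSimpArgs false
set_option linter.unusedVariables false

open scoped ComplexConjugate
open Cfsg MonoidAlgebra Cfsg.Agent.Lib.Char

namespace Cfsg.Agent.Lib.Block

section PC

variable {G : Type*} [Group G] [Fintype G] {p : ℕ} [hp : Fact p.Prime] {M : Ideal AlgInt} {P : Subgroup G}

theorem isPPart_of_pElement {x : G} (hP : IsPGroup p P) (hx : x ∈ P) : IsPPart p x x := by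
  obtain ⟨k, hk⟩ := hP ⟨x, hx⟩
  refine ⟨1, by simp, (Commute.one_right x), ?_, by simpa using hp.out.one_lt.ne'⟩
  have h1 : x ^ p ^ k = 1 := by
    have := congrArg Subtype.val hk
    simpa using this
  obtain ⟨j, _, hj⟩ := (Nat.dvd_prime_pow hp.out).1 (orderOf_dvd_of_pow_eq_one h1)
  exact ⟨j, hj⟩

/-- `P`-classes are the `G`-classes in `P`. -/
theorem isConj_subgroup_of_sup_centralizer [P.Normal] (hG : P ⊔ Subgroup.centralizer (P : Set G) = ⊤)
    {x y : P} (h : IsConj (x : G) (y : G)) : IsConj x y := by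
  obtain ⟨g, hg⟩ := isConj_iff.1 h
  have hgmem : g ∈ P ⊔ Subgroup.centralizer (P : Set G) := by rw [hG]; trivial
  obtain ⟨z, hz, c, hc, rfl⟩ := Subgroup.mem_sup_of_normal_right.1 hgmem
  have hcx : c * (x : G) * c⁻¹ = x := by
    have := Subgroup.mem_centralizer_iff.1 hc x x.2
    rw [← this]
    group
  rw [isConj_iff]
  refine ⟨⟨z, hz⟩, Subtype.ext ?_⟩
  push_cast
  rw [← hg]
  calc z * (x : G) * z⁻¹ = z * (c * (x : G) * c⁻¹) * z⁻¹ := by rw [hcx]
    _ = z * c * x * (z * c)⁻¹ := by group

theorem mk_quot_out {H : Type*} [Group H] (c : ConjClasses H) : ConjClasses.mk (Quotient.out c) = c := Quotient.out_eq c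

open Classical in
theorem sum_coe_eq_ite (B : Set (IrrCharacter G)) [Fintype B] {R : Type*} [AddCommMonoid R] (f : IrrCharacter G → R) :
    ∑ χ : B, f (χ : IrrCharacter G) = ∑ χ : IrrCharacter G, if χ ∈ B then f χ else 0 := by
  rw [← Finset.sum_filter]
  exact (Finset.sum_subtype _ (by simp) f).symm

/-- The number of characters in a block with central-type defect group is at most `k(P)`. -/
theorem card_block_le [hPn : P.Normal] [Fintype (G ⧸ P)] (hM : IsPModular p M) (hP : IsPGroup p P)
    (hG : P ⊔ Subgroup.centralizer (P : Set G) = ⊤) {B : Set (IrrCharacter G)}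
    (hB : IsPBlock M B) (hD : IsDefectGroup p M B P) {ψ : IrrCharacter (G ⧸ P)}
    (hψ : Cfsg.Agent.Lib.Degree.inflate P ψ ∈ B) [Fintype B] [Fintype (ConjClasses P)] :
    Fintype.card B ≤ Fintype.card (ConjClasses P) := by
  classical
  have := isPModular_isPrime hM
  have hli : LinearIndependent ℂ (fun χ : B => fun c : ConjClasses P => ((χ : IrrCharacter G) : G → ℂ) (c.out : P)) := by
    rw [Fintype.linearIndependent_iff]
    intro a ha
    have ha1 : ∀ x : P, ∑ χ : B, a χ * ((χ : IrrCharacter G) : G → ℂ) (x : G) = 0 := by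
      intro x
      have h1 := congrFun ha (ConjClasses.mk x)
      simp only [Finset.sum_apply, Pi.smul_apply, smul_eq_mul, Pi.zero_apply] at h1
      rw [← h1]
      refine Finset.sum_congr rfl fun χ _ => ?_
      congr 1
      have hcf := IsCharacter.isClassFunction (IsIrrCharacter.isCharacter (χ : IrrCharacter G).2)
      have hconj : IsConj (x : P) (ConjClasses.mk x).out := by
        have : ConjClasses.mk (Quotient.out (ConjClasses.mk x)) = ConjClasses.mk x := mk_quot_out _
        exact (ConjClasses.mk_eq_mk_iff_isConj.1 this).symm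
      obtain ⟨c, hc⟩ := isConj_iff.1 hconj
      rw [← hc]
      push_cast
      exact (hcf _ _).symm
    have ha2 : ∀ g : G, ∑ χ : B, a χ * ((χ : IrrCharacter G) : G → ℂ) g = 0 := by
      intro g
      obtain ⟨x, hxp⟩ := isPPart_exists (p := p) g
      by_cases hx : x ∈ P
      · obtain ⟨y, rfl, hcomm, _, hy⟩ := id hxp
        have h1 := ha1 ⟨x, hx⟩
        have hψ1 := isIrr_one_ne_zero ψ.2
        have h2 : (∑ χ : B, a χ * ((χ : IrrCharacter G) : G → ℂ) (x * y)) * (ψ : G ⧸ P → ℂ) 1 =
            (∑ χ : B, a χ * ((χ : IrrCharacter G) : G → ℂ) x) * (ψ : G ⧸ P → ℂ) (y : G ⧸ P) := by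
          rw [Finset.sum_mul, Finset.sum_mul]
          refine Finset.sum_congr rfl fun χ _ => ?_
          rw [mul_assoc, mul_assoc, irr_mul_reg hM hP hG hB hD hψ χ.2 hx hy]
        simp only at h1
        rw [h1, zero_mul] at h2
        exact (mul_eq_zero.1 h2).resolve_right hψ1
      · apply Finset.sum_eq_zero
        intro χ _
        rw [eq_zero_of_pPart_notMem_defect hM (χ : IrrCharacter G) hxp, mul_zero]
        intro D hD'
        rw [← blockOf_eq_of_mem hB χ.2] at hD'
        rw [eq_of_isDefectGroup_normal hM hB hD hD']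
        exact hx
    have h3 := (irr_linearIndependent (G := G)).comp (Subtype.val : B → IrrCharacter G) Subtype.val_injective
    rw [Fintype.linearIndependent_iff] at h3
    refine h3 a ?_
    funext g
    simpa using ha2 g
  have := hli.fintype_card_le_finrank
  simpa using this

/-- The number of characters in a block with central-type defect group is at least `k(P)`. -/
theorem le_card_block [hPn : P.Normal] [Fintype (G ⧸ P)] (hM : IsPModular p M) (hP : IsPGroup p P)
    (hG : P ⊔ Subgroup.centralizer (P : Set G) = ⊤) {B : Set (IrrCharacter G)}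
    (hB : IsPBlock M B) {ψ : IrrCharacter (G ⧸ P)}
    (hψ : Cfsg.Agent.Lib.Degree.inflate P ψ ∈ B) [Fintype B] [Fintype (ConjClasses P)] :
    Fintype.card (ConjClasses P) ≤ Fintype.card B := by
  classical
  have := isPModular_isPrime hM
  have hU := isBlockUnion_of_isPBlock hB
  have hli : LinearIndependent ℂ (fun c : ConjClasses P => fun χ : B => ((χ : IrrCharacter G) : G → ℂ) (c.out : P)) := by
    rw [Fintype.linearIndependent_iff]
    intro a ha d
    have ha1 : ∀ χ : B, ∑ c : ConjClasses P, a c * ((χ : IrrCharacter G) : G → ℂ) (c.out : P) = 0 := by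
      intro χ
      have h1 := congrFun ha χ
      simpa using h1
    -- orthogonality
    have hortho : ∀ c : ConjClasses P, c ≠ d →
        ∑ χ : B, ((χ : IrrCharacter G) : G → ℂ) (c.out : P) * ((χ : IrrCharacter G) : G → ℂ) ((d.out : P) : G)⁻¹ = 0 := by
      intro c hcd
      have hnot : ¬ IsConj ((c.out : P) : G) ((d.out : P) : G) := by
        intro h
        apply hcd
        have := isConj_subgroup_of_sup_centralizer hG h
        have h2 := ConjClasses.mk_eq_mk_iff_isConj.2 this
        rwa [mk_quot_out, mk_quot_out] at h2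
      have h1 := block_orthogonality hM (isPPart_of_pElement hP (c.out : P).2) (isPPart_of_pElement hP (d.out : P).2) hnot hU
      rw [finsum_mem_irr] at h1
      rw [← h1]
      exact sum_coe_eq_ite B (fun χ => (χ : G → ℂ) (c.out : P) * (χ : G → ℂ) ((d.out : P) : G)⁻¹)
    have h2 : ∑ χ : B, (∑ c : ConjClasses P, a c * ((χ : IrrCharacter G) : G → ℂ) (c.out : P)) *
        ((χ : IrrCharacter G) : G → ℂ) ((d.out : P) : G)⁻¹ = 0 := by
      apply Finset.sum_eq_zero
      intro χ _
      rw [ha1 χ, zero_mul]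
    simp only [Finset.sum_mul] at h2
    rw [Finset.sum_comm] at h2
    simp only [mul_assoc, ← Finset.mul_sum] at h2
    rw [Finset.sum_eq_single d] at h2
    · have h3 : ∀ χ : B, ((χ : IrrCharacter G) : G → ℂ) (d.out : P) * ((χ : IrrCharacter G) : G → ℂ) ((d.out : P) : G)⁻¹ =
          ((Complex.normSq (((χ : IrrCharacter G) : G → ℂ) (d.out : P)) : ℝ) : ℂ) := by
        intro χ
        rw [IsCharacter.map_inv' (IsIrrCharacter.isCharacter (χ : IrrCharacter G).2), Complex.mul_conj]
      simp only [h3] at h2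
      rw [← Complex.ofReal_sum] at h2
      have hpos : 0 < ∑ χ : B, Complex.normSq (((χ : IrrCharacter G) : G → ℂ) (d.out : P)) := by
        refine Finset.sum_pos' (fun _ _ => Complex.normSq_nonneg _) ⟨⟨_, hψ⟩, Finset.mem_univ _, ?_⟩
        rw [Complex.normSq_pos]
        simp only [Cfsg.Agent.Lib.Degree.inflate_apply]
        rw [(QuotientGroup.eq_one_iff _).2 (d.out : P).2]
        exact isIrr_one_ne_zero ψ.2
      have h4 : ((∑ χ : B, Complex.normSq (((χ : IrrCharacter G) : G → ℂ) (d.out : P)) : ℝ) : ℂ) ≠ 0 := by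
        exact_mod_cast hpos.ne'
      exact (mul_eq_zero.1 h2).resolve_right h4
    · intro c _ hcd
      rw [hortho c hcd, mul_zero]
    · simp
  have := hli.fintype_card_le_finrank
  simpa using this

/-- Main theorem for `G = P C_G(P)` with defect group `P`. -/
theorem central_defect_main (hM : IsPModular p M) (hP : IsPGroup p P)
    (hG : P ⊔ Subgroup.centralizer (P : Set G) = ⊤) {B : Set (IrrCharacter G)}
    (hB : IsPBlock M B) (hD : IsDefectGroup p M B P) :
    (∃! θ : IrrCharacter G, θ ∈ B ∧ ∀ x ∈ P, (θ : G → ℂ) x = (θ : G → ℂ) 1) ∧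
    (∀ θ ∈ B, (∀ x ∈ P, (θ : G → ℂ) x = (θ : G → ℂ) 1) →
      (charDegree (θ : G → ℂ)).factorization p = P.index.factorization p) ∧
    Nat.card B = Nat.card (ConjClasses P) := by
  classical
  have := isPModular_isPrime hM
  haveI hPn : P.Normal := normal_of_sup_centralizer hG
  haveI : Fintype (G ⧸ P) := Fintype.ofFinite _
  haveI : Fintype (Subgroup.centralizer (P : Set G)) := Fintype.ofFinite _
  haveI : Fintype B := Fintype.ofFinite _
  haveI : Fintype (ConjClasses P) := Fintype.ofFinite _
  have hidx := exists_index_centralizer hG hP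
  have hC : ∀ g : G, ¬ p ∣ orderOf g → g ∈ Subgroup.centralizer (P : Set G) := fun g hg =>
    mem_of_regular_of_index _ hidx hg
  obtain ⟨ψ, θ, hθ, hθψ⟩ := exists_inflate_mem_block hM hP hC hB
  have hθi : θ = Cfsg.Agent.Lib.Degree.inflate P ψ := Subtype.ext hθψ
  subst hθi
  refine ⟨⟨Cfsg.Agent.Lib.Degree.inflate P ψ, ⟨hθ, Cfsg.Agent.Lib.Degree.inflate_kerContains P ψ⟩, ?_⟩, ?_, ?_⟩
  · rintro θ' ⟨hθ', hker⟩
    obtain ⟨ψ', rfl⟩ := Cfsg.Agent.Lib.Degree.exists_inflate P hker
    have h1 := sameBlock_of_mem hB hθ hθ'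
    have h2 : SameBlock M (ψ : G ⧸ P → ℂ) (ψ' : G ⧸ P → ℂ) := sameBlock_of_sameBlock_inflate_reg hM hP hC h1
    have h3 : ψ' ∈ blockOf M (ψ : G ⧸ P → ℂ) := h2
    rw [blockOf_quot_singleton hM hD hθ] at h3
    rw [show ψ' = ψ from h3]
  · intro θ' hθ' hker
    exact factorization_degree_eq hM hD hθ' hker
  · rw [Nat.card_eq_fintype_card, Nat.card_eq_fintype_card]
    exact le_antisymm (card_block_le hM hP hG hB hD hθ) (le_card_block hM hP hG hB hθ)

end PC

end Cfsg.Agent.Lib.Block
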