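import Cfsg.Agent.Lib.Block.Reynolds

/-!
# Fong's theorem on `G`-stable blocks of a normal subgroup
-/

set_option autoImplicit false
set_option linter.unusedSectionVars false
set_option linter.unusedSimpArgs false
set_option linter.unusedVariables false

open scoped ComplexConjugate
open Cfsg MonoidAlgebra Cfsg.Agent.Lib.Char

namespace Cfsg.Agent.Lib.Block

section Orbit

open MulAction

/-- Orbit sums modulo the local ideal for a `p`-group. -/
theorem memLocalIdeal_sum_of_orbit {Γ X : Type*} [Group Γ] [MulAction Γ X] [Fintype X]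
    {p : ℕ} [hp : Fact p.Prime] {M : Ideal AlgInt} [M.IsPrime] (hM : IsPModular p M) (hΓ : IsPGroup p Γ)
    (w : X → ℂ) (hw : ∀ x, MemLocalRing M (w x))
    (hinv : ∀ (γ : Γ) x, MemLocalIdeal M (w (γ • x) - w x))
    (hfix : ∀ x, (∀ γ : Γ, γ • x = x) → MemLocalIdeal M (w x)) : MemLocalIdeal M (∑ x, w x) := by
  classical
  let e := MulAction.selfEquivSigmaOrbits Γ X
  let Ω := MulAction.orbitRel.Quotient Γ X
  have : Fintype Ω := Fintype.ofFinite _
  have : ∀ ω : Ω, Fintype (orbit Γ (Quotient.out ω)) := fun ω => Fintype.ofFinite _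
  have h1 : ∑ x, w x = ∑ ω : Ω, ∑ y : orbit Γ (Quotient.out ω), w y.1 := by
    rw [← Fintype.sum_sigma', ← Equiv.sum_comp e.symm]
    refine Finset.sum_congr rfl fun y _ => ?_
    obtain ⟨ω, y⟩ := y
    rfl
  rw [h1]
  refine memLocalIdeal_sum _ _ fun ω _ => ?_
  set x₀ := Quotient.out ω with hx₀
  have h2 : ∑ y : orbit Γ x₀, w y.1 =
      ∑ y : orbit Γ x₀, (w y.1 - w x₀) + (Nat.card (orbit Γ x₀) : ℂ) * w x₀ := by
    rw [Finset.sum_sub_distrib, Finset.sum_const, nsmul_eq_mul, Finset.card_univ, Nat.card_eq_fintype_card]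
    ring
  rw [h2]
  refine memLocalIdeal_add (memLocalIdeal_sum _ _ fun y _ => ?_) ?_
  · obtain ⟨_, γ, rfl⟩ := y
    exact hinv γ x₀
  · obtain ⟨n, hn⟩ := hΓ.card_orbit x₀
    rcases n with _ | n
    · rw [pow_zero] at hn
      have hfx : ∀ γ : Γ, γ • x₀ = x₀ := by
        intro γ
        have h3 : Subsingleton (orbit Γ x₀) := (Nat.card_eq_one_iff_unique.1 hn).1
        have := h3.elim ⟨γ • x₀, γ, rfl⟩ ⟨x₀, mem_orbit_self x₀⟩
        exact congrArg Subtype.val this
      exact memLocalIdeal_mul_left (memLocalRing_natCast _) (hfix x₀ hfx)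
    · rw [hn]
      refine memLocalIdeal_mul_right ?_ (hw _)
      rw [memLocalIdeal_natCast_iff hM]
      exact dvd_pow_self p (Nat.succ_ne_zero n)

end Orbit

section Cover

variable {G : Type*} [Group G] [Fintype G] (N : Subgroup G) [hN : N.Normal] [Fintype N]

theorem classPerm_one (c : ConjClasses N) : classPerm N hN 1 c = c := by
  obtain ⟨x, rfl⟩ := ConjClasses.mk_surjective c
  rw [classPerm_mk]
  congr 1
  apply Subtype.ext
  show 1 * (x : G) * 1⁻¹ = x
  simp

theorem classPerm_mul (g h : G) (c : ConjClasses N) : classPerm N hN (g * h) c = classPerm N hN g (classPerm N hN h c) := by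
  obtain ⟨x, rfl⟩ := ConjClasses.mk_surjective c
  rw [classPerm_mk, classPerm_mk, classPerm_mk]
  congr 1
  apply Subtype.ext
  show (g * h) * (x : G) * (g * h)⁻¹ = g * (h * (x : G) * h⁻¹) * g⁻¹
  group

/-- The conjugation action on classes of `N`. -/
noncomputable def classAction : MulAction G (ConjClasses N) where
  smul g c := classPerm N hN g c
  one_smul := classPerm_one N
  mul_smul := classPerm_mul N

variable {N}

/-- Conjugation of central characters. -/
theorem centralChar_conjEquiv (g : G) (θ : IrrCharacter N) (x : N) :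
    centralChar (θ : N → ℂ) (conjEquiv hN g x) = centralChar (conjIrr N g θ : N → ℂ) x := by
  rw [conjIrr_coe, conjFn_eq_comp, centralChar_comp_equiv]

variable {p : ℕ} [hp : Fact p.Prime] {M : Ideal AlgInt}

theorem blockCoeff_conjEquiv {b : Set (IrrCharacter N)} (hb : IsStable N b) (g : G) (x : N) :
    blockCoeff b (conjEquiv hN g x) = blockCoeff b x :=
  blockCoeff_conjIrr_stable N hb g x _

/-- A `p`-subgroup fixes the class of a defect class of a stable block. -/
theorem exists_fixed_defect_class (hM : IsPModular p M) {b : Set (IrrCharacter N)} (hb : IsPBlock M b)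
    (hst : IsStable N b) {S : Subgroup G} (hS : IsPGroup p S) :
    ∃ x : N, ¬ MemLocalIdeal M (blockCoeff b x) ∧ (∀ θ ∈ b, ¬ MemLocalIdeal M (centralChar (θ : N → ℂ) x)) ∧
      ∀ s ∈ S, IsConj (conjEquiv hN s x) x := by
  classical
  have := isPModular_isPrime hM
  haveI : Fintype (ConjClasses N) := Fintype.ofFinite _
  letI act := classAction (G := G) N
  obtain ⟨θ₀, hθ₀⟩ := IsPBlock_nonempty hb
  have hU := isBlockUnion_of_isPBlock hb
  have hcf := IsCharacter.isClassFunction (IsIrrCharacter.isCharacter θ₀.2)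
  have h1 := om_blockElt_of_mem hθ₀
  rw [om_eq_sum_conjClasses (isCentralElt_blockElt b) hcf] at h1
  set w : ConjClasses N → ℂ := fun c => (blockElt b).coeff c.out * centralChar (θ₀ : N → ℂ) c.out with hw
  have hval : ∀ x : N, w (ConjClasses.mk x) = blockCoeff b x * centralChar (θ₀ : N → ℂ) x := by
    intro x
    simp only [hw]
    have hconj : IsConj x (Quotient.out (ConjClasses.mk x)) :=
      (ConjClasses.mk_eq_mk_iff_isConj.1 (mk_quot_out _)).symm
    obtain ⟨c, hc⟩ := isConj_iff.1 hconj
    rw [← hc, centralChar_conj hcf, coeff_blockElt, ← coeff_blockElt, isCentralElt_blockElt b c x, coeff_blockElt]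
  by_contra hcon
  push Not at hcon
  have hloc : ∀ c, MemLocalRing M (w c) := fun c =>
    memLocalRing_mul (localCoeff_blockElt hU _) (memLocalRing_centralChar θ₀.2 _)
  have hsum : MemLocalIdeal M (∑ c, w c) := by
    refine memLocalIdeal_sum_of_orbit (Γ := S) hM hS w hloc ?_ ?_
    · intro γ c
      obtain ⟨x, rfl⟩ := ConjClasses.mk_surjective c
      have e1 : γ • ConjClasses.mk x = ConjClasses.mk (conjEquiv hN (γ : G) x) := rfl
      rw [e1, hval, hval, blockCoeff_conjEquiv hst, ← mul_sub, centralChar_conjEquiv]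
      refine memLocalIdeal_mul_left ?_ ?_
      · rw [← coeff_blockElt]; exact localCoeff_blockElt hU x
      · exact sameBlock_of_mem hb (hst _ _ hθ₀) hθ₀ x
    · intro c hc
      obtain ⟨x, rfl⟩ := ConjClasses.mk_surjective c
      rw [hval]
      by_contra hnot
      have ha : ¬ MemLocalIdeal M (blockCoeff b x) := fun h =>
        hnot (memLocalIdeal_mul_right h (memLocalRing_centralChar θ₀.2 _))
      have hl : ¬ MemLocalIdeal M (centralChar (θ₀ : N → ℂ) x) := fun h =>
        hnot (memLocalIdeal_mul_left (by rw [← coeff_blockElt]; exact localCoeff_blockElt hU x) h)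
      have hl' : ∀ θ ∈ b, ¬ MemLocalIdeal M (centralChar (θ : N → ℂ) x) := by
        intro θ hθ h
        apply hl
        have h2 := sameBlock_of_mem hb hθ₀ hθ x
        have h3 := memLocalIdeal_add h2 h
        simpa using h3
      obtain ⟨s, hs, hns⟩ := hcon x ha hl'
      apply hns
      have h2 := hc ⟨s, hs⟩
      have e1 : (⟨s, hs⟩ : S) • ConjClasses.mk x = ConjClasses.mk (conjEquiv hN s x) := rfl
      rw [e1] at h2
      exact ConjClasses.mk_eq_mk_iff_isConj.1 h2
  rw [h1] at hsum
  exact not_memLocalIdeal_one hsum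

/-- The `G`-central characters over a stable block at a fixed defect class. -/
theorem not_memLocalIdeal_centralChar_of_fixed (hM : IsPModular p M) {b : Set (IrrCharacter N)} (hb : IsPBlock M b)
    (hst : IsStable N b) (S : Sylow p G) {x : N} (hfix : ∀ s ∈ (S : Subgroup G), IsConj (conjEquiv hN s x) x)
    (hl : ∀ θ ∈ b, ¬ MemLocalIdeal M (centralChar (θ : N → ℂ) x)) {χ : IrrCharacter G} {θ : IrrCharacter N}
    (hθ : θ ∈ b) (hc : classInner (fun n : N => (χ : G → ℂ) n) (θ : N → ℂ) ≠ 0) :
    ¬ MemLocalIdeal M (centralChar (χ : G → ℂ) (x : G)) := by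
  classical
  have := isPModular_isPrime hM
  haveI : Fintype (ConjClasses N) := Fintype.ofFinite _
  letI act := classAction (G := G) N
  have hcf := IsCharacter.isClassFunction (IsIrrCharacter.isCharacter θ.2)
  rw [(constituent_iff_centralChar N χ θ).1 hc x, ← om_resAlg_classSum,
    om_eq_sum_conjClasses (isCentralElt_resAlg N (isCentralElt_classSum (x : G))) hcf]
  set Ω : Finset (ConjClasses N) := Finset.univ.filter (fun c => IsConj (x : G) ((Quotient.out c : N) : G)) with hΩ
  have h1 : ∑ c : ConjClasses N, (resAlg N (classSum (x : G))).coeff c.out * centralChar (θ : N → ℂ) c.out =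
      ∑ c ∈ Ω, (centralChar (θ : N → ℂ) c.out - centralChar (θ : N → ℂ) x) +
        (Ω.card : ℂ) * centralChar (θ : N → ℂ) x := by
    rw [Finset.sum_sub_distrib, Finset.sum_const, nsmul_eq_mul, sub_add_cancel, hΩ, Finset.sum_filter]
    refine Finset.sum_congr rfl fun c _ => ?_
    rw [coeff_resAlg, coeff_classSum]
    split_ifs <;> simp
  rw [h1]
  intro hmem
  -- the orbit
  have hcard : ¬ p ∣ Ω.card := by
    have horb : (MulAction.orbit G (ConjClasses.mk x) : Set (ConjClasses N)) = (Ω : Set (ConjClasses N)) := by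
      ext c
      simp only [MulAction.mem_orbit_iff, hΩ, Finset.coe_filter, Finset.mem_univ, true_and, Set.mem_ofPred_eq]
      constructor
      · rintro ⟨g, rfl⟩
        have e1 : g • ConjClasses.mk x = ConjClasses.mk (conjEquiv hN g x) := rfl
        rw [e1]
        have h2 : IsConj (conjEquiv hN g x) (Quotient.out (ConjClasses.mk (conjEquiv hN g x))) :=
          (ConjClasses.mk_eq_mk_iff_isConj.1 (mk_quot_out _)).symm
        have h3 : IsConj ((conjEquiv hN g x : N) : G) ((Quotient.out (ConjClasses.mk (conjEquiv hN g x)) : N) : G) := by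
          obtain ⟨d, hd⟩ := isConj_iff.1 h2
          refine isConj_iff.2 ⟨d, ?_⟩
          exact congrArg Subtype.val hd
        refine IsConj.trans ?_ h3
        exact isConj_iff.2 ⟨g, rfl⟩
      · intro h2
        obtain ⟨g, hg⟩ := isConj_iff.1 h2
        refine ⟨g, ?_⟩
        have e1 : g • ConjClasses.mk x = ConjClasses.mk (conjEquiv hN g x) := rfl
        rw [e1]
        have e2 : conjEquiv hN g x = Quotient.out c := Subtype.ext hg
        rw [e2]
        exact mk_quot_out c
    have h2 : Nat.card (MulAction.orbit G (ConjClasses.mk x)) = Ω.card := by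
      have : Nat.card ((Ω : Set (ConjClasses N))) = Ω.card := by simp
      rw [← this]
      exact congrArg (fun A : Set (ConjClasses N) => Nat.card A) horb
    rw [← h2, Nat.card_coe_set_eq, ← MulAction.index_stabilizer]
    have hle : (S : Subgroup G) ≤ MulAction.stabilizer G (ConjClasses.mk x) := by
      intro s hs
      rw [MulAction.mem_stabilizer_iff]
      have e1 : s • ConjClasses.mk x = ConjClasses.mk (conjEquiv hN s x) := rfl
      rw [e1]
      exact ConjClasses.mk_eq_mk_iff_isConj.2 (hfix s hs)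
    intro hd
    exact S.not_dvd_index (hd.trans (Subgroup.index_dvd_of_le hle))
  have h2 : MemLocalIdeal M (∑ c ∈ Ω, (centralChar (θ : N → ℂ) c.out - centralChar (θ : N → ℂ) x)) := by
    refine memLocalIdeal_sum _ _ fun c hc => ?_
    have hc' : IsConj (x : G) ((Quotient.out c : N) : G) := (Finset.mem_filter.1 hc).2
    obtain ⟨g, hg⟩ := isConj_iff.1 hc'
    have e2 : conjEquiv hN g x = Quotient.out c := Subtype.ext hg
    rw [← e2, centralChar_conjEquiv]
    exact sameBlock_of_mem hb (hst _ _ hθ) hθ x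
  have h3 := memLocalIdeal_sub hmem h2
  rw [add_sub_cancel_left] at h3
  exact not_memLocalIdeal_mul (memLocalRing_natCast _) (memLocalRing_centralChar θ.2 _)
    (not_memLocalIdeal_natCast hM hcard) (hl θ hθ) h3

/-- Comparison of the orders of the centralizers at a fixed class. -/
theorem factorization_centralizer_of_fixed (S : Sylow p G) {x : N}
    (hfix : ∀ s ∈ (S : Subgroup G), IsConj (conjEquiv hN s x) x) :
    (Nat.card (Subgroup.centralizer ({(x : G)} : Set G))).factorization p =
      (Nat.card (Subgroup.centralizer ({x} : Set N))).factorization p + N.index.factorization p := by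
  classical
  set C := Subgroup.centralizer ({(x : G)} : Set G) with hC
  have hSle : (S : Subgroup G) ≤ C ⊔ N := by
    intro s hs
    obtain ⟨l, hl⟩ := isConj_iff.1 (hfix s hs)
    have hl' : (l : G) * (s * (x : G) * s⁻¹) * (l : G)⁻¹ = x := congrArg Subtype.val hl
    have hw : (l : G) * s ∈ C := by
      rw [hC, mem_centralizer_singleton]
      calc (l : G) * s * x = ((l : G) * (s * (x : G) * s⁻¹) * (l : G)⁻¹) * ((l : G) * s) := by group
        _ = x * ((l : G) * s) := by rw [hl']
    have : s = (l : G)⁻¹ * ((l : G) * s) := by group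
    rw [this]
    exact Subgroup.mul_mem _ (Subgroup.mem_sup_right (N.inv_mem l.2)) (Subgroup.mem_sup_left hw)
  have h1 : ¬ p ∣ (C ⊔ N).index := fun hd => S.not_dvd_index (hd.trans (Subgroup.index_dvd_of_le hSle))
  have h2 : N.relIndex (C ⊔ N) * (C ⊔ N).index = N.index := Subgroup.relIndex_mul_index le_sup_right
  have h3 : N.relIndex (C ⊔ N) = N.relIndex C := Subgroup.relIndex_sup_right C N
  have hequiv : Nat.card (Subgroup.centralizer ({x} : Set N)) = Nat.card (N.subgroupOf C) := by
    refine Nat.card_congr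
      { toFun := fun a => ⟨⟨(a : N), ?_⟩, ?_⟩
        invFun := fun a => ⟨⟨((a : C) : G), Subgroup.mem_subgroupOf.1 a.2⟩, ?_⟩
        left_inv := fun a => rfl
        right_inv := fun a => rfl }
    · rw [hC, mem_centralizer_singleton]
      have := mem_centralizer_singleton.1 a.2
      exact congrArg Subtype.val this
    · rw [Subgroup.mem_subgroupOf]
      exact (a : N).2
    · rw [mem_centralizer_singleton]
      apply Subtype.ext
      exact mem_centralizer_singleton.1 (a : C).2
  have h4 : Nat.card (N.subgroupOf C) * N.relIndex C = Nat.card C := Subgroup.card_mul_index (N.subgroupOf C)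
  have h0 : N.relIndex C ≠ 0 := Subgroup.index_ne_zero_of_finite
  have h5 : (Nat.card C).factorization p = (Nat.card (N.subgroupOf C)).factorization p + (N.relIndex C).factorization p := by
    rw [← h4, Nat.factorization_mul Nat.card_pos.ne' h0, Finsupp.add_apply]
  have h6 : N.index.factorization p = (N.relIndex C).factorization p + ((C ⊔ N).index).factorization p := by
    rw [← h2, h3, Nat.factorization_mul h0 Subgroup.index_ne_zero_of_finite, Finsupp.add_apply]
  have h7 : ((C ⊔ N).index).factorization p = 0 := Nat.factorization_eq_zero_of_not_dvd h1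
  rw [hequiv]
  omega

end Cover

section Decomp

variable {G : Type*} [Group G] [Fintype G] {M : Ideal AlgInt} [M.IsPrime]

/-- A block union with a non-vanishing coefficient has a block with that property. -/
theorem exists_block_of_blockCoeff {A : Set (IrrCharacter G)} (hA : IsBlockUnion M A) {g : G}
    (h : ¬ MemLocalIdeal M (blockCoeff A g)) :
    ∃ B, IsPBlock M B ∧ B ⊆ A ∧ ¬ MemLocalIdeal M (blockCoeff B g) := by
  classical
  by_contra hcon
  push Not at hcon
  apply h
  set s : Finset (IrrCharacter G) := Finset.univ.filter (fun χ => χ ∈ A) with hs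
  set T : Finset (Set (IrrCharacter G)) := s.image (fun χ : IrrCharacter G => blockOf M (χ : G → ℂ)) with hT
  set f : IrrCharacter G → ℂ := fun χ => (χ : G → ℂ) 1 * conj ((χ : G → ℂ) g) with hf
  have h1 : blockCoeff A g = ∑ B ∈ T, blockCoeff B g := by
    rw [blockCoeff_eq_sum]
    have h2 : (∑ χ : IrrCharacter G, if χ ∈ A then (χ : G → ℂ) 1 * conj ((χ : G → ℂ) g) else 0) = ∑ χ ∈ s, f χ := by
      rw [hs, Finset.sum_filter]
    rw [h2, ← Finset.sum_fiberwise_of_maps_to (s := s) (t := T) (g := fun χ : IrrCharacter G => blockOf M (χ : G → ℂ))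
      (fun χ hχ => Finset.mem_image_of_mem _ hχ), Finset.mul_sum]
    refine Finset.sum_congr rfl fun B hB => ?_
    obtain ⟨χ₁, hχ₁, rfl⟩ := Finset.mem_image.1 hB
    have hχ₁A : χ₁ ∈ A := (Finset.mem_filter.1 hχ₁).2
    rw [blockCoeff_eq_sum, Finset.sum_filter]
    congr 1
    rw [hs, Finset.sum_filter]
    refine Finset.sum_congr rfl fun χ _ => ?_
    by_cases hχ : χ ∈ blockOf M (χ₁ : G → ℂ)
    · have hχA : χ ∈ A := by
        by_contra hn
        exact hA χ₁ hχ₁A χ hn hχ
      have he : blockOf M (χ : G → ℂ) = blockOf M (χ₁ : G → ℂ) :=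
        (blockOf_eq_of_mem (isPBlock_blockOf χ₁) hχ).symm
      rw [if_pos hχA, if_pos he, if_pos hχ]
    · rw [if_neg hχ]
      by_cases hχA : χ ∈ A
      · rw [if_pos hχA, if_neg]
        intro he
        apply hχ
        rw [← he]
        exact mem_blockOf_self χ
      · rw [if_neg hχA]
  rw [h1]
  refine memLocalIdeal_sum _ _ fun B hB => ?_
  obtain ⟨χ₁, hχ₁, rfl⟩ := Finset.mem_image.1 hB
  by_contra hnot
  have hsub : blockOf M (χ₁ : G → ℂ) ⊆ A := by
    intro χ hχ
    by_contra hn
    exact hA χ₁ (Finset.mem_filter.1 hχ₁).2 χ hn hχ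
  exact hnot (hcon _ (isPBlock_blockOf χ₁) hsub)

end Decomp

section Main

variable {G : Type*} [Group G] [Fintype G] {N : Subgroup G} [hN : N.Normal] [Fintype N]
  {p : ℕ} [hp : Fact p.Prime] {M : Ideal AlgInt}

/-- **Fong's theorem.** -/
theorem fong (hM : IsPModular p M) {b : Set (IrrCharacter N)} (hb : IsPBlock M b) (hst : IsStable N b)
    {B : Set (IrrCharacter G)} (hB : IsPBlock M B)
    (hcov : ∃ χ ∈ B, ∃ θ ∈ b, classInner (fun n : N => (χ : G → ℂ) n) (θ : N → ℂ) ≠ 0)
    (hmax : ∀ B' : Set (IrrCharacter G), IsPBlock M B' →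
      (∃ χ ∈ B', ∃ θ ∈ b, classInner (fun n : N => (χ : G → ℂ) n) (θ : N → ℂ) ≠ 0) →
      blockDefect p B' ≤ blockDefect p B)
    {P : Subgroup G} (hP : IsDefectGroup p M B P) :
    ¬ p ∣ (P ⊔ N).index ∧ IsDefectGroup p M b ((P ⊓ N).subgroupOf N) ∧
      blockDefect p B = blockDefect p b + N.index.factorization p := by
  classical
  have := isPModular_isPrime hM
  obtain ⟨S⟩ : Nonempty (Sylow p G) := inferInstance
  obtain ⟨x, hxa, hxl, hfix⟩ := exists_fixed_defect_class hM hb hst (S := (S : Subgroup G)) S.isPGroup'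
  have hcentral : ∀ {χ : IrrCharacter G} {θ : IrrCharacter N}, θ ∈ b →
      classInner (fun n : N => (χ : G → ℂ) n) (θ : N → ℂ) ≠ 0 →
      ¬ MemLocalIdeal M (centralChar (χ : G → ℂ) (x : G)) := fun hθ hc =>
    not_memLocalIdeal_centralChar_of_fixed hM hb hst S hfix hxl hθ hc
  set C := Subgroup.centralizer ({(x : G)} : Set G) with hC
  obtain ⟨Q⟩ : Nonempty (Sylow p C) := inferInstance
  set QG : Subgroup G := (Q : Subgroup C).map C.subtype with hQG
  have hQp : IsPGroup p QG := Q.isPGroup'.map _
  have hQC : QG ≤ C := by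
    rintro _ ⟨a, _, rfl⟩
    exact a.2
  have hQcard : Nat.card QG = p ^ (Nat.card C).factorization p := card_map_sylow Q
  set e := (Nat.card C).factorization p with he
  set CN := Subgroup.centralizer ({x} : Set N) with hCN
  set e₀ := (Nat.card CN).factorization p with he₀
  have hfac : e = e₀ + N.index.factorization p := factorization_centralizer_of_fixed S hfix
  have hcardconj : ∀ (H : Subgroup G) (g : G), Nat.card (H.map (MulAut.conj g).toMonoidHom) = Nat.card H :=
    fun H g => Subgroup.card_map_of_injective (MulAut.conj g).injective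
  have hpow : ∀ a c : ℕ, p ^ a ≤ p ^ c → a ≤ c := fun a c h => (Nat.pow_le_pow_iff_right hp.out.one_lt).1 h
  -- upper bound
  have hup : ∀ B' : Set (IrrCharacter G), IsPBlock M B' →
      (∃ χ ∈ B', ∃ θ ∈ b, classInner (fun n : N => (χ : G → ℂ) n) (θ : N → ℂ) ≠ 0) → blockDefect p B' ≤ e := by
    rintro B' hB' ⟨χ', hχ', θ', hθ', hc'⟩
    obtain ⟨D', hD'⟩ := exists_isDefectGroup hM hB'
    obtain ⟨y', hy', Q', hQ'⟩ := id hD'
    have hE : IsPGroup p D' := isPGroup_of_isDefectGroup hD'
    have hEd : D' ≤ Subgroup.centralizer ({y'} : Set G) := by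
      rw [hQ']
      rintro _ ⟨a, _, rfl⟩
      exact a.2
    obtain ⟨g, hg⟩ := minmax_le hM hB' hχ' (hcentral hθ' hc') hy'.2.1 hE hEd Q
    have h1 := Subgroup.card_le_of_le hg
    rw [hcardconj, card_defect_group hM hB' hD'] at h1
    rw [← hQG, hQcard] at h1
    exact hpow _ _ h1
  -- lower bound
  have hlow : e ≤ blockDefect p B := by
    have hA : IsBlockUnion M (overSet N b) := isBlockUnion_over N hst (isBlockUnion_of_isPBlock hb)
    have hcoef : blockCoeff (overSet N b) (x : G) = blockCoeff b x := by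
      have h1 : (incl N (blockElt b)).coeff (x : G) = (blockElt (overSet N b)).coeff (x : G) := by
        rw [incl_blockElt_eq_over N hst]
      rw [coeff_incl_coe, coeff_blockElt, coeff_blockElt] at h1
      exact h1.symm
    obtain ⟨B₁, hB₁, hsub, hB₁x⟩ := exists_block_of_blockCoeff hA (g := (x : G)) (by rw [hcoef]; exact hxa)
    obtain ⟨χ₁, hχ₁⟩ := IsPBlock_nonempty hB₁
    obtain ⟨θ₁, hθ₁, hc₁⟩ := hsub hχ₁
    obtain ⟨D₁, hD₁⟩ := exists_isDefectGroup hM hB₁
    obtain ⟨y₁, hy₁, Q₁, hQ₁⟩ := id hD₁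
    obtain ⟨g, hg⟩ := minmax_le hM hB₁ hχ₁ (hy₁.2.2 χ₁ hχ₁) hB₁x hQp hQC Q₁
    have h1 := Subgroup.card_le_of_le hg
    rw [hcardconj, ← hQ₁, card_defect_group hM hB₁ hD₁, hQcard] at h1
    exact (hpow _ _ h1).trans (hmax B₁ hB₁ ⟨χ₁, hχ₁, θ₁, hθ₁, hc₁⟩)
  have hdB : blockDefect p B = e := le_antisymm (hup B hB hcov) hlow
  -- defect of `b`
  have hdb : blockDefect p b = e₀ := by
    obtain ⟨Q₀⟩ : Nonempty (Sylow p CN) := inferInstance
    have hD₀ : IsDefectGroup p M b ((Q₀ : Subgroup CN).map CN.subtype) :=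
      ⟨x, ⟨by rw [← coeff_blockElt]; exact localCoeff_blockElt (isBlockUnion_of_isPBlock hb) x, hxa, hxl⟩, Q₀, rfl⟩
    have h1 := card_defect_group hM hb hD₀
    rw [card_map_sylow Q₀] at h1
    exact (Nat.pow_right_injective hp.out.two_le h1).symm
  -- `P` is conjugate to `QG`
  obtain ⟨χ, hχ, θ, hθ, hc⟩ := id hcov
  obtain ⟨y, hy, Qy, hQy⟩ := id hP
  have hPp : IsPGroup p P := isPGroup_of_isDefectGroup hP
  have hPC : P ≤ Subgroup.centralizer ({y} : Set G) := by
    rw [hQy]
    rintro _ ⟨a, _, rfl⟩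
    exact a.2
  obtain ⟨g, hg⟩ := minmax_le hM hB hχ (hcentral hθ hc) hy.2.1 hPp hPC Q
  rw [← hQG] at hg
  have hPcard : Nat.card P = p ^ e := by rw [card_defect_group hM hB hP, hdB]
  have hPeq : P = QG.map (MulAut.conj g).toMonoidHom :=
    Subgroup.eq_of_le_of_card_ge hg (by rw [hcardconj, hQcard, hPcard])
  -- the conjugate class
  set y'N : N := conjEquiv hN g x with hy'N
  have hy'G : (y'N : G) = g * x * g⁻¹ := rfl
  have hPcent : P ≤ Subgroup.centralizer ({(y'N : G)} : Set G) := by
    rw [hPeq]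
    rintro _ ⟨q, hq, rfl⟩
    have hq' : q * (x : G) = x * q := mem_centralizer_singleton.1 (hQC hq)
    rw [mem_centralizer_singleton, hy'G]
    show g * q * g⁻¹ * (g * x * g⁻¹) = g * x * g⁻¹ * (g * q * g⁻¹)
    calc g * q * g⁻¹ * (g * x * g⁻¹) = g * (q * x) * g⁻¹ := by group
      _ = g * (x * q) * g⁻¹ := by rw [hq']
      _ = g * x * g⁻¹ * (g * q * g⁻¹) := by group
  set CN' := Subgroup.centralizer ({y'N} : Set N) with hCN'
  have hleCN' : (P ⊓ N).subgroupOf N ≤ CN' := by
    intro a ha
    have ha' : (a : G) ∈ P := (Subgroup.mem_subgroupOf.1 ha).1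
    rw [hCN', mem_centralizer_singleton]
    apply Subtype.ext
    exact mem_centralizer_singleton.1 (hPcent ha')
  have hcardCN' : Nat.card CN' = Nat.card CN := by
    have h1 := index_centralizer_equiv (conjEquiv hN g) x
    have h2 := Subgroup.card_mul_index CN'
    have h3 := Subgroup.card_mul_index CN
    rw [show CN'.index = CN.index from h1] at h2
    have h4 : 0 < CN.index := Nat.pos_of_ne_zero Subgroup.index_ne_zero_of_finite
    exact Nat.eq_of_mul_eq_mul_right h4 (h2.trans h3.symm)
  -- numerics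
  have hcardPN : Nat.card ((P ⊓ N).subgroupOf N) = Nat.card (P ⊓ N : Subgroup G) :=
    Nat.card_congr (Subgroup.subgroupOfEquivOfLe inf_le_right).toEquiv
  obtain ⟨m, hm⟩ : ∃ m, Nat.card (P ⊓ N : Subgroup G) = p ^ m := IsPGroup.iff_card.1 (hPp.to_le inf_le_left)
  have hmle : m ≤ e₀ := by
    have h1 : Nat.card ((P ⊓ N).subgroupOf N) ∣ Nat.card CN' := Subgroup.card_dvd_of_le hleCN'
    rw [hcardPN, hm, hcardCN'] at h1
    exact (hp.out.pow_dvd_iff_le_factorization Nat.card_pos.ne').1 h1
  have hr1 : N.relIndex (P ⊔ N) = N.relIndex P := Subgroup.relIndex_sup_right P N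
  have hr2 : N.relIndex (P ⊔ N) * (P ⊔ N).index = N.index := Subgroup.relIndex_mul_index le_sup_right
  have hr3 : Nat.card (N.subgroupOf P) * N.relIndex P = Nat.card P := Subgroup.card_mul_index (N.subgroupOf P)
  have hr4 : Nat.card (N.subgroupOf P) = Nat.card (P ⊓ N : Subgroup G) := by
    refine Nat.card_congr
      { toFun := fun a => ⟨(a : P), (a : P).2, Subgroup.mem_subgroupOf.1 a.2⟩
        invFun := fun a => ⟨⟨a, a.2.1⟩, Subgroup.mem_subgroupOf.2 a.2.2⟩
        left_inv := fun a => rfl
        right_inv := fun a => rfl }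
  have hr0 : N.relIndex P ≠ 0 := Subgroup.index_ne_zero_of_finite
  have hi0 : (P ⊔ N).index ≠ 0 := Subgroup.index_ne_zero_of_finite
  have hv1 : N.index.factorization p = (N.relIndex P).factorization p + (P ⊔ N).index.factorization p := by
    rw [← hr2, hr1, Nat.factorization_mul hr0 hi0, Finsupp.add_apply]
  have hv2 : e = m + (N.relIndex P).factorization p := by
    have h1 : (Nat.card P).factorization p = e := by
      rw [hPcard, Nat.factorization_pow, Finsupp.smul_apply, hp.out.factorization]
      simp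
    rw [← h1, ← hr3, Nat.factorization_mul Nat.card_pos.ne' hr0, Finsupp.add_apply, hr4, hm,
      Nat.factorization_pow, Finsupp.smul_apply, hp.out.factorization]
    simp
  have hv3 : (P ⊔ N).index.factorization p = 0 := by omega
  have hm₀ : m = e₀ := by omega
  refine ⟨?_, ?_, by rw [hdB, hdb, hfac]⟩
  · intro hd
    have := (hp.out.dvd_iff_one_le_factorization hi0).1 hd
    omega
  · have hcardH : Nat.card (((P ⊓ N).subgroupOf N).subgroupOf CN') =
        p ^ (Nat.card CN').factorization p := by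
      have h1 : Nat.card (((P ⊓ N).subgroupOf N).subgroupOf CN') = Nat.card ((P ⊓ N).subgroupOf N) :=
        Nat.card_congr (Subgroup.subgroupOfEquivOfLe hleCN').toEquiv
      rw [h1, hcardPN, hm, hcardCN', hm₀]
    refine ⟨y'N, ⟨?_, ?_, ?_⟩, Sylow.ofCard _ hcardH, ?_⟩
    · rw [← coeff_blockElt]
      exact localCoeff_blockElt (isBlockUnion_of_isPBlock hb) _
    · rw [hy'N, blockCoeff_conjEquiv hst]
      exact hxa
    · intro θ₂ hθ₂
      rw [hy'N, centralChar_conjEquiv]
      exact hxl _ (hst g θ₂ hθ₂)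
    · rw [Sylow.coe_ofCard]
      exact (Subgroup.map_subgroupOf_eq_of_le hleCN').symm

end Main

end Cfsg.Agent.Lib.Block
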