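import Cfsg.Agent.Lib.Block.Fong

/-!
# The `p`-power map on the group algebra, modulo the local ideal
-/

set_option autoImplicit false
set_option linter.unusedSectionVars false
set_option linter.unusedSimpArgs false
set_option linter.unusedVariables false

open scoped ComplexConjugate
open Cfsg MonoidAlgebra Cfsg.Agent.Lib.Char

namespace Cfsg.Agent.Lib.Block

section Comm

variable {p : ℕ} [hp : Fact p.Prime] {M : Ideal AlgInt} [M.IsPrime]

/-- Congruent elements have congruent powers. -/
theorem memLocalIdeal_pow_sub_pow {a b : ℂ} (ha : MemLocalRing M a) (hb : MemLocalRing M b)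
    (h : MemLocalIdeal M (a - b)) (n : ℕ) : MemLocalIdeal M (a ^ n - b ^ n) := by
  have h1 := (Commute.all a b).mul_geom_sum₂ n
  rw [← h1]
  refine memLocalIdeal_mul_right h ?_
  exact memLocalRing_sum _ _ fun i _ => memLocalRing_mul (memLocalRing_pow ha _) (memLocalRing_pow hb _)

/-- The freshman's dream modulo the local ideal. -/
theorem memLocalIdeal_add_pow_prime_sub (hM : IsPModular p M) {a b : ℂ} (ha : MemLocalRing M a) (hb : MemLocalRing M b) :
    MemLocalIdeal M ((a + b) ^ p - (a ^ p + b ^ p)) := by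
  obtain ⟨r, hr⟩ := exists_add_pow_prime_eq hp.out (⟨a, ha⟩ : localRing M) (⟨b, hb⟩ : localRing M)
  have h1 := congrArg (Subtype.val) hr
  simp only [Subring.coe_pow, Subring.coe_add, Subring.coe_mul, Subring.coe_natCast] at h1
  rw [h1, add_sub_cancel_left]
  refine memLocalIdeal_mul_right (memLocalIdeal_mul_right (memLocalIdeal_mul_right (memLocalIdeal_p hM) ha) hb) r.2

/-- The freshman's dream for finite sums. -/
theorem memLocalIdeal_sum_pow_prime_sub (hM : IsPModular p M) {ι : Type*} (s : Finset ι) (u : ι → ℂ)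
    (hu : ∀ i, MemLocalRing M (u i)) : MemLocalIdeal M ((∑ i ∈ s, u i) ^ p - ∑ i ∈ s, u i ^ p) := by
  classical
  induction s using Finset.induction_on with
  | empty =>
    simp [zero_pow hp.out.ne_zero, memLocalIdeal_zero]
  | insert a s ha ih =>
    rw [Finset.sum_insert ha, Finset.sum_insert ha]
    have hs : MemLocalRing M (∑ i ∈ s, u i) := memLocalRing_sum _ _ fun i _ => hu i
    have h1 := memLocalIdeal_add_pow_prime_sub hM (hu a) hs
    have h2 := memLocalIdeal_add h1 ih
    have e : (u a + ∑ i ∈ s, u i) ^ p - (u a ^ p + ∑ i ∈ s, u i ^ p) =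
        ((u a + ∑ i ∈ s, u i) ^ p - (u a ^ p + (∑ i ∈ s, u i) ^ p)) + ((∑ i ∈ s, u i) ^ p - ∑ i ∈ s, u i ^ p) := by
      ring
    rw [e]
    exact h2

/-- The freshman's dream for `p ^ n`-th powers of finite sums. -/
theorem memLocalIdeal_sum_pow_sub (hM : IsPModular p M) {ι : Type*} (s : Finset ι) (u : ι → ℂ)
    (hu : ∀ i, MemLocalRing M (u i)) (n : ℕ) : MemLocalIdeal M ((∑ i ∈ s, u i) ^ p ^ n - ∑ i ∈ s, u i ^ p ^ n) := by
  induction n with
  | zero =>
    simp [memLocalIdeal_zero]
  | succ n ih =>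
    have hs : MemLocalRing M (∑ i ∈ s, u i) := memLocalRing_sum _ _ fun i _ => hu i
    have hs' : MemLocalRing M (∑ i ∈ s, u i ^ p ^ n) := memLocalRing_sum _ _ fun i _ => memLocalRing_pow (hu i) _
    have h1 := memLocalIdeal_pow_sub_pow (memLocalRing_pow hs _) hs' ih p
    have h2 := memLocalIdeal_sum_pow_prime_sub hM s (fun i => u i ^ p ^ n) (fun i => memLocalRing_pow (hu i) _)
    have h3 := memLocalIdeal_add h1 h2
    have e : (∑ i ∈ s, u i) ^ p ^ (n + 1) - ∑ i ∈ s, u i ^ p ^ (n + 1) =
        (((∑ i ∈ s, u i) ^ p ^ n) ^ p - (∑ i ∈ s, u i ^ p ^ n) ^ p) +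
          ((∑ i ∈ s, u i ^ p ^ n) ^ p - ∑ i ∈ s, (u i ^ p ^ n) ^ p) := by
      simp only [← pow_mul, ← pow_succ]
      ring
    rw [e]
    exact h3

/-- Fermat modulo the local ideal. -/
theorem memLocalIdeal_natCast_pow_sub (hM : IsPModular p M) (m n : ℕ) :
    MemLocalIdeal M ((m : ℂ) ^ p ^ n - (m : ℂ)) := by
  have h1 : (((m : ℤ) ^ p ^ n - (m : ℤ) : ℤ) : ZMod p) = 0 := by
    push_cast
    rw [ZMod.pow_card_pow, sub_self]
  have h2 := (ZMod.intCast_zmod_eq_zero_iff_dvd _ p).1 h1
  have h3 := (memLocalIdeal_intCast_iff hM _).2 h2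
  push_cast at h3
  exact h3

end Comm

section Power

variable {G : Type*} [Group G] [Fintype G] {p : ℕ} [hp : Fact p.Prime] {M : Ideal AlgInt} [M.IsPrime]

/-- A vector fixed by rotation is constant. -/
theorem exists_eq_replicate_of_rot {N : ℕ} (hN : 0 < N) (v : List.Vector G N) (h : rotPerm (1 : G) N v = v) :
    ∃ g : G, v.1 = List.replicate N g := by
  have h1 : rotTw (conjBy (1 : G)) v.1 = v.1 := congrArg Subtype.val h
  have h2 : rotTw (conjBy (1 : G)) v.1 = v.1.rotate 1 := by
    obtain ⟨l, hl⟩ := v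
    cases l with
    | nil => simp [rotTw]
    | cons a l =>
      simp [rotTw, conjBy]
  rw [h2, List.rotate_one_eq_self_iff_eq_replicate] at h1
  obtain ⟨g, hg⟩ := h1
  refine ⟨g, ?_⟩
  rw [v.2] at hg
  exact hg

/-- **The `p`-power map** on `φ`-traces. -/
theorem memLocalIdeal_tr_pow_sub (hM : IsPModular p M) (z : MonoidAlgebra ℂ G) (hz : LocalCoeff M z) (φ : G → ℂ)
    (hφS : ∀ g, MemLocalRing M (φ g)) (hφ : ∀ x g, φ (x * g * x⁻¹) = φ g) (n : ℕ) :
    MemLocalIdeal M (tr φ (z ^ p ^ n) - ∑ g, z.coeff g ^ p ^ n * φ (g ^ p ^ n)) := by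
  classical
  rw [tr_pow_vec]
  set N := p ^ n with hN
  have hNpos : 0 < N := pow_pos hp.out.pos n
  set σ := rotPerm (1 : G) N with hσ
  set w : List.Vector G N → ℂ := fun v => (v.toList.map z.coeff).prod * φ v.toList.prod with hw
  have hwS : ∀ v, MemLocalRing M (w v) := by
    intro v
    refine memLocalRing_mul ?_ (hφS _)
    show _ ∈ localRing M
    apply Subring.list_prod_mem
    intro x hx
    obtain ⟨g, _, rfl⟩ := List.mem_map.mp hx
    exact hz g
  have hwinv : ∀ v, w (σ v) = w v := by
    intro v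
    have := rot_weight_eq (1 : G) z.coeff φ (by simp) hφ v.1
    have h3 : (σ v).toList = rotTw (conjBy 1) v.1 := rfl
    simp only [hw]
    rw [h3]
    simpa [List.Vector.toList] using this
  set w' : List.Vector G N → ℂ := fun v => if σ v = v then 0 else w v with hw'
  have hsplit : ∑ v, w v = ∑ v, w' v + ∑ v ∈ Finset.univ.filter (fun v => σ v = v), w v := by
    rw [Finset.sum_filter, ← Finset.sum_add_distrib]
    refine Finset.sum_congr rfl fun v _ => ?_
    simp only [hw']
    split_ifs <;> simp
  have hfixsum : ∑ v ∈ Finset.univ.filter (fun v => σ v = v), w v = ∑ g, z.coeff g ^ N * φ (g ^ N) := by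
    symm
    refine Finset.sum_bij (fun g _ => (⟨List.replicate N g, by simp⟩ : List.Vector G N)) ?_ ?_ ?_ ?_
    · intro g _
      refine Finset.mem_filter.2 ⟨Finset.mem_univ _, ?_⟩
      apply Subtype.ext
      show rotTw (conjBy (1 : G)) (List.replicate N g) = List.replicate N g
      obtain ⟨N', hN'⟩ : ∃ N', N = N' + 1 := ⟨N - 1, by omega⟩
      rw [hN', List.replicate_succ]
      simp only [rotTw, conjBy, one_mul, inv_one, mul_one]
      rw [← List.replicate_succ, ← List.replicate_succ']
    · intro g _ g' _ he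
      have h1 := congrArg Subtype.val he
      simp only at h1
      have h2 := List.replicate_right_inj (n := N) (by omega) |>.1 h1
      exact h2
    · intro v hv
      have hv' := (Finset.mem_filter.1 hv).2
      obtain ⟨g, hg⟩ := exists_eq_replicate_of_rot hNpos v hv'
      exact ⟨g, Finset.mem_univ _, Subtype.ext hg.symm⟩
    · intro g _
      simp only [hw, List.Vector.toList]
      simp
  have hw'S : ∀ v, w' v ∈ localRing M := by
    intro v
    simp only [hw']
    split_ifs
    · exact (localRing M).zero_mem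
    · exact hwS v
  have hw'inv : ∀ v, w' (σ v) = w' v := by
    intro v
    simp only [hw']
    have h1 : σ (σ v) = σ v ↔ σ v = v := by
      constructor
      · intro h
        exact σ.injective h
      · intro h
        rw [h, h]
    by_cases h : σ v = v
    · rw [if_pos h, if_pos (h1.2 h)]
    · rw [if_neg h, if_neg (fun h2 => h (h1.1 h2)), hwinv]
  obtain ⟨r, hr, hsum⟩ := exists_sum_eq_mul_of_perm (localRing M) σ p w' hw'S hw'inv (by
    intro v hv
    have hfix : σ v ≠ v := by
      intro h
      apply hv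
      simp only [hw']
      rw [if_pos h]
    have h1 : (rotVec (1 : G) N)^[N] v = v := by
      apply Subtype.ext
      rw [rotVec_iterate_N]
      conv_rhs => rw [← List.map_id v.1]
      apply List.map_congr_left
      intro x _
      simp [conjBy]
    have h2 : Function.minimalPeriod σ v ∣ p ^ n := Function.IsPeriodicPt.minimalPeriod_dvd h1
    obtain ⟨j, _, hj⟩ := (Nat.dvd_prime_pow hp.out).1 h2
    rw [hj]
    rcases j with _ | j
    · exfalso
      rw [pow_zero] at hj
      exact hfix (Function.minimalPeriod_eq_one_iff_isFixedPt.1 hj)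
    · exact dvd_pow_self p (Nat.succ_ne_zero j))
  have e : ∑ v : List.Vector G N, (v.toList.map z.coeff).prod * φ v.toList.prod = ∑ v, w v := rfl
  rw [e, hsplit, hfixsum, hsum, add_sub_cancel_right]
  exact memLocalIdeal_mul_right (memLocalIdeal_p hM) hr

open Classical in
/-- The `p`-elements. -/
noncomputable def pElts (G : Type*) [Group G] [Fintype G] (p : ℕ) : Finset G :=
  Finset.univ.filter (fun x : G => ∃ k, orderOf x = p ^ k)

theorem mem_pElts {x : G} : x ∈ pElts G p ↔ ∃ k, orderOf x = p ^ k := by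
  classical
  simp [pElts]

theorem pow_eq_one_iff_mem_pElts {n : ℕ} (hn : (Nat.card G).factorization p ≤ n) (x : G) :
    x ^ p ^ n = 1 ↔ x ∈ pElts G p := by
  rw [mem_pElts]
  constructor
  · intro h
    obtain ⟨j, _, hj⟩ := (Nat.dvd_prime_pow hp.out).1 (orderOf_dvd_of_pow_eq_one h)
    exact ⟨j, hj⟩
  · rintro ⟨k, hk⟩
    have h1 : p ^ k ∣ Nat.card G := by
      rw [← hk]
      exact orderOf_dvd_natCard x
    have h2 : k ≤ (Nat.card G).factorization p := (hp.out.pow_dvd_iff_le_factorization Nat.card_pos.ne').1 h1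
    rw [← orderOf_dvd_iff_pow_eq_one, hk]
    exact pow_dvd_pow p (h2.trans hn)

/-- The coefficient at `1` of a `p ^ n`-th power. -/
theorem memLocalIdeal_coeff_one_pow_sub (hM : IsPModular p M) (a : MonoidAlgebra ℂ G) (ha : LocalCoeff M a) {n : ℕ}
    (hn : (Nat.card G).factorization p ≤ n) :
    MemLocalIdeal M ((a ^ p ^ n).coeff 1 - (∑ x ∈ pElts G p, a.coeff x) ^ p ^ n) := by
  classical
  set φ : G → ℂ := fun g => if g = 1 then 1 else 0 with hφ
  have hφS : ∀ g, MemLocalRing M (φ g) := by
    intro g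
    simp only [hφ]
    split_ifs
    · exact memLocalRing_one
    · exact memLocalRing_zero
  have hφc : ∀ x g, φ (x * g * x⁻¹) = φ g := by
    intro x g
    simp only [hφ]
    have : x * g * x⁻¹ = 1 ↔ g = 1 := by
      constructor
      · intro h
        have h2 : g = x⁻¹ * (x * g * x⁻¹) * x := by group
        rw [h2, h]
        group
      · rintro rfl
        group
    simp only [this]
  have htr : ∀ w : MonoidAlgebra ℂ G, tr φ w = w.coeff 1 := by
    intro w
    unfold tr
    rw [Finset.sum_eq_single 1]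
    · simp [hφ]
    · intro b _ hb
      simp [hφ, hb]
    · simp
  have h1 := memLocalIdeal_tr_pow_sub hM a ha φ hφS hφc n
  rw [htr] at h1
  have h2 : ∑ g, a.coeff g ^ p ^ n * φ (g ^ p ^ n) = ∑ x ∈ pElts G p, a.coeff x ^ p ^ n := by
    rw [pElts, Finset.sum_filter]
    refine Finset.sum_congr rfl fun g _ => ?_
    by_cases hg : ∃ k, orderOf g = p ^ k
    · have : g ^ p ^ n = 1 := (pow_eq_one_iff_mem_pElts hn g).2 (mem_pElts.2 hg)
      rw [if_pos hg]
      simp [hφ, this]
    · have : g ^ p ^ n ≠ 1 := fun h => hg (mem_pElts.1 ((pow_eq_one_iff_mem_pElts hn g).1 h))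
      rw [if_neg hg]
      simp [hφ, this]
  rw [h2] at h1
  have h3 := memLocalIdeal_sum_pow_sub hM (pElts G p) a.coeff ha n
  rw [memLocalIdeal_sub_comm] at h3
  exact memLocalIdeal_sub_trans h1 h3

/-- The `p ^ n`-th power of a central element times a group element. -/
theorem pow_mul_single_of_central {z : MonoidAlgebra ℂ G} (hz : IsCentralElt z) (g : G) (m : ℕ) :
    (z * MonoidAlgebra.single g⁻¹ 1) ^ m = z ^ m * MonoidAlgebra.single (g ^ m)⁻¹ 1 := by
  have hcomm : Commute z (MonoidAlgebra.single g⁻¹ (1 : ℂ)) := isCentralElt_commute hz _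
  rw [hcomm.mul_pow, MonoidAlgebra.single_pow, one_pow, inv_pow]

theorem coeff_mul_single_inv (z : MonoidAlgebra ℂ G) (g x : G) :
    (z * MonoidAlgebra.single g⁻¹ 1).coeff x = z.coeff (x * g) := by
  simp [MonoidAlgebra.coeff_mul_single_apply]

theorem coeff_one_pow_mul_single {z : MonoidAlgebra ℂ G} (hz : IsCentralElt z) (g : G) (m : ℕ) :
    ((z * MonoidAlgebra.single g⁻¹ 1) ^ m).coeff 1 = (z ^ m).coeff (g ^ m) := by
  rw [pow_mul_single_of_central hz, MonoidAlgebra.coeff_mul_single_apply]
  simp

/-- A central element with central characters in the local ideal: the sum over the `p`-elements. -/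
theorem memLocalIdeal_sum_pElts_of_om {t : MonoidAlgebra ℂ G} (hM : IsPModular p M) (ht : IsCentralElt t)
    (hl : LocalCoeff M t) (h : ∀ ξ : IrrCharacter G, MemLocalIdeal M (om (ξ : G → ℂ) t)) (g : G) :
    MemLocalIdeal M (∑ x ∈ pElts G p, t.coeff (x * g)) := by
  classical
  set K := Fintype.card (IrrCharacter G) with hK
  set n := (Nat.card G).factorization p + K with hn
  have hKle : K ≤ p ^ n := by
    have h1 : n < p ^ n := Nat.lt_pow_self hp.out.one_lt
    omega
  have h1 : LocalIdealCoeff M (t ^ K) := localIdealCoeff_pow_of_om ht hl h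
  have h2 : LocalIdealCoeff M (t ^ p ^ n) := by
    have e : t ^ p ^ n = t ^ K * t ^ (p ^ n - K) := by
      rw [← pow_add]
      congr 1
      omega
    rw [e]
    exact localIdealCoeff_mul_right h1 (localCoeff_pow hl _)
  set a := t * MonoidAlgebra.single g⁻¹ 1 with ha
  have hal : LocalCoeff M a := by
    intro x
    rw [ha, coeff_mul_single_inv]
    exact hl _
  have h3 := memLocalIdeal_coeff_one_pow_sub hM a hal (n := n) (by omega)
  rw [ha, coeff_one_pow_mul_single ht] at h3
  have h4 := h2 (g ^ p ^ n)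
  have h5 := memLocalIdeal_sub h4 h3
  rw [sub_sub_cancel] at h5
  simp only [coeff_mul_single_inv] at h5
  exact memLocalIdeal_of_pow (memLocalRing_sum _ _ fun x _ => hl _) h5

/-- A central idempotent at a regular element: the sum over the `p`-elements recovers the coefficient up to
Frobenius. -/
theorem exists_idempotent_coeff_eq {f : MonoidAlgebra ℂ G} (hM : IsPModular p M) (hf : IsCentralElt f)
    (hl : LocalCoeff M f) (hf2 : f * f = f) {g : G} (hg : ¬ p ∣ orderOf g) (k : ℕ) :
    ∃ n ≥ k, MemLocalIdeal M (f.coeff g - (∑ x ∈ pElts G p, f.coeff (x * g)) ^ p ^ n) := by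
  classical
  have hcop : Nat.Coprime p (orderOf g) := (Nat.Prime.coprime_iff_not_dvd hp.out).mpr hg
  have hpos : 0 < (orderOf g).totient := Nat.totient_pos.mpr (orderOf_pos g)
  set n := (k + (Nat.card G).factorization p + 1) * (orderOf g).totient with hn
  have hnk : k + (Nat.card G).factorization p ≤ n := by nlinarith
  refine ⟨n, by omega, ?_⟩
  have h1 : p ^ (orderOf g).totient ≡ 1 [MOD orderOf g] := Nat.ModEq.pow_totient hcop
  have h2 : p ^ n ≡ 1 [MOD orderOf g] := by
    rw [hn, mul_comm, pow_mul]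
    simpa using h1.pow (k + (Nat.card G).factorization p + 1)
  have hpow : g ^ p ^ n = g := by
    have := pow_eq_pow_iff_modEq.2 h2
    simpa using this
  have hidem : ∀ m : ℕ, 0 < m → f ^ m = f := by
    intro m hm
    induction m, hm using Nat.le_induction with
    | base => simp
    | succ m _ ih => rw [pow_succ, ih, hf2]
  set a := f * MonoidAlgebra.single g⁻¹ 1 with ha
  have hal : LocalCoeff M a := by
    intro x
    rw [ha, coeff_mul_single_inv]
    exact hl _
  have h3 := memLocalIdeal_coeff_one_pow_sub hM a hal (n := n) (by omega)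
  rw [ha, coeff_one_pow_mul_single hf, hpow, hidem _ (pow_pos hp.out.pos n)] at h3
  simp only [coeff_mul_single_inv] at h3
  exact h3

end Power

section Kulshammer

variable {G : Type*} [Group G] [Fintype G] {p : ℕ} [hp : Fact p.Prime] {M : Ideal AlgInt}

/-- **Külshammer's formula.** -/
theorem kulshammer (hM : IsPModular p M) {g : G} (hg : ¬ p ∣ orderOf g) :
    MemLocalIdeal M (blockCoeff (principalBlock M G) g -
      (Nat.card {xy : G × G // (∃ k : ℕ, orderOf xy.1 = p ^ k) ∧ ¬ p ∣ orderOf xy.2 ∧ xy.1 * xy.2 = g} : ℂ) /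
        (Nat.card {y : G // ¬ p ∣ orderOf y} : ℂ)) := by
  classical
  have := isPModular_isPrime hM
  set B₀ := principalBlock M G with hB₀
  have hU : IsBlockUnion M B₀ := isBlockUnion_of_isPBlock (isPBlock_blockOf (oneIrr G))
  set f := blockElt B₀ with hf
  set Ω := regSum G p with hΩ
  set Rn := Nat.card {y : G // ¬ p ∣ orderOf y} with hRn
  set R : ℂ := (Rn : ℂ) with hR
  have hfc : IsCentralElt f := isCentralElt_blockElt B₀
  have hfl : LocalCoeff M f := localCoeff_blockElt hU
  have hΩc : IsCentralElt Ω := isCentralElt_regSum p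
  have hΩl : LocalCoeff M Ω := localCoeff_regSum p
  have hRnot : ¬ MemLocalIdeal M R := not_memLocalIdeal_card_regular hM
  have hRdvd : ¬ p ∣ Rn := not_dvd_card_regular
  have hRinv : MemLocalRing M (R⁻¹) := memLocalRing_natCast_inv hM hRdvd
  have hR0 : R ≠ 0 := by
    intro h
    rw [h] at hRnot
    exact hRnot memLocalIdeal_zero
  set t := Ω - R • f with ht
  have htc : IsCentralElt t := isCentralElt_sub hΩc (isCentralElt_smul _ hfc)
  have htl : LocalCoeff M t := localCoeff_sub hΩl (localCoeff_smul (memLocalRing_natCast _) hfl)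
  have hom : ∀ ξ : IrrCharacter G, MemLocalIdeal M (om (ξ : G → ℂ) t) := by
    intro ξ
    rw [ht, om_sub, om_smul]
    by_cases hξ : ξ ∈ B₀
    · rw [om_blockElt_of_mem hξ, mul_one]
      have h1 := memLocalIdeal_om_sub ξ.2 (oneIrr G).2 (sameBlock_symm hξ) hΩc hΩl
      rw [oneIrr_coe, om_one_regSum] at h1
      exact h1
    · rw [om_blockElt_of_notMem hξ, mul_zero, sub_zero, om_regSum_of_notMem hM hξ]
      exact memLocalIdeal_zero
  have h1 := memLocalIdeal_sum_pElts_of_om hM htc htl hom g
  -- the count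
  set Nn := Nat.card {xy : G × G // (∃ k : ℕ, orderOf xy.1 = p ^ k) ∧ ¬ p ∣ orderOf xy.2 ∧ xy.1 * xy.2 = g} with hNn
  set c := ∑ x ∈ pElts G p, f.coeff (x * g) with hc
  have hcount : ∑ x ∈ pElts G p, Ω.coeff (x * g) = (Nn : ℂ) := by
    have e1 : Nn = ((pElts G p).filter (fun x => ¬ p ∣ orderOf (x * g))).card := by
      rw [hNn, ← Fintype.card_coe, ← Nat.card_eq_fintype_card]
      refine Nat.card_congr
        { toFun := fun a => ⟨a.1.1⁻¹, Finset.mem_filter.2 ⟨mem_pElts.2 (by
              obtain ⟨k, hk⟩ := a.2.1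
              exact ⟨k, by rw [orderOf_inv, hk]⟩), by
              obtain ⟨_, h2, h3⟩ := a.2
              have e : (a.1).1⁻¹ * g = (a.1).2 := by
                rw [inv_mul_eq_iff_eq_mul]
                exact h3.symm
              rw [e]
              exact h2⟩⟩
          invFun := fun a => ⟨(a.1⁻¹, a.1 * g), by
              obtain ⟨h2, h3⟩ := Finset.mem_filter.1 a.2
              obtain ⟨k, hk⟩ := mem_pElts.1 h2
              refine ⟨⟨k, by rw [orderOf_inv, hk]⟩, h3, by simp⟩⟩
          left_inv := fun a => by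
            apply Subtype.ext
            obtain ⟨⟨x, y⟩, _, _, h3⟩ := a
            simp only at h3
            subst h3
            simp
          right_inv := fun a => by
            apply Subtype.ext
            simp }
    rw [e1, Finset.card_filter]
    push_cast
    refine Finset.sum_congr rfl fun x _ => ?_
    rw [hΩ, coeff_regSum]
    by_cases h : p ∣ orderOf (x * g) <;> simp [h]
  have h2 : ∑ x ∈ pElts G p, t.coeff (x * g) = (Nn : ℂ) - R * c := by
    rw [← hcount, hc, Finset.mul_sum, ← Finset.sum_sub_distrib]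
    refine Finset.sum_congr rfl fun x _ => ?_
    rw [ht, MonoidAlgebra.coeff_sub, Finsupp.sub_apply, MonoidAlgebra.coeff_smul, Finsupp.smul_apply, smul_eq_mul]
  rw [h2] at h1
  set u : ℂ := (Nn : ℂ) / R with hu
  have huR : u * R = Nn := by
    rw [hu]
    field_simp
  have hul : MemLocalRing M u := by
    rw [hu, div_eq_mul_inv]
    exact memLocalRing_mul (memLocalRing_natCast _) hRinv
  have hcl : MemLocalRing M c := memLocalRing_sum _ _ fun x _ => hfl _
  have hcu : MemLocalIdeal M (c - u) := by
    have h3 := memLocalIdeal_mul_left hRinv (memLocalIdeal_neg h1)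
    have e : R⁻¹ * -((Nn : ℂ) - R * c) = c - u := by
      rw [hu]
      field_simp
      ring
    rwa [e] at h3
  obtain ⟨n, -, hn⟩ := exists_idempotent_coeff_eq hM hfc hfl (blockElt_mul_self B₀) hg 0
  rw [hf, coeff_blockElt] at hn
  have h4 := memLocalIdeal_pow_sub_pow hcl hul hcu (p ^ n)
  -- Fermat for `u`
  have h5 : MemLocalIdeal M (u ^ p ^ n - u) := by
    have h6 := memLocalIdeal_natCast_pow_sub hM Nn n
    have h7 := memLocalIdeal_natCast_pow_sub hM Rn n
    have h8 : (u ^ p ^ n - u) * R = (Nn : ℂ) ^ p ^ n - Nn - u ^ p ^ n * ((Rn : ℂ) ^ p ^ n - Rn) := by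
      rw [← huR, mul_pow]
      ring
    have h9 : MemLocalIdeal M ((u ^ p ^ n - u) * R) := by
      rw [h8]
      exact memLocalIdeal_sub h6 (memLocalIdeal_mul_left (memLocalRing_pow hul _) h7)
    have h10 := memLocalIdeal_mul_left hRinv h9
    have e : R⁻¹ * ((u ^ p ^ n - u) * R) = u ^ p ^ n - u := by
      field_simp
    rwa [e] at h10
  exact memLocalIdeal_sub_trans hn (memLocalIdeal_sub_trans h4 h5)

end Kulshammer

end Cfsg.Agent.Lib.Block
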