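import Cfsg.Agent.Lib.Block.CentralDefect

/-!
# Blocks of `G = P C_G(P)` with defect group `P`, continued
-/

set_option autoImplicit false
set_option linter.unusedSectionVars false
set_option linter.unusedSimpArgs false
set_option linter.unusedVariables false

open scoped ComplexConjugate
open Cfsg MonoidAlgebra Cfsg.Agent.Lib.Char

namespace Cfsg.Agent.Lib.Block

section PC

variable {G : Type*} [Group G] [Fintype G] {p : ℕ} [hp : Fact p.Prime] {M : Ideal AlgInt} {P : Subgroup G}

theorem isPGroup_of_isDefectGroup {B : Set (IrrCharacter G)} (hD : IsDefectGroup p M B P) : IsPGroup p P := by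
  obtain ⟨y, _, Q, rfl⟩ := hD
  exact (Q.isPGroup').map _

/-- Degrees of characters in a block with normal defect group `P` having `P` in the kernel. -/
theorem factorization_degree_eq [hPn : P.Normal] (hM : IsPModular p M) {B : Set (IrrCharacter G)}
    (hD : IsDefectGroup p M B P) {θ : IrrCharacter G} (hθ : θ ∈ B) (hker : ∀ x ∈ P, (θ : G → ℂ) x = (θ : G → ℂ) 1) :
    (charDegree (θ : G → ℂ)).factorization p = P.index.factorization p := by
  classical
  have := isPModular_isPrime hM
  have hidx0 : P.index ≠ 0 := Subgroup.index_ne_zero_of_finite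
  apply le_antisymm
  · obtain ⟨ψ, rfl⟩ := Cfsg.Agent.Lib.Degree.exists_inflate P hker
    have h1 : charDegree ((Cfsg.Agent.Lib.Degree.inflate P ψ : IrrCharacter G) : G → ℂ) =
        charDegree (ψ : G ⧸ P → ℂ) := rfl
    rw [h1]
    have h2 : charDegree (ψ : G ⧸ P → ℂ) ∣ Nat.card (G ⧸ P) := charDegree_dvd_card ψ.2
    exact (Nat.factorization_le_iff_dvd (charDegree_pos_of_irr ψ.2).ne' hidx0).2 h2 p
  · obtain ⟨y, hy, Q, hQ⟩ := id hD
    have h1 := factorization_le_of_unit hM θ.2 (hy.2.2 θ hθ)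
    have h2 : Nat.card P = p ^ (Nat.card (Subgroup.centralizer ({y} : Set G))).factorization p := by
      rw [hQ, ← Sylow.card_eq_multiplicity Q]
      exact Subgroup.card_map_of_injective (Subgroup.subtype_injective _)
    have h3 : Nat.card P * P.index = Nat.card G := Subgroup.card_mul_index P
    have h4 : (Nat.card G).factorization p = (Nat.card P).factorization p + P.index.factorization p := by
      rw [← h3, Nat.factorization_mul Nat.card_pos.ne' hidx0, Finsupp.add_apply]
    have h5 : (Nat.card P).factorization p = (Nat.card (Subgroup.centralizer ({y} : Set G))).factorization p := by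
      rw [h2, Nat.factorization_pow, Finsupp.smul_apply, hp.out.factorization]
      simp
    omega

/-- A character of `G ⧸ P` whose inflation has `P`-defect is alone in its block of `G ⧸ P`. -/
theorem blockOf_quot_singleton [hPn : P.Normal] [Fintype (G ⧸ P)] (hM : IsPModular p M) {B : Set (IrrCharacter G)}
    (hD : IsDefectGroup p M B P) {ψ : IrrCharacter (G ⧸ P)}
    (hψ : Cfsg.Agent.Lib.Degree.inflate P ψ ∈ B) : blockOf M (ψ : G ⧸ P → ℂ) = {ψ} := by
  classical
  have h1 := factorization_degree_eq hM hD hψ (Cfsg.Agent.Lib.Degree.inflate_kerContains P ψ)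
  apply blockOf_eq_singleton_of_not_dvd hM
  rw [not_dvd_card_div_iff hp.out (charDegree_dvd_card ψ.2), hp.out.pow_dvd_iff_le_factorization (charDegree_pos_of_irr ψ.2).ne']
  have h2 : charDegree ((Cfsg.Agent.Lib.Degree.inflate P ψ : IrrCharacter G) : G → ℂ) =
      charDegree (ψ : G ⧸ P → ℂ) := rfl
  rw [h2] at h1
  rw [h1]
  exact le_refl _

/-- In a block with a singleton quotient, characters are proportional on regular elements. -/
theorem irr_reg_eq [hPn : P.Normal] [Fintype (G ⧸ P)] (hM : IsPModular p M) (hP : IsPGroup p P)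
    (hC : ∀ g : G, ¬ p ∣ orderOf g → g ∈ Subgroup.centralizer (P : Set G)) {B : Set (IrrCharacter G)}
    (hB : IsPBlock M B) {ψ : IrrCharacter (G ⧸ P)} (hψ : Cfsg.Agent.Lib.Degree.inflate P ψ ∈ B)
    (hsing : blockOf M (ψ : G ⧸ P → ℂ) = {ψ}) {χ : IrrCharacter G} (hχ : χ ∈ B) {y : G} (hy : ¬ p ∣ orderOf y) :
    (χ : G → ℂ) y * (ψ : G ⧸ P → ℂ) 1 = (χ : G → ℂ) 1 * (ψ : G ⧸ P → ℂ) (y : G ⧸ P) := by
  classical
  have := isPModular_isPrime hM
  have hcf := IsCharacter.isClassFunction (IsIrrCharacter.isCharacter χ.2)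
  -- the function on the quotient
  set ϑ : G ⧸ P → ℂ := fun k => ∑ g : G, if (¬ p ∣ orderOf g ∧ (g : G ⧸ P) = k) then (χ : G → ℂ) g else 0 with hϑ
  have hϑcf : IsClassFunction (G ⧸ P) ϑ := by
    intro k c
    obtain ⟨d, rfl⟩ := QuotientGroup.mk_surjective c
    simp only [hϑ]
    refine Finset.sum_bij' (fun g _ => d⁻¹ * g * d) (fun g _ => d * g * d⁻¹) (by simp) (by simp)
      (fun g _ => by group) (fun g _ => by group) ?_
    intro g _
    have e1 : ((d⁻¹ * g * d : G) : G ⧸ P) = k ↔ (g : G ⧸ P) = (d : G ⧸ P) * k * (d : G ⧸ P)⁻¹ := by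
      rw [QuotientGroup.mk_mul, QuotientGroup.mk_mul, QuotientGroup.mk_inv]
      constructor
      · intro h
        rw [← h]
        group
      · intro h
        rw [h]
        group
    have e2 : orderOf (d⁻¹ * g * d) = orderOf g := by
      have := orderOf_conj d⁻¹ g
      simpa using this
    have e3 : (χ : G → ℂ) (d⁻¹ * g * d) = (χ : G → ℂ) g := by
      have := hcf g d⁻¹
      simpa using this
    simp only [e1, e2, e3]
  have hval : ∀ g₀ : G, ¬ p ∣ orderOf g₀ → ϑ (g₀ : G ⧸ P) = (χ : G → ℂ) g₀ := by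
    intro g₀ hg₀
    simp only [hϑ]
    rw [Finset.sum_eq_single g₀]
    · rw [if_pos ⟨hg₀, rfl⟩]
    · intro g _ hg
      rw [if_neg]
      rintro ⟨h1, h2⟩
      exact hg (reg_inj hP h1 hg₀ (hC g h1) h2)
    · simp
  have hinner : ∀ ψ' : IrrCharacter (G ⧸ P), ψ' ≠ ψ → classInner ϑ (ψ' : G ⧸ P → ℂ) = 0 := by
    intro ψ' hne
    have hnot : Cfsg.Agent.Lib.Degree.inflate P ψ' ∉ B := by
      intro hmem
      apply hne
      have h1 := sameBlock_of_mem hB hψ hmem
      have h2 : SameBlock M (ψ : G ⧸ P → ℂ) (ψ' : G ⧸ P → ℂ) := sameBlock_of_sameBlock_inflate_reg hM hP hC h1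
      have h3 : ψ' ∈ blockOf M (ψ : G ⧸ P → ℂ) := h2
      rw [hsing] at h3
      exact h3
    have hUc : IsBlockUnion M Bᶜ := isBlockUnion_compl (isBlockUnion_of_isPBlock hB)
    have h1 := sum_regular_eq_zero hM hUc (χ := χ) (θ := Cfsg.Agent.Lib.Degree.inflate P ψ')
      (by simpa using hχ) hnot
    unfold classInner
    have h2 : ∑ k : G ⧸ P, ϑ k * conj ((ψ' : G ⧸ P → ℂ) k) = 0 := by
      simp only [hϑ, Finset.sum_mul]
      rw [Finset.sum_comm]
      rw [Finset.sum_filter] at h1
      refine Eq.trans ?_ h1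
      refine Finset.sum_congr rfl fun g _ => ?_
      by_cases hg : p ∣ orderOf g
      · rw [if_neg (not_not_intro hg)]
        apply Finset.sum_eq_zero
        intro k _
        rw [if_neg (fun h => h.1 hg), zero_mul]
      · rw [if_pos hg, Finset.sum_eq_single (g : G ⧸ P)]
        · rw [if_pos ⟨hg, rfl⟩]
          rfl
        · intro k _ hk
          rw [if_neg (fun h => hk h.2.symm), zero_mul]
        · simp
    rw [h2, mul_zero]
  have hexp := classFunction_eq_sum ϑ hϑcf
  have hk : ∀ k, ϑ k = classInner ϑ (ψ : G ⧸ P → ℂ) * (ψ : G ⧸ P → ℂ) k := by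
    intro k
    have := congrFun hexp k
    rw [Finset.sum_apply, Finset.sum_eq_single ψ] at this
    · simpa using this
    · intro ψ' _ hne
      rw [hinner ψ' hne]
      simp
    · simp
  have h1 := hk (y : G ⧸ P)
  have h2 := hk 1
  rw [hval y hy] at h1
  have h3 : ϑ 1 = (χ : G → ℂ) 1 := by
    have := hval 1 (by simpa using hp.out.one_lt.ne')
    simpa using this
  rw [h3] at h2
  rw [h1, h2]
  ring

/-- The key formula: for `x ∈ P` and regular `y`. -/
theorem irr_mul_reg [hPn : P.Normal] [Fintype (G ⧸ P)] (hM : IsPModular p M) (hP : IsPGroup p P)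
    (hG : P ⊔ Subgroup.centralizer (P : Set G) = ⊤) {B : Set (IrrCharacter G)}
    (hB : IsPBlock M B) (hD : IsDefectGroup p M B P) {ψ : IrrCharacter (G ⧸ P)}
    (hψ : Cfsg.Agent.Lib.Degree.inflate P ψ ∈ B) {χ : IrrCharacter G} (hχ : χ ∈ B) {x y : G} (hx : x ∈ P)
    (hy : ¬ p ∣ orderOf y) :
    (χ : G → ℂ) (x * y) * (ψ : G ⧸ P → ℂ) 1 = (χ : G → ℂ) x * (ψ : G ⧸ P → ℂ) (y : G ⧸ P) := by
  classical
  haveI : Fintype (Subgroup.centralizer (P : Set G)) := Fintype.ofFinite _
  have hidx := exists_index_centralizer hG hP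
  have hC : ∀ g : G, ¬ p ∣ orderOf g → g ∈ Subgroup.centralizer (P : Set G) := fun g hg =>
    mem_of_regular_of_index _ hidx hg
  have h1 := irr_mul_centralizer hG χ hx (hC y hy)
  have h2 := irr_reg_eq hM hP hC hB hψ (blockOf_quot_singleton hM hD hψ) hχ hy
  have h3 := isIrr_one_ne_zero χ.2
  apply mul_left_cancel₀ h3
  linear_combination ((ψ : G ⧸ P → ℂ) 1) * h1 + ((χ : G → ℂ) x) * h2

/-- Defect groups in the normal case. -/
theorem eq_of_isDefectGroup_normal [hPn : P.Normal] (hM : IsPModular p M) {B : Set (IrrCharacter G)}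
    (hB : IsPBlock M B) (hD : IsDefectGroup p M B P) {D : Subgroup G} (hD' : IsDefectGroup p M B D) : D = P := by
  have h1 : P ≤ D := normal_le_defect hM (isPGroup_of_isDefectGroup hD) hB hD'
  have h2 := card_defect_group hM hB hD
  have h3 := card_defect_group hM hB hD'
  exact (Subgroup.eq_of_le_of_card_ge h1 (by rw [h2, h3])).symm

end PC

end Cfsg.Agent.Lib.Block
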