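import Cfsg.Agent.Lib.Block.Principal
import Cfsg.Agent.Lib.Char.Degrees

/-!
# Blocks and quotient groups

The coefficient projection `projAlg N : ℂ[G] → ℂ[G ⧸ N]` and the lift for a normal `p'`-subgroup, inflation and blocks.
-/

set_option autoImplicit false
set_option linter.unusedSectionVars false
set_option linter.unusedSimpArgs false
set_option linter.unusedVariables false

open scoped ComplexConjugate
open Cfsg MonoidAlgebra Cfsg.Agent.Lib.Char

namespace Cfsg.Agent.Lib.Block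

section Quot

variable {G : Type*} [Group G] [Fintype G] (N : Subgroup G) [hN : N.Normal] [Fintype (G ⧸ N)] [Fintype N]

open Classical in
/-- The projection of group algebras along `G → G ⧸ N`. -/
noncomputable def projAlg (z : MonoidAlgebra ℂ G) : MonoidAlgebra ℂ (G ⧸ N) :=
  ofFun (fun k : G ⧸ N => ∑ g : G, if (g : G ⧸ N) = k then z.coeff g else 0)

open Classical in
theorem coeff_projAlg (z : MonoidAlgebra ℂ G) (k : G ⧸ N) :
    (projAlg N z).coeff k = ∑ g : G, if (g : G ⧸ N) = k then z.coeff g else 0 :=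
  coeff_ofFun _ _

theorem tr_projAlg (φ : G ⧸ N → ℂ) (z : MonoidAlgebra ℂ G) :
    tr φ (projAlg N z) = tr (φ ∘ (QuotientGroup.mk : G → G ⧸ N)) z := by
  classical
  unfold tr
  simp only [coeff_projAlg, Finset.sum_mul, Function.comp]
  rw [Finset.sum_comm]
  refine Finset.sum_congr rfl fun g _ => ?_
  rw [Finset.sum_eq_single (g : G ⧸ N)]
  · rw [if_pos rfl]
  · intro k _ hk
    rw [if_neg (Ne.symm hk), zero_mul]
  · simp

theorem om_projAlg (φ : G ⧸ N → ℂ) (z : MonoidAlgebra ℂ G) :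
    om φ (projAlg N z) = om (φ ∘ (QuotientGroup.mk : G → G ⧸ N)) z := by
  unfold om
  rw [tr_projAlg]
  simp [Function.comp]

theorem isCentralElt_projAlg {z : MonoidAlgebra ℂ G} (hz : IsCentralElt z) : IsCentralElt (projAlg N z) := by
  classical
  intro x k
  rw [coeff_projAlg, coeff_projAlg]
  obtain ⟨c, rfl⟩ := QuotientGroup.mk_surjective x
  refine Finset.sum_bij' (fun g _ => c⁻¹ * g * c) (fun g _ => c * g * c⁻¹) (by simp) (by simp)
    (fun g _ => by group) (fun g _ => by group) ?_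
  intro g _
  have e1 : ((c⁻¹ * g * c : G) : G ⧸ N) = k ↔ (g : G ⧸ N) = (c : G ⧸ N) * k * (c : G ⧸ N)⁻¹ := by
    rw [QuotientGroup.mk_mul, QuotientGroup.mk_mul, QuotientGroup.mk_inv]
    constructor
    · intro h
      rw [← h]
      group
    · intro h
      rw [h]
      group
  by_cases h : (g : G ⧸ N) = (c : G ⧸ N) * k * (c : G ⧸ N)⁻¹
  · rw [if_pos h, if_pos (e1.2 h)]
    have := hz c (c⁻¹ * g * c)
    rw [← this]
    congr 1
    group
  · rw [if_neg h, if_neg (fun h' => h (e1.1 h'))]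

variable {M : Ideal AlgInt} [M.IsPrime]

theorem localCoeff_projAlg {z : MonoidAlgebra ℂ G} (hz : LocalCoeff M z) : LocalCoeff M (projAlg N z) := by
  classical
  intro k
  rw [coeff_projAlg]
  apply memLocalRing_sum
  intro g _
  split_ifs
  · exact hz g
  · exact memLocalRing_zero

/-- Blocks of the quotient inflate into blocks of the group. -/
theorem sameBlock_inflate_of_sameBlock {χ ψ : IrrCharacter (G ⧸ N)}
    (h : SameBlock M (χ : G ⧸ N → ℂ) (ψ : G ⧸ N → ℂ)) :
    SameBlock M ((χ : G ⧸ N → ℂ) ∘ (QuotientGroup.mk : G → G ⧸ N))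
      ((ψ : G ⧸ N → ℂ) ∘ (QuotientGroup.mk : G → G ⧸ N)) := by
  intro g
  have h1 := memLocalIdeal_om_sub χ.2 ψ.2 h (isCentralElt_projAlg N (isCentralElt_classSum g))
    (localCoeff_projAlg N (localCoeff_classSum g))
  rw [om_projAlg, om_projAlg] at h1
  rw [om_classSum, om_classSum] at h1
  · exact h1
  · exact IsCharacter.isClassFunction (IsIrrCharacter.isCharacter (Cfsg.Agent.Lib.Degree.inflate N ψ).2)
  · exact IsCharacter.isClassFunction (IsIrrCharacter.isCharacter (Cfsg.Agent.Lib.Degree.inflate N χ).2)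

open Classical in
/-- The lift of an element of the group algebra of `G ⧸ N` for `N` of order prime to `p`. -/
noncomputable def inflAlg (w : MonoidAlgebra ℂ (G ⧸ N)) : MonoidAlgebra ℂ G :=
  ofFun (fun g : G => (Nat.card N : ℂ)⁻¹ * w.coeff (g : G ⧸ N))

theorem coeff_inflAlg (w : MonoidAlgebra ℂ (G ⧸ N)) (g : G) :
    (inflAlg N w).coeff g = (Nat.card N : ℂ)⁻¹ * w.coeff (g : G ⧸ N) := coeff_ofFun _ _

theorem tr_inflAlg (φ : G ⧸ N → ℂ) (w : MonoidAlgebra ℂ (G ⧸ N)) :
    tr (φ ∘ (QuotientGroup.mk : G → G ⧸ N)) (inflAlg N w) = tr φ w := by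
  classical
  unfold tr
  rw [Cfsg.Agent.Lib.Char.sum_eq_sum_quotient_sum N]
  refine Finset.sum_congr rfl fun k _ => ?_
  have hk : ∀ a : N, ((k.out * (a : G) : G) : G ⧸ N) = k := by
    intro a
    rw [QuotientGroup.mk_mul, QuotientGroup.out_eq', (QuotientGroup.eq_one_iff (a : G)).2 a.2, mul_one]
  simp only [coeff_inflAlg, Function.comp, hk, Finset.sum_const, Finset.card_univ, nsmul_eq_mul]
  rw [Fintype.card_eq_nat_card]
  have hc : (Nat.card N : ℂ) ≠ 0 := by exact_mod_cast Nat.card_pos.ne'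
  field_simp

theorem om_inflAlg (φ : G ⧸ N → ℂ) (w : MonoidAlgebra ℂ (G ⧸ N)) :
    om (φ ∘ (QuotientGroup.mk : G → G ⧸ N)) (inflAlg N w) = om φ w := by
  unfold om
  rw [tr_inflAlg]
  simp [Function.comp]

theorem isCentralElt_inflAlg {w : MonoidAlgebra ℂ (G ⧸ N)} (hw : IsCentralElt w) : IsCentralElt (inflAlg N w) := by
  intro x g
  rw [coeff_inflAlg, coeff_inflAlg]
  congr 1
  have := hw (x : G ⧸ N) (g : G ⧸ N)
  rw [← this]
  rfl

theorem localCoeff_inflAlg {p : ℕ} (hM : IsPModular p M) (hN' : ¬ p ∣ Nat.card N) {w : MonoidAlgebra ℂ (G ⧸ N)}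
    (hw : LocalCoeff M w) : LocalCoeff M (inflAlg N w) := by
  intro g
  rw [coeff_inflAlg]
  exact memLocalRing_mul (memLocalRing_natCast_inv hM hN') (hw _)

/-- Blocks of the inflations of characters of the quotient by a normal `p'`-subgroup. -/
theorem sameBlock_of_sameBlock_inflate {p : ℕ} (hM : IsPModular p M) (hN' : ¬ p ∣ Nat.card N)
    {χ ψ : IrrCharacter (G ⧸ N)}
    (h : SameBlock M ((χ : G ⧸ N → ℂ) ∘ (QuotientGroup.mk : G → G ⧸ N))
      ((ψ : G ⧸ N → ℂ) ∘ (QuotientGroup.mk : G → G ⧸ N))) :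
    SameBlock M (χ : G ⧸ N → ℂ) (ψ : G ⧸ N → ℂ) := by
  intro k
  have h1 := memLocalIdeal_om_sub (Cfsg.Agent.Lib.Degree.inflate N χ).2 (Cfsg.Agent.Lib.Degree.inflate N ψ).2 h
    (isCentralElt_inflAlg N (isCentralElt_classSum k)) (localCoeff_inflAlg N hM hN' (localCoeff_classSum k))
  have e1 := om_inflAlg N (χ : G ⧸ N → ℂ) (classSum k)
  have e2 := om_inflAlg N (ψ : G ⧸ N → ℂ) (classSum k)
  rw [om_classSum (IsCharacter.isClassFunction (IsIrrCharacter.isCharacter χ.2))] at e1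
  rw [om_classSum (IsCharacter.isClassFunction (IsIrrCharacter.isCharacter ψ.2))] at e2
  rw [← e1, ← e2]
  exact h1

/-- Blocks and the quotient by a normal `p'`-subgroup. -/
theorem exists_inflate_of_mem_block {p : ℕ} [hp : Fact p.Prime] (hM : IsPModular p M) (hN' : ¬ p ∣ Nat.card N)
    (χ : IrrCharacter (G ⧸ N)) (ψ : IrrCharacter G)
    (hψ : ψ ∈ blockOf M ((χ : G ⧸ N → ℂ) ∘ (QuotientGroup.mk : G → G ⧸ N))) :
    ∃ ψ' : IrrCharacter (G ⧸ N), (ψ : G → ℂ) = (ψ' : G ⧸ N → ℂ) ∘ QuotientGroup.mk ∧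
      SameBlock M (χ : G ⧸ N → ℂ) (ψ' : G ⧸ N → ℂ) := by
  have h1 := ker_of_sameBlock N hM hN' (χ := Cfsg.Agent.Lib.Degree.inflate N χ) (ψ := ψ) hψ
    (Cfsg.Agent.Lib.Degree.inflate_kerContains N χ)
  obtain ⟨ψ', rfl⟩ := Cfsg.Agent.Lib.Degree.exists_inflate N h1
  exact ⟨ψ', rfl, sameBlock_of_sameBlock_inflate N hM hN' hψ⟩

end Quot

section RegLift

variable {G : Type*} [Group G] [Fintype G] {p : ℕ} [hp : Fact p.Prime]
  (P : Subgroup G) [hPn : P.Normal] [Fintype (G ⧸ P)]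

theorem regular_map_mk {g : G} (hg : ¬ p ∣ orderOf g) : ¬ p ∣ orderOf (g : G ⧸ P) := by
  intro hd
  apply hg
  exact hd.trans (orderOf_map_dvd (QuotientGroup.mk' P) g)

variable {P}

/-- Two regular elements in a coset of `P` coincide if they centralize `P`. -/
theorem reg_inj (hP : IsPGroup p P) {g g' : G} (hg : ¬ p ∣ orderOf g) (hg' : ¬ p ∣ orderOf g')
    (hgC : g ∈ Subgroup.centralizer (P : Set G)) (h : (g : G ⧸ P) = (g' : G ⧸ P)) : g = g' := by
  have hx : g⁻¹ * g' ∈ P := QuotientGroup.eq.1 h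
  set x := g⁻¹ * g' with hxdef
  have hg'e : g' = g * x := by rw [hxdef]; group
  have hcomm : Commute g x := by
    have := (Subgroup.mem_centralizer_iff.1 hgC) x hx
    exact this.symm
  have hcomm' : Commute g g' := by
    rw [hg'e]
    exact (Commute.refl g).mul_right hcomm
  obtain ⟨k, hk⟩ := IsPGroup.iff_orderOf.1 hP ⟨x, hx⟩
  have hk' : orderOf x = p ^ k := by
    rw [← hk, Subgroup.orderOf_mk]
  have h1 : x ^ p ^ k = 1 := by rw [← hk', pow_orderOf_eq_one]
  have h2 : x ^ (orderOf g * orderOf g') = 1 := by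
    rw [hxdef]
    have hc : Commute g⁻¹ g' := hcomm'.inv_left
    rw [hc.mul_pow, inv_pow, pow_mul, pow_orderOf_eq_one, one_pow, mul_comm, pow_mul, pow_orderOf_eq_one, one_pow,
      inv_one, one_mul]
  have h3 : ¬ p ∣ orderOf g * orderOf g' := fun hd => (hp.out.dvd_mul.1 hd).elim hg hg'
  have h4 := eq_one_of_orders (p := p) h1 h2 h3
  rw [hg'e, h4, mul_one]

/-- A regular coset contains a regular element. -/
theorem reg_surj (k : G ⧸ P) (hk : ¬ p ∣ orderOf k) : ∃ g : G, ¬ p ∣ orderOf g ∧ (g : G ⧸ P) = k := by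
  obtain ⟨g₀, rfl⟩ := QuotientGroup.mk_surjective k
  obtain ⟨u, v, huv, hcomm, ⟨c, hc⟩, hv, hu_z, hv_z⟩ := exists_jordan (p := p) g₀
  refine ⟨v, hv, ?_⟩
  have h1 : (u : G ⧸ P) = 1 := by
    have hu1 : (u : G ⧸ P) ^ p ^ c = 1 := by
      rw [← QuotientGroup.mk_pow, ← hc, pow_orderOf_eq_one, QuotientGroup.mk_one]
    obtain ⟨j, hj⟩ := Subgroup.mem_zpowers_iff.1 hu_z
    have hu2 : (u : G ⧸ P) ^ orderOf (g₀ : G ⧸ P) = 1 := by
      rw [← hj, QuotientGroup.mk_zpow, ← zpow_natCast, zpow_comm, zpow_natCast, pow_orderOf_eq_one, one_zpow]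
    exact eq_one_of_orders (p := p) hu1 hu2 hk
  rw [← huv, QuotientGroup.mk_mul, h1, one_mul]

variable (p) (P)

open Classical in
/-- The lift of an element of `ℂ[G ⧸ P]` to the regular elements of `G`. -/
noncomputable def liftReg (w : MonoidAlgebra ℂ (G ⧸ P)) : MonoidAlgebra ℂ G :=
  ofFun (fun g : G => if p ∣ orderOf g then 0 else w.coeff (g : G ⧸ P))

open Classical in
theorem coeff_liftReg (w : MonoidAlgebra ℂ (G ⧸ P)) (g : G) :
    (liftReg p P w).coeff g = if p ∣ orderOf g then 0 else w.coeff (g : G ⧸ P) := coeff_ofFun _ _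

variable {p} {P}

theorem isCentralElt_liftReg {w : MonoidAlgebra ℂ (G ⧸ P)} (hw : IsCentralElt w) :
    IsCentralElt (liftReg p P w) := by
  classical
  intro x g
  rw [coeff_liftReg, coeff_liftReg, orderOf_conj]
  by_cases h : p ∣ orderOf g
  · rw [if_pos h, if_pos h]
  · rw [if_neg h, if_neg h]
    have := hw (x : G ⧸ P) (g : G ⧸ P)
    rw [← this]
    rfl

theorem localCoeff_liftReg {M : Ideal AlgInt} [M.IsPrime] {w : MonoidAlgebra ℂ (G ⧸ P)} (hw : LocalCoeff M w) :
    LocalCoeff M (liftReg p P w) := by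
  classical
  intro g
  rw [coeff_liftReg]
  split_ifs
  · exact memLocalRing_zero
  · exact hw _

/-- Traces of the regular lift. -/
theorem tr_liftReg (hP : IsPGroup p P) (hC : ∀ g : G, ¬ p ∣ orderOf g → g ∈ Subgroup.centralizer (P : Set G))
    (φ : G ⧸ P → ℂ) {w : MonoidAlgebra ℂ (G ⧸ P)} (hw : ∀ k, p ∣ orderOf k → w.coeff k = 0) :
    tr (φ ∘ (QuotientGroup.mk : G → G ⧸ P)) (liftReg p P w) = tr φ w := by
  classical
  unfold tr
  simp only [coeff_liftReg, Function.comp]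
  have h1 : ∑ g : G, (if p ∣ orderOf g then 0 else w.coeff (g : G ⧸ P)) * φ (g : G ⧸ P) =
      ∑ g ∈ Finset.univ.filter (fun g : G => ¬ p ∣ orderOf g), w.coeff (g : G ⧸ P) * φ (g : G ⧸ P) := by
    rw [Finset.sum_filter]
    refine Finset.sum_congr rfl fun g _ => ?_
    by_cases h : p ∣ orderOf g <;> simp [h]
  have h2 : ∑ k : G ⧸ P, w.coeff k * φ k =
      ∑ k ∈ Finset.univ.filter (fun k : G ⧸ P => ¬ p ∣ orderOf k), w.coeff k * φ k := by
    rw [Finset.sum_filter]
    refine Finset.sum_congr rfl fun k _ => ?_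
    by_cases h : p ∣ orderOf k
    · simp [h, hw k h]
    · simp [h]
  rw [h1, h2]
  refine Finset.sum_bij (fun g _ => (g : G ⧸ P)) ?_ ?_ ?_ ?_
  · intro g hg
    simp only [Finset.mem_filter, Finset.mem_univ, true_and] at hg ⊢
    exact regular_map_mk P hg
  · intro g hg g' hg' h
    simp only [Finset.mem_filter, Finset.mem_univ, true_and] at hg hg'
    exact reg_inj hP hg hg' (hC g hg) h
  · intro k hk
    simp only [Finset.mem_filter, Finset.mem_univ, true_and] at hk
    obtain ⟨g, hg, rfl⟩ := reg_surj k hk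
    exact ⟨g, by simpa using hg, rfl⟩
  · intro g _
    rfl

theorem om_liftReg (hP : IsPGroup p P) (hC : ∀ g : G, ¬ p ∣ orderOf g → g ∈ Subgroup.centralizer (P : Set G))
    (φ : G ⧸ P → ℂ) {w : MonoidAlgebra ℂ (G ⧸ P)} (hw : ∀ k, p ∣ orderOf k → w.coeff k = 0) :
    om (φ ∘ (QuotientGroup.mk : G → G ⧸ P)) (liftReg p P w) = om φ w := by
  unfold om
  rw [tr_liftReg hP hC φ hw]
  simp [Function.comp]

variable {M : Ideal AlgInt}

/-- Regular-supported: the block elements of the quotient. -/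
theorem coeff_blockElt_of_singular (hM : IsPModular p M) {H : Type*} [Group H] [Fintype H]
    {A : Set (IrrCharacter H)} (hA : IsBlockUnion M A) (k : H) (hk : p ∣ orderOf k) : (blockElt A).coeff k = 0 := by
  rw [coeff_blockElt]
  by_contra hne
  exact regular_of_blockCoeff_ne_zero hM hA hne hk

/-- Inflations in the same block come from the same block of the quotient. -/
theorem sameBlock_of_sameBlock_inflate_reg (hM : IsPModular p M) (hP : IsPGroup p P)
    (hC : ∀ g : G, ¬ p ∣ orderOf g → g ∈ Subgroup.centralizer (P : Set G)) {χ ψ : IrrCharacter (G ⧸ P)}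
    (h : SameBlock M ((χ : G ⧸ P → ℂ) ∘ (QuotientGroup.mk : G → G ⧸ P))
      ((ψ : G ⧸ P → ℂ) ∘ (QuotientGroup.mk : G → G ⧸ P))) :
    SameBlock M (χ : G ⧸ P → ℂ) (ψ : G ⧸ P → ℂ) := by
  classical
  have := isPModular_isPrime hM
  have hA : IsBlockUnion M (blockOf M (χ : G ⧸ P → ℂ)) := isBlockUnion_of_isPBlock (isPBlock_blockOf χ)
  have hsing := coeff_blockElt_of_singular (p := p) hM hA
  have h1 := memLocalIdeal_om_sub (Cfsg.Agent.Lib.Degree.inflate P χ).2 (Cfsg.Agent.Lib.Degree.inflate P ψ).2 h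
    (isCentralElt_liftReg (p := p) (isCentralElt_blockElt _)) (localCoeff_liftReg (p := p) (localCoeff_blockElt hA))
  have e1 := om_liftReg hP hC (χ : G ⧸ P → ℂ) hsing
  have e2 := om_liftReg hP hC (ψ : G ⧸ P → ℂ) hsing
  have h2 : MemLocalIdeal M (om (χ : G ⧸ P → ℂ) (blockElt (blockOf M (χ : G ⧸ P → ℂ))) -
      om (ψ : G ⧸ P → ℂ) (blockElt (blockOf M (χ : G ⧸ P → ℂ)))) := by
    rw [← e1, ← e2]
    exact h1
  rw [om_blockElt_of_mem (mem_blockOf_self χ)] at h2
  by_contra hcon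
  rw [om_blockElt_of_notMem (A := blockOf M (χ : G ⧸ P → ℂ)) (ψ := ψ) hcon, sub_zero] at h2
  exact not_memLocalIdeal_one h2

/-- Every block of `G` contains an inflated character. -/
theorem exists_inflate_mem_block (hM : IsPModular p M) (hP : IsPGroup p P)
    (hC : ∀ g : G, ¬ p ∣ orderOf g → g ∈ Subgroup.centralizer (P : Set G)) {B : Set (IrrCharacter G)}
    (hB : IsPBlock M B) :
    ∃ χ : IrrCharacter (G ⧸ P), ∃ θ ∈ B, (θ : G → ℂ) = (χ : G ⧸ P → ℂ) ∘ QuotientGroup.mk := by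
  classical
  have := isPModular_isPrime hM
  have hU := isBlockUnion_of_isPBlock hB
  have hsing := coeff_blockElt_of_singular (p := p) hM hU
  -- the block element is nonzero
  obtain ⟨χ₀, hχ₀⟩ := IsPBlock_nonempty hB
  have hne : ∃ g : G, (blockElt B).coeff g ≠ 0 := by
    by_contra hcon
    push Not at hcon
    have h1 := om_blockElt_of_mem hχ₀
    have h2 : tr (χ₀ : G → ℂ) (blockElt B) = 0 := by
      unfold tr
      exact Finset.sum_eq_zero fun g _ => by rw [hcon g, zero_mul]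
    unfold om at h1
    rw [h2, zero_div] at h1
    exact zero_ne_one h1
  obtain ⟨g, hg⟩ := hne
  have hgreg : ¬ p ∣ orderOf g := fun hd => hg (hsing g hd)
  have hπ : (projAlg P (blockElt B)).coeff (g : G ⧸ P) ≠ 0 := by
    rw [coeff_projAlg, Finset.sum_eq_single g]
    · rw [if_pos rfl]
      exact hg
    · intro h _ hh
      split_ifs with hc
      · by_cases hd : p ∣ orderOf h
        · exact hsing h hd
        · exact absurd (reg_inj hP hd hgreg (hC h hd) hc) hh
      · rfl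
    · simp
  by_contra hcon
  push Not at hcon
  have hzero : projAlg P (blockElt B) = 0 := by
    apply central_ext_om (isCentralElt_projAlg P (isCentralElt_blockElt B)) (isCentralElt_zero)
    intro χ
    rw [om_zero, om_projAlg]
    by_contra hχ
    apply hcon χ (Cfsg.Agent.Lib.Degree.inflate P χ) _ rfl
    by_contra hχ'
    apply hχ
    exact om_blockElt_of_notMem hχ'
  rw [hzero] at hπ
  exact hπ (by simp)

end RegLift

end Cfsg.Agent.Lib.Block
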