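import Mathlib
import Cfsg.Agent.Lib.Char.Galois

/-!
# Sums of squares of cyclotomic integers

If `α_i` are nonzero cyclotomic integers and `Σ_i |α_i|²` is a rational number `Q`, then the number of `i`'s is
at most `Q` (averaging over the Galois group and the arithmetic-geometric mean inequality).
-/

set_option autoImplicit false
set_option linter.unusedSectionVars false
set_option linter.unusedVariables false

open scoped ComplexConjugate

namespace Cfsg.Agent.Lib.Block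

section Abstract

variable (n : ℕ) [NeZero n] (K : Type) [Field K] [Algebra ℚ K] [IsCyclotomicExtension {n} ℚ K]
  [FiniteDimensional ℚ K]

variable {K} in
theorem conj_emb_eq (τ : K →ₐ[ℚ] ℂ) (c : Gal(K/ℚ)) (hc : ∀ x : K, x ^ n = 1 → c x = x ^ (n - 1)) (x : K) :
    conj (τ x) = τ (c x) := by
  have hξ := IsCyclotomicExtension.zeta_spec n ℚ K
  have hirr : Irreducible (Polynomial.cyclotomic n ℚ) := Polynomial.cyclotomic.irreducible_rat (NeZero.pos n)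
  let f₁ : K →ₐ[ℚ] ℂ := ((Complex.conjAe.restrictScalars ℚ).toAlgHom).comp τ
  let f₂ : K →ₐ[ℚ] ℂ := τ.comp c.toAlgHom
  have h : f₁ = f₂ := by
    apply (hξ.powerBasis ℚ).algHom_ext
    rw [IsPrimitiveRoot.powerBasis_gen]
    show conj (τ (IsCyclotomicExtension.zeta n ℚ K)) = τ (c (IsCyclotomicExtension.zeta n ℚ K))
    rw [hc _ hξ.pow_eq_one, map_pow]
    obtain ⟨ω, hω⟩ : ∃ ω, ω = τ (IsCyclotomicExtension.zeta n ℚ K) := ⟨_, rfl⟩
    rw [← hω]
    have h1 : ω ^ n = 1 := by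
      rw [hω, ← map_pow, hξ.pow_eq_one, map_one]
    have h2 : ‖ω‖ = 1 := Complex.norm_eq_one_of_pow_eq_one h1 (NeZero.ne n)
    rw [← Complex.inv_eq_conj h2]
    have h3 : ω ≠ 0 := by
      intro h0
      rw [h0] at h2
      simp at h2
    apply mul_left_cancel₀ h3
    rw [mul_inv_cancel₀ h3, ← pow_succ', Nat.sub_add_cancel (NeZero.pos n), h1]
  exact congrArg (fun f : K →ₐ[ℚ] ℂ => f x) h

variable {K} in
include n in
theorem one_le_norm_emb_prod {a : K} (h0 : a ≠ 0) (hi : IsIntegral ℤ a) :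
    (1 : ℝ) ≤ ∏ τ : K →ₐ[ℚ] ℂ, Complex.normSq (τ a) := by
  haveI : IsGalois ℚ K := IsCyclotomicExtension.isGalois {n} ℚ K
  have h1 := Algebra.norm_eq_prod_embeddings ℚ ℂ a
  have h2 : IsIntegral ℤ (Algebra.norm ℚ a) := Algebra.isIntegral_norm ℚ hi
  obtain ⟨m, hm⟩ := IsIntegrallyClosed.isIntegral_iff.1 h2
  have hne : Algebra.norm ℚ a ≠ 0 := (Algebra.norm_ne_zero_iff).2 h0
  have hm0 : m ≠ 0 := by
    rintro rfl
    apply hne
    rw [← hm]
    simp
  have h5 : ∏ τ : K →ₐ[ℚ] ℂ, Complex.normSq (τ a) = Complex.normSq (∏ τ : K →ₐ[ℚ] ℂ, τ a) := by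
    rw [map_prod]
  rw [h5, ← h1, ← hm]
  have h6 : (algebraMap ℚ ℂ) ((algebraMap ℤ ℚ) m) = (m : ℂ) := by
    simp
  rw [h6, Complex.normSq_intCast]
  have h3 : (1 : ℝ) ≤ |(m : ℝ)| := by
    have : (1 : ℤ) ≤ |m| := Int.one_le_abs hm0
    exact_mod_cast this
  have h4 : (m : ℝ) * m = |(m : ℝ)| * |(m : ℝ)| := (abs_mul_abs_self _).symm
  rw [h4]
  nlinarith [h3]

variable {K} in
include n in
/-- The arithmetic-geometric mean inequality for a nonzero cyclotomic integer. -/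
theorem card_le_sum_normSq_emb {a : K} (h0 : a ≠ 0) (hi : IsIntegral ℤ a) :
    (Fintype.card (K →ₐ[ℚ] ℂ) : ℝ) ≤ ∑ τ : K →ₐ[ℚ] ℂ, Complex.normSq (τ a) := by
  have h1 := one_le_norm_emb_prod n h0 hi
  have hpos : ∀ τ : K →ₐ[ℚ] ℂ, 0 < Complex.normSq (τ a) := fun τ =>
    Complex.normSq_pos.2 ((map_ne_zero τ).2 h0)
  have h2 : 0 ≤ ∑ τ : K →ₐ[ℚ] ℂ, Real.log (Complex.normSq (τ a)) := by
    rw [← Real.log_prod (fun τ _ => (hpos τ).ne')]
    exact Real.log_nonneg h1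
  have h3 : ∑ τ : K →ₐ[ℚ] ℂ, Real.log (Complex.normSq (τ a)) ≤
      ∑ τ : K →ₐ[ℚ] ℂ, (Complex.normSq (τ a) - 1) :=
    Finset.sum_le_sum fun τ _ => Real.log_le_sub_one_of_pos (hpos τ)
  rw [Finset.sum_sub_distrib] at h3
  simp only [Finset.sum_const, Finset.card_univ, nsmul_eq_mul, mul_one] at h3
  linarith

variable {K} in
include n in
theorem card_le_of_sum_eq_abstract (ι : K →ₐ[ℚ] ℂ) {I : Type*} (s : Finset I) (a : I → K)
    (h0 : ∀ i ∈ s, a i ≠ 0) (hi : ∀ i ∈ s, IsIntegral ℤ (a i)) (Q : ℚ)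
    (hQ : ∑ i ∈ s, ι (a i) * conj (ι (a i)) = (Q : ℂ)) : (s.card : ℝ) ≤ (Q : ℝ) := by
  classical
  have hu : (n - 1).Coprime n := by
    have hn := NeZero.pos n
    have : (n - 1 + 1).Coprime (n - 1) := by
      exact (Nat.coprime_self_add_left.2 (Nat.coprime_one_left _))
    rw [Nat.sub_add_cancel hn] at this
    exact this.symm
  obtain ⟨c, hc⟩ := Cfsg.Agent.Lib.Char.exists_aut_pow n K (n - 1) hu
  have hq : ∑ i ∈ s, a i * c (a i) = algebraMap ℚ K Q := by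
    apply ι.toRingHom.injective
    have h1 : ι (algebraMap ℚ K Q) = (Q : ℂ) := by
      rw [AlgHom.commutes]
      simp
    show ι _ = ι _
    rw [h1, ← hQ, map_sum]
    refine Finset.sum_congr rfl fun i _ => ?_
    rw [map_mul, conj_emb_eq n ι c hc]
  have hτ : ∀ τ : K →ₐ[ℚ] ℂ, ∑ i ∈ s, Complex.normSq (τ (a i)) = (Q : ℝ) := by
    intro τ
    have h1 : ∑ i ∈ s, τ (a i) * conj (τ (a i)) = (Q : ℂ) := by
      have h2 : τ (algebraMap ℚ K Q) = (Q : ℂ) := by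
        rw [AlgHom.commutes]
        simp
      rw [← h2, ← hq, map_sum]
      refine Finset.sum_congr rfl fun i _ => ?_
      rw [map_mul, conj_emb_eq n τ c hc]
    have h3 : ((∑ i ∈ s, Complex.normSq (τ (a i)) : ℝ) : ℂ) = ((Q : ℝ) : ℂ) := by
      push_cast
      rw [← h1]
      refine Finset.sum_congr rfl fun i _ => ?_
      rw [Complex.mul_conj]
    exact_mod_cast h3
  have hcard : 0 < Fintype.card (K →ₐ[ℚ] ℂ) := Fintype.card_pos_iff.2 ⟨ι⟩
  have h4 : ((s.card : ℝ)) * (Fintype.card (K →ₐ[ℚ] ℂ) : ℝ) ≤ (Q : ℝ) * (Fintype.card (K →ₐ[ℚ] ℂ) : ℝ) := by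
    calc ((s.card : ℝ)) * (Fintype.card (K →ₐ[ℚ] ℂ) : ℝ) = ∑ i ∈ s, (Fintype.card (K →ₐ[ℚ] ℂ) : ℝ) := by
          rw [Finset.sum_const, nsmul_eq_mul]
      _ ≤ ∑ i ∈ s, ∑ τ : K →ₐ[ℚ] ℂ, Complex.normSq (τ (a i)) :=
          Finset.sum_le_sum fun i hi' => card_le_sum_normSq_emb n (h0 i hi') (hi i hi')
      _ = ∑ τ : K →ₐ[ℚ] ℂ, ∑ i ∈ s, Complex.normSq (τ (a i)) := Finset.sum_comm
      _ = ∑ τ : K →ₐ[ℚ] ℂ, (Q : ℝ) := by simp only [hτ]
      _ = (Q : ℝ) * (Fintype.card (K →ₐ[ℚ] ℂ) : ℝ) := by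
          rw [Finset.sum_const, Finset.card_univ, nsmul_eq_mul, mul_comm]
  exact le_of_mul_le_mul_right h4 (by exact_mod_cast hcard)

end Abstract

section Concrete

variable (n : ℕ) [NeZero n]

instance cycExtDefault : IsCyclotomicExtension {n} ℚ (CyclotomicField n ℚ) := by
  have h : (DivisionRing.toRatAlgebra : Algebra ℚ (CyclotomicField n ℚ)) = CyclotomicField.algebra n ℚ :=
    Subsingleton.elim _ _
  rw [h]
  exact CyclotomicField.isCyclotomicExtension n ℚ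

/-- The `n`-th cyclotomic field as a subfield of the complex numbers. -/
noncomputable def cycEmb : CyclotomicField n ℚ →ₐ[ℚ] ℂ := IsAlgClosed.lift

/-- Membership in the `n`-th cyclotomic field. -/
def IsCyc (x : ℂ) : Prop := ∃ a : CyclotomicField n ℚ, cycEmb n a = x

variable {n}

theorem IsCyc.add {x y : ℂ} (hx : IsCyc n x) (hy : IsCyc n y) : IsCyc n (x + y) := by
  obtain ⟨a, rfl⟩ := hx
  obtain ⟨b, rfl⟩ := hy
  exact ⟨a + b, map_add _ _ _⟩

theorem IsCyc.mul {x y : ℂ} (hx : IsCyc n x) (hy : IsCyc n y) : IsCyc n (x * y) := by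
  obtain ⟨a, rfl⟩ := hx
  obtain ⟨b, rfl⟩ := hy
  exact ⟨a * b, map_mul _ _ _⟩

theorem IsCyc.inv {x : ℂ} (hx : IsCyc n x) : IsCyc n x⁻¹ := by
  obtain ⟨a, rfl⟩ := hx
  exact ⟨a⁻¹, map_inv₀ _ _⟩

theorem IsCyc.sub {x y : ℂ} (hx : IsCyc n x) (hy : IsCyc n y) : IsCyc n (x - y) := by
  obtain ⟨a, rfl⟩ := hx
  obtain ⟨b, rfl⟩ := hy
  exact ⟨a - b, map_sub _ _ _⟩

theorem IsCyc.div {x y : ℂ} (hx : IsCyc n x) (hy : IsCyc n y) : IsCyc n (x / y) := by
  rw [div_eq_mul_inv]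
  exact hx.mul hy.inv

theorem isCyc_ratCast (q : ℚ) : IsCyc n (q : ℂ) :=
  ⟨algebraMap ℚ _ q, by rw [AlgHom.commutes]; simp⟩

theorem isCyc_natCast (m : ℕ) : IsCyc n (m : ℂ) := by
  have := isCyc_ratCast (n := n) (m : ℚ)
  simpa using this

theorem isCyc_intCast (m : ℤ) : IsCyc n (m : ℂ) := by
  have := isCyc_ratCast (n := n) (m : ℚ)
  simpa using this

theorem isCyc_zero : IsCyc n (0 : ℂ) := ⟨0, map_zero _⟩

theorem isCyc_sum {I : Type*} (s : Finset I) (f : I → ℂ) (h : ∀ i ∈ s, IsCyc n (f i)) : IsCyc n (∑ i ∈ s, f i) := by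
  classical
  induction s using Finset.induction_on with
  | empty => simpa using isCyc_zero
  | insert a s ha ih =>
    rw [Finset.sum_insert ha]
    exact (h a (Finset.mem_insert_self _ _)).add (ih fun i hi => h i (Finset.mem_insert_of_mem hi))

theorem exists_conj_aut : ∃ c : Gal(CyclotomicField n ℚ/ℚ), ∀ x : CyclotomicField n ℚ, x ^ n = 1 → c x = x ^ (n - 1) := by
  have hu : (n - 1).Coprime n := by
    have hn := NeZero.pos n
    have : (n - 1 + 1).Coprime (n - 1) := by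
      exact (Nat.coprime_self_add_left.2 (Nat.coprime_one_left _))
    rw [Nat.sub_add_cancel hn] at this
    exact this.symm
  exact Cfsg.Agent.Lib.Char.exists_aut_pow n _ (n - 1) hu

theorem IsCyc.conj {x : ℂ} (hx : IsCyc n x) : IsCyc n (conj x) := by
  obtain ⟨a, rfl⟩ := hx
  obtain ⟨c, hc⟩ := exists_conj_aut (n := n)
  exact ⟨c a, (conj_emb_eq n (cycEmb n) c hc a).symm⟩

theorem isCyc_of_rep {G : Type*} [Group G] {m : ℕ} (ρ : Representation ℂ G (Fin m → ℂ)) {g : G} (hg : g ^ n = 1) :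
    IsCyc n (ρ.character g) := by
  obtain ⟨α, hα, -⟩ := Cfsg.Agent.Lib.Char.char_preimage n (cycEmb n) ρ g hg
  exact ⟨α, hα⟩

theorem isCyc_of_isCharacter {G : Type*} [Group G] {χ : G → ℂ} (hχ : Cfsg.IsCharacter G χ) {g : G} (hg : g ^ n = 1) :
    IsCyc n (χ g) := by
  obtain ⟨m, ρ, rfl⟩ := hχ
  exact isCyc_of_rep ρ hg

/-- **The cyclotomic sum of squares bound.** -/
theorem card_le_of_sum_eq {I : Type*} (s : Finset I) (α : I → ℂ) (hc : ∀ i ∈ s, IsCyc n (α i))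
    (h0 : ∀ i ∈ s, α i ≠ 0) (hi : ∀ i ∈ s, IsIntegral ℤ (α i)) (Q : ℚ)
    (hQ : ∑ i ∈ s, α i * conj (α i) = (Q : ℂ)) : (s.card : ℝ) ≤ (Q : ℝ) := by
  classical
  obtain ⟨a, ha⟩ : ∃ a : I → CyclotomicField n ℚ, ∀ i ∈ s, cycEmb n (a i) = α i := by
    have h1 : ∀ i, ∃ b : CyclotomicField n ℚ, i ∈ s → cycEmb n b = α i := by
      intro i
      by_cases hi' : i ∈ s
      · obtain ⟨b, hb⟩ := hc i hi'
        exact ⟨b, fun _ => hb⟩
      · exact ⟨0, fun h => absurd h hi'⟩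
    choose a ha using h1
    exact ⟨a, ha⟩
  refine card_le_of_sum_eq_abstract n (cycEmb n) s a ?_ ?_ Q ?_
  · intro i hi' hz
    apply h0 i hi'
    rw [← ha i hi', hz, map_zero]
  · intro i hi'
    have h1 := hi i hi'
    rw [← ha i hi'] at h1
    exact (isIntegral_algHom_iff ((cycEmb n).restrictScalars ℤ) (cycEmb n).toRingHom.injective).1 h1
  · rw [← hQ]
    refine Finset.sum_congr rfl fun i hi' => ?_
    rw [ha i hi']

end Concrete

end Cfsg.Agent.Lib.Block
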