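import Cfsg.Agent.Lib.Block.Section
import Cfsg.Agent.Lib.Char.Induced
import Cfsg.Prelude.Def_BlockRank

/-!
# Brauer's count of the characters of a block by subsections

`k(B) = ∑_x ∑_{b^G = B} l(b)`.
-/

set_option autoImplicit false
set_option linter.unusedSectionVars false
set_option linter.unusedSimpArgs false
set_option linter.unusedVariables false

open scoped ComplexConjugate
open Cfsg MonoidAlgebra Module

namespace Cfsg.Agent.Lib.Block

section Rank

variable {C : Type*} [Group C] {p : ℕ}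

theorem pRegularPart_of_reg {φ : C → ℂ} {y : C} (hy : ¬ p ∣ orderOf y) : pRegularPart p φ y = φ y := by
  classical
  unfold pRegularPart
  exact if_pos hy

theorem pRegularPart_of_sing {φ : C → ℂ} {y : C} (hy : p ∣ orderOf y) : pRegularPart p φ y = 0 := by
  classical
  unfold pRegularPart
  exact if_neg (not_not.2 hy)

/-- The span of the `p`-regular restrictions of the members of `A`. -/
abbrev regSpan (p : ℕ) (A : Set (IrrCharacter C)) : Submodule ℂ (C → ℂ) :=
  Submodule.span ℂ ((fun χ : IrrCharacter C => pRegularPart p (χ : C → ℂ)) '' A)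

theorem blockRank_eq_finrank (A : Set (IrrCharacter C)) : blockRank p A = finrank ℂ (regSpan p A) := rfl

theorem regSpan_vanish {A : Set (IrrCharacter C)} {f : C → ℂ} (hf : f ∈ regSpan p A) {y : C} (hy : p ∣ orderOf y) :
    f y = 0 := by
  induction hf using Submodule.span_induction with
  | mem f hf =>
    obtain ⟨χ, -, rfl⟩ := hf
    exact pRegularPart_of_sing hy
  | zero => rfl
  | add a b _ _ ha hb => simp [ha, hb]
  | smul c a _ ha => simp [ha]

theorem isClassFunction_pRegularPart [Fintype C] {φ : C → ℂ} (hφ : IsClassFunction C φ) : IsClassFunction C (pRegularPart p φ) := by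
  intro g a
  have h : orderOf (a * g * a⁻¹) = orderOf g := orderOf_conj a g
  by_cases hy : p ∣ orderOf g
  · rw [pRegularPart_of_sing hy, pRegularPart_of_sing (by rwa [h])]
  · rw [pRegularPart_of_reg hy, pRegularPart_of_reg (by rwa [h]), hφ]

theorem regSpan_isClassFunction [Fintype C] {A : Set (IrrCharacter C)} {f : C → ℂ} (hf : f ∈ regSpan p A) :
    IsClassFunction C f := by
  induction hf using Submodule.span_induction with
  | mem f hf =>
    obtain ⟨χ, -, rfl⟩ := hf
    exact isClassFunction_pRegularPart (Cfsg.Agent.Lib.Char.IsCharacter.isClassFunction (Cfsg.Agent.Lib.Char.IsIrrCharacter.isCharacter χ.2))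
  | zero => intro g a; rfl
  | add a b _ _ ha hb =>
    intro g x
    simp only [Pi.add_apply]
    rw [ha, hb]
  | smul c a _ ha =>
    intro g x
    simp only [Pi.smul_apply]
    rw [ha]

end Rank

section Rank2

variable {C : Type*} [Group C] [Fintype C] {p : ℕ} [hp : Fact p.Prime] {M : Ideal AlgInt}

theorem sum_regSpan_eq_zero (hM : IsPModular p M) {A A' : Set (IrrCharacter C)} (hA : IsBlockUnion M A)
    (hd : Disjoint A A') {f g : C → ℂ} (hf : f ∈ regSpan p A') (hg : g ∈ regSpan p A) :
    ∑ y, f y * conj (g y) = 0 := by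
  classical
  induction hf using Submodule.span_induction with
  | mem f hf =>
    obtain ⟨χ, hχ, rfl⟩ := hf
    induction hg using Submodule.span_induction with
    | mem g hg =>
      obtain ⟨θ, hθ, rfl⟩ := hg
      have h1 := sum_regular_eq_zero hM hA (χ := χ) (θ := θ) (Set.disjoint_right.1 hd hχ) hθ
      refine Eq.trans ?_ h1
      rw [Finset.sum_filter]
      refine Finset.sum_congr rfl fun y _ => ?_
      show pRegularPart p (χ : C → ℂ) y * conj (pRegularPart p (θ : C → ℂ) y) = _
      by_cases hy : p ∣ orderOf y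
      · rw [if_neg (not_not.2 hy), pRegularPart_of_sing hy, zero_mul]
      · rw [if_pos hy, pRegularPart_of_reg hy, pRegularPart_of_reg hy]
    | zero => simp
    | add a b _ _ ha hb =>
      simp only [Pi.add_apply, map_add, mul_add, Finset.sum_add_distrib, ha, hb, add_zero]
    | smul c a _ ha =>
      simp only [Pi.smul_apply, smul_eq_mul, map_mul]
      have e : ∀ y, pRegularPart p (χ : C → ℂ) y * (conj c * conj (a y)) =
          conj c * (pRegularPart p (χ : C → ℂ) y * conj (a y)) := fun y => by ring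
      simp only [e, ← Finset.mul_sum, ha, mul_zero]
  | zero => simp
  | add a b _ _ ha hb =>
    simp only [Pi.add_apply, add_mul, Finset.sum_add_distrib, ha, hb, add_zero]
  | smul c a _ ha =>
    simp only [Pi.smul_apply, smul_eq_mul, mul_assoc, ← Finset.mul_sum, ha, mul_zero]

theorem regSpan_inf_eq_bot (hM : IsPModular p M) {A A' : Set (IrrCharacter C)} (hA : IsBlockUnion M A)
    (hd : Disjoint A A') : regSpan p A ⊓ regSpan p A' = ⊥ := by
  rw [eq_bot_iff]
  intro f hf
  obtain ⟨h1, h2⟩ := Submodule.mem_inf.1 hf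
  have h3 := sum_regSpan_eq_zero hM hA hd h2 h1
  have h4 : ∀ y, f y * conj (f y) = ((Complex.normSq (f y) : ℝ) : ℂ) := fun y => Complex.mul_conj _
  simp only [h4] at h3
  have h5 : ∑ y, Complex.normSq (f y) = 0 := by
    exact_mod_cast h3
  have h6 := (Finset.sum_eq_zero_iff_of_nonneg (fun y _ => Complex.normSq_nonneg _)).1 h5
  rw [Submodule.mem_bot]
  funext y
  exact Complex.normSq_eq_zero.1 (h6 y (Finset.mem_univ y))

theorem blockRank_union (hM : IsPModular p M) {A A' : Set (IrrCharacter C)} (hA : IsBlockUnion M A)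
    (hd : Disjoint A A') : blockRank p (A ∪ A') = blockRank p A + blockRank p A' := by
  rw [blockRank_eq_finrank, blockRank_eq_finrank, blockRank_eq_finrank]
  have h1 : regSpan p (A ∪ A') = regSpan p A ⊔ regSpan p A' := by
    rw [regSpan, Set.image_union, Submodule.span_union]
  rw [h1, ← Submodule.finrank_sup_add_finrank_inf_eq, regSpan_inf_eq_bot hM hA hd, finrank_bot, add_zero]

theorem blockRank_empty : blockRank p (∅ : Set (IrrCharacter C)) = 0 := by
  rw [blockRank_eq_finrank, regSpan, Set.image_empty, Submodule.span_empty, finrank_bot]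

theorem blockRank_biUnion (hM : IsPModular p M) (S : Finset (Set (IrrCharacter C)))
    (hS : ∀ b ∈ S, IsPBlock M b) : blockRank p (⋃ b ∈ S, b) = ∑ b ∈ S, blockRank p b := by
  classical
  have := isPModular_isPrime hM
  induction S using Finset.induction_on with
  | empty => simp [blockRank_empty]
  | insert a S ha ih =>
    rw [Finset.sum_insert ha, ← ih fun b hb => hS b (Finset.mem_insert_of_mem hb)]
    have e : (⋃ b ∈ insert a S, b) = a ∪ ⋃ b ∈ S, b := by
      ext ξ
      simp
    rw [e]
    refine blockRank_union hM (isBlockUnion_of_isPBlock (hS a (Finset.mem_insert_self _ _))) ?_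
    rw [Set.disjoint_left]
    intro ξ hξa hξ
    simp only [Set.mem_iUnion] at hξ
    obtain ⟨b, hb, hξb⟩ := hξ
    apply ha
    have h1 := blockOf_eq_of_mem (hS a (Finset.mem_insert_self _ _)) hξa
    have h2 := blockOf_eq_of_mem (hS b (Finset.mem_insert_of_mem hb)) hξb
    rw [h1, ← h2]
    exact hb

end Rank2

section Trace

variable {C : Type*} [Group C] [Fintype C] {p : ℕ} [hp : Fact p.Prime] {M : Ideal AlgInt}

theorem tr_add_left (φ ψ : C → ℂ) (z : MonoidAlgebra ℂ C) : tr (φ + ψ) z = tr φ z + tr ψ z := by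
  simp [tr, mul_add, Finset.sum_add_distrib]

theorem tr_smul_left (c : ℂ) (φ : C → ℂ) (z : MonoidAlgebra ℂ C) : tr (c • φ) z = c * tr φ z := by
  simp only [tr, Pi.smul_apply, smul_eq_mul, Finset.mul_sum]
  refine Finset.sum_congr rfl fun g _ => ?_
  ring

theorem tr_sub_left (φ ψ : C → ℂ) (z : MonoidAlgebra ℂ C) : tr (φ - ψ) z = tr φ z - tr ψ z := by
  simp [tr, mul_sub, Finset.sum_sub_distrib]

theorem tr_eq_of_reg_eq (hM : IsPModular p M) {A : Set (IrrCharacter C)} (hA : IsBlockUnion M A) {φ ψ : C → ℂ}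
    (hφ : IsClassFunction C φ) (hψ : IsClassFunction C ψ) (h : ∀ y : C, ¬ p ∣ orderOf y → φ y = ψ y) {y : C}
    (hy : ¬ p ∣ orderOf y) : tr φ (blockElt A * MonoidAlgebra.single y 1) = tr ψ (blockElt A * MonoidAlgebra.single y 1) := by
  have h1 := tr_classFunction_block_eq_zero hM hA (φ - ψ) (by
    intro g a
    simp only [Pi.sub_apply]
    rw [hφ, hψ]) (by
    intro a ha
    simp only [Pi.sub_apply]
    rw [h a ha, sub_self]) hy
  rw [tr_sub_left, sub_eq_zero] at h1
  exact h1

theorem tr_regSpan_blockElt (hM : IsPModular p M) {A : Set (IrrCharacter C)} (hA : IsBlockUnion M A) {f : C → ℂ}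
    (hf : f ∈ regSpan p A) {y : C} (hy : ¬ p ∣ orderOf y) :
    tr f (blockElt A * MonoidAlgebra.single y 1) = f y := by
  classical
  induction hf using Submodule.span_induction with
  | mem f hf =>
    obtain ⟨ξ, hξ, rfl⟩ := hf
    have hc := Cfsg.Agent.Lib.Char.IsCharacter.isClassFunction (Cfsg.Agent.Lib.Char.IsIrrCharacter.isCharacter ξ.2)
    rw [tr_eq_of_reg_eq hM hA (isClassFunction_pRegularPart hc) hc (fun y hy => pRegularPart_of_reg hy) hy,
      tr_mul_central ξ.2 (isCentralElt_blockElt A), om_blockElt_of_mem hξ, one_mul, tr_single, one_mul]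
    exact (pRegularPart_of_reg hy).symm
  | zero => simp [tr]
  | add a b _ _ ha hb => rw [tr_add_left, ha, hb]; rfl
  | smul c a _ ha => rw [tr_smul_left, ha]; rfl

end Trace

section SecMap

variable {G : Type*} [Group G] {p : ℕ}

/-- The section map. -/
noncomputable def secMap (p : ℕ) (x : G) : (G → ℂ) →ₗ[ℂ] (Subgroup.centralizer ({x} : Set G) → ℂ) where
  toFun ϑ := pRegularPart p (fun c : Subgroup.centralizer ({x} : Set G) => ϑ (x * c))
  map_add' a b := by
    funext c
    by_cases hc : p ∣ orderOf c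
    · simp [pRegularPart_of_sing hc]
    · simp [pRegularPart_of_reg hc]
  map_smul' a b := by
    funext c
    by_cases hc : p ∣ orderOf c
    · simp [pRegularPart_of_sing hc]
    · simp [pRegularPart_of_reg hc]

theorem secMap_apply (x : G) (ϑ : G → ℂ) :
    secMap p x ϑ = pRegularPart p (fun c : Subgroup.centralizer ({x} : Set G) => ϑ (x * c)) := rfl

end SecMap

section Main

variable {G : Type*} [Group G] [Fintype G] {p : ℕ} [hp : Fact p.Prime] {M : Ideal AlgInt}

/-- The span of the members of a set of irreducible characters. -/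
abbrev irrSpan (B : Set (IrrCharacter G)) : Submodule ℂ (G → ℂ) :=
  Submodule.span ℂ ((fun χ : IrrCharacter G => (χ : G → ℂ)) '' B)

theorem irrSpan_isClassFunction {B : Set (IrrCharacter G)} {f : G → ℂ} (hf : f ∈ irrSpan B) :
    IsClassFunction G f := by
  induction hf using Submodule.span_induction with
  | mem f hf =>
    obtain ⟨χ, -, rfl⟩ := hf
    exact Cfsg.Agent.Lib.Char.IsCharacter.isClassFunction (Cfsg.Agent.Lib.Char.IsIrrCharacter.isCharacter χ.2)
  | zero => intro g a; rfl
  | add a b _ _ ha hb =>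
    intro g x
    simp only [Pi.add_apply]
    rw [ha, hb]
  | smul c a _ ha =>
    intro g x
    simp only [Pi.smul_apply]
    rw [ha]

theorem secMap_mem (hM : IsPModular p M) {B : Set (IrrCharacter G)} (hB : IsBlockUnion M B) {x : G}
    (hx : ∃ k, orderOf x = p ^ k) {ϑ : G → ℂ} (hϑ : ϑ ∈ irrSpan B) :
    secMap p x ϑ ∈ regSpan p (indSet M (Subgroup.centralizer ({x} : Set G)) B) := by
  classical
  have := isPModular_isPrime hM
  haveI : Fintype (Subgroup.centralizer ({x} : Set G)) := Fintype.ofFinite _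
  induction hϑ using Submodule.span_induction with
  | mem f hf =>
    obtain ⟨χ, hχ, rfl⟩ := hf
    set A := indSet M (Subgroup.centralizer ({x} : Set G)) B with hA
    have hc := Cfsg.Agent.Lib.Char.IsCharacter.isClassFunction (Cfsg.Agent.Lib.Char.IsIrrCharacter.isCharacter χ.2)
    have hψ := isClassFunction_section (x := x) (χ : G → ℂ) hc
    have key : secMap p x (χ : G → ℂ) = ∑ ξ : IrrCharacter (Subgroup.centralizer ({x} : Set G)),
        if ξ ∈ A then classInner (fun c : Subgroup.centralizer ({x} : Set G) => (χ : G → ℂ) (x * c)) (ξ : Subgroup.centralizer ({x} : Set G) → ℂ) • pRegularPart p (ξ : Subgroup.centralizer ({x} : Set G) → ℂ) else 0 := by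
      funext y
      rw [secMap_apply, Finset.sum_apply]
      by_cases hy : p ∣ orderOf y
      · rw [pRegularPart_of_sing hy]
        symm
        refine Finset.sum_eq_zero fun ξ _ => ?_
        split_ifs
        · simp [pRegularPart_of_sing hy]
        · rfl
      · rw [pRegularPart_of_reg hy]
        have h1 := tr_block_section hM hB hx y hy (χ : G → ℂ) hc
        rw [tr_mul_central χ.2 (isCentralElt_blockElt B), om_blockElt_of_mem hχ, one_mul, tr_single, one_mul,
          tr_blockElt_mul _ hψ] at h1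
        rw [h1]
        refine Finset.sum_congr rfl fun ξ _ => ?_
        split_ifs
        · rw [tr_single, one_mul]
          simp [pRegularPart_of_reg hy]
        · rfl
    rw [key]
    refine Submodule.sum_mem _ fun ξ _ => ?_
    split_ifs with h
    · exact Submodule.smul_mem _ _ (Submodule.subset_span ⟨ξ, h, rfl⟩)
    · exact Submodule.zero_mem _
  | zero => rw [map_zero]; exact Submodule.zero_mem _
  | add a b _ _ ha hb => rw [map_add]; exact Submodule.add_mem _ ha hb
  | smul c a _ ha => rw [map_smul]; exact Submodule.smul_mem _ _ ha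

/-- Every element is conjugate to a product of a member of `X` and a regular element of its centralizer. -/
theorem exists_conj_section (X : Finset G)
    (hXrep : ∀ g : G, (∃ k : ℕ, orderOf g = p ^ k) → ∃! x, x ∈ X ∧ IsConj g x) (g : G) :
    ∃ x ∈ X, ∃ c : Subgroup.centralizer ({x} : Set G), ¬ p ∣ orderOf c ∧ IsConj g (x * c) := by
  obtain ⟨u, v, h1, h2, h3, h4, -, -⟩ := exists_jordan (p := p) g
  obtain ⟨x, ⟨hx, hc⟩, -⟩ := hXrep u h3
  obtain ⟨a, ha⟩ := isConj_iff.1 hc
  have hmem : a * v * a⁻¹ ∈ Subgroup.centralizer ({x} : Set G) := by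
    rw [mem_centralizer_singleton, ← ha]
    calc a * v * a⁻¹ * (a * u * a⁻¹) = a * (v * u) * a⁻¹ := by group
      _ = a * (u * v) * a⁻¹ := by rw [h2.eq]
      _ = a * u * a⁻¹ * (a * v * a⁻¹) := by group
  refine ⟨x, hx, ⟨_, hmem⟩, ?_, ?_⟩
  · rw [← Subgroup.orderOf_coe]
    show ¬ p ∣ orderOf (a * v * a⁻¹)
    rwa [orderOf_conj]
  · refine isConj_iff.2 ⟨a, ?_⟩
    show a * g * a⁻¹ = x * (a * v * a⁻¹)
    rw [← ha, ← h1]
    group

theorem secMap_injective (X : Finset G)
    (hXrep : ∀ g : G, (∃ k : ℕ, orderOf g = p ^ k) → ∃! x, x ∈ X ∧ IsConj g x) {ϑ : G → ℂ}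
    (hϑ : IsClassFunction G ϑ) (h0 : ∀ x ∈ X, secMap p x ϑ = 0) : ϑ = 0 := by
  funext g
  obtain ⟨x, hx, c, hc, hg⟩ := exists_conj_section X hXrep g
  obtain ⟨a, ha⟩ := isConj_iff.1 hg
  have h1 := congrFun (h0 x hx) c
  rw [secMap_apply, pRegularPart_of_reg hc] at h1
  show ϑ g = 0
  rw [← hϑ g a, ha]
  exact h1

/-- The class function glued from the class function `w` on the centralizer of `x`. -/
noncomputable def glue (x : G) (w : Subgroup.centralizer ({x} : Set G) → ℂ) : G → ℂ :=
  indFun (Subgroup.centralizer ({x} : Set G))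
    (fun c => w ((⟨x, mem_centralizer_self x⟩ : Subgroup.centralizer ({x} : Set G))⁻¹ * c))

theorem glue_isClassFunction (x : G) (w : Subgroup.centralizer ({x} : Set G) → ℂ) : IsClassFunction G (glue x w) :=
  Cfsg.Agent.Lib.Char.indFun_isClassFunction _ _

theorem extend_section_ne {x x₀ : G} (hx : ∃ k, orderOf x = p ^ k) (hx₀ : ∃ k, orderOf x₀ = p ^ k)
    {w : Subgroup.centralizer ({x} : Set G) → ℂ} (hw : ∀ c, p ∣ orderOf c → w c = 0)
    (y : Subgroup.centralizer ({x₀} : Set G)) (hy : ¬ p ∣ orderOf y) (a : G)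
    (h : extendByZero (Subgroup.centralizer ({x} : Set G))
      (fun c => w ((⟨x, mem_centralizer_self x⟩ : Subgroup.centralizer ({x} : Set G))⁻¹ * c))
      (a⁻¹ * (x₀ * y) * a) ≠ 0) : a⁻¹ * x₀ * a = x := by
  by_cases hm : a⁻¹ * (x₀ * y) * a ∈ Subgroup.centralizer ({x} : Set G)
  · rw [Cfsg.Agent.Lib.Char.extendByZero_of_mem _ _ hm] at h
    set c := (⟨x, mem_centralizer_self x⟩ : Subgroup.centralizer ({x} : Set G))⁻¹ * ⟨_, hm⟩ with hc
    have hcr : ¬ p ∣ orderOf c := fun hd => h (hw _ hd)
    have h1 : IsPPart p (a⁻¹ * (x₀ * y) * a) x := by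
      have h2 := isPPart_mul hx c hcr
      have h3 : x * (c : G) = a⁻¹ * (x₀ * y) * a := by
        rw [hc]
        simp
      rwa [h3] at h2
    have h4 : IsPPart p (a⁻¹ * (x₀ * y) * a) (a⁻¹ * x₀ * a) := by
      refine ⟨a⁻¹ * y * a, by group, ?_, ?_, ?_⟩
      · have h5 := commute_of_mem_centralizer y
        show a⁻¹ * x₀ * a * (a⁻¹ * y * a) = a⁻¹ * y * a * (a⁻¹ * x₀ * a)
        calc a⁻¹ * x₀ * a * (a⁻¹ * y * a) = a⁻¹ * (x₀ * y) * a := by group
          _ = a⁻¹ * (y * x₀) * a := by rw [h5]
          _ = a⁻¹ * y * a * (a⁻¹ * x₀ * a) := by group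
      · obtain ⟨k, hk⟩ := hx₀
        refine ⟨k, ?_⟩
        have := orderOf_conj a⁻¹ x₀
        rw [inv_inv] at this
        rw [this, hk]
      · have := orderOf_conj a⁻¹ (y : G)
        rw [inv_inv] at this
        rw [this, Subgroup.orderOf_coe]
        exact hy
    exact IsPPart_eq h4 h1
  · exact absurd (Cfsg.Agent.Lib.Char.extendByZero_of_not_mem _ _ hm) h

theorem glue_of_not_conj {x x₀ : G} (hx : ∃ k, orderOf x = p ^ k) (hx₀ : ∃ k, orderOf x₀ = p ^ k)
    (hn : ¬ IsConj x₀ x)
    {w : Subgroup.centralizer ({x} : Set G) → ℂ} (hw : ∀ c, p ∣ orderOf c → w c = 0)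
    (y : Subgroup.centralizer ({x₀} : Set G)) (hy : ¬ p ∣ orderOf y) : glue x w (x₀ * y) = 0 := by
  rw [glue, Cfsg.Agent.Lib.Char.indFun_apply, Finset.sum_eq_zero, mul_zero]
  intro a _
  by_contra h
  have h1 := extend_section_ne hx hx₀ hw y hy a h
  apply hn
  refine isConj_iff.2 ⟨a⁻¹, ?_⟩
  rw [inv_inv]
  exact h1

theorem glue_self {x : G} (hx : ∃ k, orderOf x = p ^ k)
    {w : Subgroup.centralizer ({x} : Set G) → ℂ} (hw : ∀ c, p ∣ orderOf c → w c = 0)
    (hwc : IsClassFunction _ w)
    (y : Subgroup.centralizer ({x} : Set G)) (hy : ¬ p ∣ orderOf y) : glue x w (x * y) = w y := by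
  classical
  haveI : Fintype (Subgroup.centralizer ({x} : Set G)) := Fintype.ofFinite _
  rw [glue, Cfsg.Agent.Lib.Char.indFun_apply]
  rw [sum_eq_sum_subgroup (H := Subgroup.centralizer ({x} : Set G))]
  · have h1 : ∀ a : Subgroup.centralizer ({x} : Set G), extendByZero (Subgroup.centralizer ({x} : Set G))
        (fun c => w ((⟨x, mem_centralizer_self x⟩ : Subgroup.centralizer ({x} : Set G))⁻¹ * c))
        ((a : G)⁻¹ * (x * y) * a) = w y := by
      intro a
      have hconj : (a : G)⁻¹ * (x * y) * a = ((⟨x, mem_centralizer_self x⟩ : Subgroup.centralizer ({x} : Set G)) * (a⁻¹ * y * a) : Subgroup.centralizer ({x} : Set G)) := by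
        have h5 := commute_of_mem_centralizer a
        push_cast
        calc (a : G)⁻¹ * (x * y) * a = (a : G)⁻¹ * x * y * a := by group
          _ = (a : G)⁻¹ * x * a * ((a : G)⁻¹ * y * a) := by group
          _ = (a : G)⁻¹ * (x * a) * ((a : G)⁻¹ * y * a) := by group
          _ = (a : G)⁻¹ * (a * x) * ((a : G)⁻¹ * y * a) := by rw [h5]
          _ = x * ((a : G)⁻¹ * y * a) := by group
      rw [hconj, Cfsg.Agent.Lib.Char.extendByZero_coe, inv_mul_cancel_left]
      have := hwc y a⁻¹
      rw [inv_inv] at this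
      exact this
    simp only [h1, Finset.sum_const, Finset.card_univ, nsmul_eq_mul]
    rw [← Nat.card_eq_fintype_card, ← mul_assoc, inv_mul_cancel₀ (Cfsg.Agent.Lib.Char.card_subgroup_ne_zero _), one_mul]
  · intro a ha
    by_contra h
    have h1 := extend_section_ne hx hx hw y hy a h
    apply ha
    rw [mem_centralizer_singleton]
    have h2 : x * a = a * x := by
      calc x * a = a * (a⁻¹ * x * a) := by group
        _ = a * x := by rw [h1]
    exact h2.symm

/-- **Brauer's formula for the characters of a block**, at the level of `indSet`. -/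
theorem finrank_irrSpan_eq (hM : IsPModular p M) {B : Set (IrrCharacter G)} (hB : IsBlockUnion M B) (X : Finset G)
    (hX : ∀ x ∈ X, ∃ k : ℕ, orderOf x = p ^ k)
    (hXrep : ∀ g : G, (∃ k : ℕ, orderOf g = p ^ k) → ∃! x, x ∈ X ∧ IsConj g x) :
    finrank ℂ (irrSpan B) = ∑ x ∈ X, blockRank p (indSet M (Subgroup.centralizer ({x} : Set G)) B) := by
  classical
  have := isPModular_isPrime hM
  haveI : ∀ x : G, Fintype (Subgroup.centralizer ({x} : Set G)) := fun x => Fintype.ofFinite _
  let R : (x : X) → Submodule ℂ (Subgroup.centralizer ({(x : G)} : Set G) → ℂ) :=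
    fun x => regSpan p (indSet M (Subgroup.centralizer ({(x : G)} : Set G)) B)
  let T : irrSpan B →ₗ[ℂ] (∀ x : X, R x) := LinearMap.pi fun x =>
    (secMap p (x : G)).restrict fun ϑ hϑ => secMap_mem hM hB (hX _ x.2) hϑ
  have hinj : Function.Injective T := by
    rw [← LinearMap.ker_eq_bot, LinearMap.ker_eq_bot']
    rintro ⟨ϑ, hϑ⟩ h
    apply Subtype.ext
    refine secMap_injective X hXrep (irrSpan_isClassFunction hϑ) fun x hx => ?_
    have h1 := congrFun h ⟨x, hx⟩
    exact congrArg Subtype.val h1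
  have hsurj : Function.Surjective T := by
    intro w
    let ϑ₀ : G → ℂ := ∑ x : X, glue (x : G) (w x : _ → ℂ)
    have hϑ₀ : IsClassFunction G ϑ₀ := by
      intro g a
      simp only [ϑ₀, Finset.sum_apply]
      refine Finset.sum_congr rfl fun x _ => ?_
      exact glue_isClassFunction _ _ _ _
    have hval : ∀ (x₀ : X) (y : Subgroup.centralizer ({(x₀ : G)} : Set G)), ¬ p ∣ orderOf y →
        ϑ₀ ((x₀ : G) * y) = (w x₀ : _ → ℂ) y := by
      intro x₀ y hy
      simp only [ϑ₀, Finset.sum_apply]
      rw [Finset.sum_eq_single x₀]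
      · exact glue_self (hX _ x₀.2) (fun c hc => regSpan_vanish (w x₀).2 hc) (regSpan_isClassFunction (w x₀).2) y hy
      · intro x _ hne
        refine glue_of_not_conj (hX _ x.2) (hX _ x₀.2) ?_ (fun c hc => regSpan_vanish (w x).2 hc) y hy
        intro hc
        apply hne
        apply Subtype.ext
        exact (hXrep _ (hX _ x₀.2)).unique ⟨x.2, hc⟩ ⟨x₀.2, IsConj.refl _⟩
      · intro h
        exact absurd (Finset.mem_univ _) h
    let ϑ : G → ℂ := ∑ χ : IrrCharacter G, if χ ∈ B then classInner ϑ₀ (χ : G → ℂ) • (χ : G → ℂ) else 0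
    have hϑmem : ϑ ∈ irrSpan B := by
      refine Submodule.sum_mem _ fun χ _ => ?_
      split_ifs with h
      · exact Submodule.smul_mem _ _ (Submodule.subset_span ⟨χ, h, rfl⟩)
      · exact Submodule.zero_mem _
    have hϑval : ∀ g, ϑ g = tr ϑ₀ (blockElt B * MonoidAlgebra.single g 1) := by
      intro g
      rw [tr_blockElt_mul _ hϑ₀]
      simp only [ϑ, Finset.sum_apply]
      refine Finset.sum_congr rfl fun χ _ => ?_
      split_ifs
      · rw [tr_single, one_mul]
        rfl
      · rfl
    refine ⟨⟨ϑ, hϑmem⟩, ?_⟩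
    funext x₀
    apply Subtype.ext
    funext y
    show secMap p (x₀ : G) ϑ y = _
    rw [secMap_apply]
    by_cases hy : p ∣ orderOf y
    · rw [pRegularPart_of_sing hy, regSpan_vanish (w x₀).2 hy]
    · rw [pRegularPart_of_reg hy, hϑval, tr_block_section hM hB (hX _ x₀.2) y hy ϑ₀ hϑ₀]
      rw [tr_eq_of_reg_eq hM (isBlockUnion_indSet _ B) (isClassFunction_section ϑ₀ hϑ₀)
        (regSpan_isClassFunction (w x₀).2) (fun y hy => hval x₀ y hy) hy]
      exact tr_regSpan_blockElt hM (isBlockUnion_indSet _ B) (w x₀).2 hy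
  have h1 := (LinearEquiv.ofBijective T ⟨hinj, hsurj⟩).finrank_eq
  rw [h1, Module.finrank_pi_fintype, ← Finset.sum_coe_sort X]
  rfl

theorem card_eq_finrank_irrSpan (B : Set (IrrCharacter G)) : Nat.card B = finrank ℂ (irrSpan B) := by
  classical
  have h1 : LinearIndependent ℂ (fun χ : B => ((χ : IrrCharacter G) : G → ℂ)) :=
    Cfsg.Agent.Lib.Char.irr_linearIndependent.comp _ Subtype.val_injective
  have h2 := finrank_span_eq_card h1
  rw [Nat.card_eq_fintype_card, ← h2]
  have h3 : Set.range (fun χ : B => ((χ : IrrCharacter G) : G → ℂ)) = (fun χ : IrrCharacter G => (χ : G → ℂ)) '' B := by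
    ext f
    simp
  rw [h3]

/-- The set `indSet` is the union of the blocks inducing `B`. -/
theorem blockRank_indSet_eq (hM : IsPModular p M) (H : Subgroup G) [Fintype H] {B : Set (IrrCharacter G)}
    (hB : IsPBlock M B) :
    blockRank p (indSet M H B) = ∑ᶠ b ∈ {b : Set (IrrCharacter H) | IsInducedBlock M H b B}, blockRank p b := by
  classical
  have := isPModular_isPrime hM
  let S : Finset (Set (IrrCharacter H)) := Finset.univ.filter fun b => IsInducedBlock M H b B
  have hS : {b : Set (IrrCharacter H) | IsInducedBlock M H b B} = S := by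
    ext b
    simp [S]
  have h1 : indSet M H B = ⋃ b ∈ S, b := by
    ext ξ
    simp only [Set.mem_iUnion]
    constructor
    · rintro ⟨χ', hχ', hc⟩
      refine ⟨blockOf M (ξ : H → ℂ), ?_, mem_blockOf_self ξ⟩
      refine Finset.mem_filter.2 ⟨Finset.mem_univ _, isPBlock_blockOf ξ, hB, ?_⟩
      intro ξ' hξ' χ hχ g
      have h2 := memLocalIdeal_induced_sub_of_sameBlock (M := M) ξ'.2 ξ.2 (sameBlock_symm hξ') g
      have h3 := sameBlock_of_mem hB hχ' hχ g
      exact memLocalIdeal_sub_trans h2 (memLocalIdeal_sub_trans (hc g) h3)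
    · rintro ⟨b, hb, hξ⟩
      obtain ⟨-, -, hc⟩ := (Finset.mem_filter.1 hb).2
      obtain ⟨χ, hχ⟩ := IsPBlock_nonempty hB
      exact ⟨χ, hχ, hc ξ hξ χ hχ⟩
  rw [h1, blockRank_biUnion hM S (fun b hb => (Finset.mem_filter.1 hb).2.1), hS, finsum_mem_coe_finset]

/-- **Brauer's formula for the number of characters of a block.** -/
theorem card_block_eq_sum (hM : IsPModular p M) {B : Set (IrrCharacter G)} (hB : IsPBlock M B) (X : Finset G)
    (hX : ∀ x ∈ X, ∃ k : ℕ, orderOf x = p ^ k)
    (hXrep : ∀ g : G, (∃ k : ℕ, orderOf g = p ^ k) → ∃! x, x ∈ X ∧ IsConj g x) :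
    Nat.card B = ∑ x ∈ X, ∑ᶠ b ∈ {b : Set (IrrCharacter (Subgroup.centralizer ({x} : Set G))) |
        IsInducedBlock M (Subgroup.centralizer ({x} : Set G)) b B}, blockRank p b := by
  classical
  have := isPModular_isPrime hM
  haveI : ∀ x : G, Fintype (Subgroup.centralizer ({x} : Set G)) := fun x => Fintype.ofFinite _
  rw [card_eq_finrank_irrSpan, finrank_irrSpan_eq hM (isBlockUnion_of_isPBlock hB) X hX hXrep]
  refine Finset.sum_congr rfl fun x _ => ?_
  exact blockRank_indSet_eq hM _ hB

end Main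

end Cfsg.Agent.Lib.Block
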