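import Cfsg.Agent.Lib.Block.CycAvg

/-!
# Traces of roots of unity in `ℚ(ζ_{p^(k+1)})`
-/

set_option autoImplicit false
set_option linter.unusedSectionVars false
set_option linter.unusedVariables false

namespace Cfsg.Agent.Lib.Block

section

variable {K : Type} [Field K] [NumberField K] {p : ℕ} (k : ℕ) [hp : Fact p.Prime]
  [IsCyclotomicExtension {p ^ (k + 1)} ℚ K]

include k in
theorem trace_eq_of_root_p {z z' : K} (hz : z ^ p = 1) (h1 : z ≠ 1) (hz' : z' ^ p = 1) (h1' : z' ≠ 1) :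
    Algebra.trace ℚ K z = Algebra.trace ℚ K z' := by
  classical
  haveI : NeZero (p ^ (k + 1)) := ⟨pow_ne_zero _ hp.out.ne_zero⟩
  haveI : NeZero p := ⟨hp.out.ne_zero⟩
  have hord : orderOf z = p := orderOf_eq_prime hz h1
  have hprim : IsPrimitiveRoot z p := by
    have := IsPrimitiveRoot.orderOf z
    rwa [hord] at this
  obtain ⟨i, hi, rfl⟩ := hprim.eq_pow_of_pow_eq_one hz'
  have hi0 : i ≠ 0 := by
    rintro rfl
    exact h1' (pow_zero _)
  have hcop : i.Coprime (p ^ (k + 1)) := by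
    apply Nat.Coprime.pow_right
    rw [Nat.coprime_comm]
    exact (Nat.Prime.coprime_iff_not_dvd hp.out).2 (Nat.not_dvd_of_pos_of_lt (Nat.pos_of_ne_zero hi0) hi)
  have hzN : z ^ p ^ (k + 1) = 1 := by
    rw [pow_succ', pow_mul, hz, one_pow]
  obtain ⟨σ, hσ⟩ := Cfsg.Agent.Lib.Char.exists_aut_pow (p ^ (k + 1)) K i hcop
  rw [← hσ z hzN, trace_aut]

include k in
theorem trace_mul_root_p {x z : K} (hx : x ^ p ^ (k + 1) = 1) (hxp : x ^ p ≠ 1) (hz : z ^ p = 1) :
    Algebra.trace ℚ K (x * z) = Algebra.trace ℚ K x := by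
  classical
  haveI : NeZero (p ^ (k + 1)) := ⟨pow_ne_zero _ hp.out.ne_zero⟩
  haveI : NeZero p := ⟨hp.out.ne_zero⟩
  have hd : orderOf x ∣ p ^ (k + 1) := orderOf_dvd_of_pow_eq_one hx
  obtain ⟨s, hs, hs'⟩ := (Nat.dvd_prime_pow hp.out).1 hd
  have hs2 : 2 ≤ s := by
    by_contra hlt
    push Not at hlt
    apply hxp
    have : orderOf x ∣ p := by
      rw [hs']
      have h1 : s ≤ 1 := by omega
      calc p ^ s ∣ p ^ 1 := pow_dvd_pow _ h1
        _ = p := pow_one p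
    exact orderOf_dvd_iff_pow_eq_one.1 this
  obtain ⟨r, rfl⟩ : ∃ r, s = r + 2 := ⟨s - 2, by omega⟩
  obtain ⟨ω, hω⟩ : ∃ ω, ω = x ^ p ^ (r + 1) := ⟨_, rfl⟩
  have hω1 : ω ^ p = 1 := by
    rw [hω, ← pow_mul, ← pow_succ, ← hs']
    exact pow_orderOf_eq_one x
  have hω2 : ω ≠ 1 := by
    intro h
    rw [hω] at h
    have h3 := orderOf_dvd_of_pow_eq_one h
    rw [hs'] at h3
    have h4 := Nat.le_of_dvd (pow_pos hp.out.pos _) h3
    have h5 : p ^ (r + 1) < p ^ (r + 2) := Nat.pow_lt_pow_right hp.out.one_lt (by omega)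
    omega
  have hord : orderOf ω = p := orderOf_eq_prime hω1 hω2
  have hprim : IsPrimitiveRoot ω p := by
    have := IsPrimitiveRoot.orderOf ω
    rwa [hord] at this
  obtain ⟨i, hi, rfl⟩ := hprim.eq_pow_of_pow_eq_one hz
  have hcop : (1 + i * p ^ (r + 1)).Coprime (p ^ (k + 1)) := by
    apply Nat.Coprime.pow_right
    rw [Nat.coprime_comm]
    rw [Nat.Prime.coprime_iff_not_dvd hp.out]
    intro h
    have h6 : p ∣ i * p ^ (r + 1) := Dvd.dvd.mul_left (dvd_pow_self p (by omega)) i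
    have h7 : p ∣ 1 := (Nat.dvd_add_left h6).1 h
    exact hp.out.one_lt.ne' (Nat.dvd_one.1 h7)
  obtain ⟨σ, hσ⟩ := Cfsg.Agent.Lib.Char.exists_aut_pow (p ^ (k + 1)) K _ hcop
  have h8 : σ x = x * ω ^ i := by
    rw [hσ x hx, pow_add, pow_one, hω, ← pow_mul, mul_comm i]
  rw [← h8, trace_aut]

/-- The group of roots of unity of `K`. -/
abbrev Mu (K : Type) [Field K] (p k : ℕ) [NeZero (p ^ (k + 1))] : Type := rootsOfUnity (p ^ (k + 1)) K

variable [NeZero (p ^ (k + 1))]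

/-- The inclusion in the field. -/
noncomputable def cK (x : Mu K p k) : K := ((x : Kˣ) : K)

omit [NumberField K] hp [IsCyclotomicExtension {p ^ (k + 1)} ℚ K] in
@[simp] theorem cK_mul (x y : Mu K p k) : cK k (x * y) = cK k x * cK k y := rfl

omit [NumberField K] hp [IsCyclotomicExtension {p ^ (k + 1)} ℚ K] in
@[simp] theorem cK_one : cK k (1 : Mu K p k) = 1 := rfl

omit [NumberField K] hp [IsCyclotomicExtension {p ^ (k + 1)} ℚ K] in
theorem cK_injective : Function.Injective (cK (K := K) (p := p) k) := fun a b h => by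
  apply Subtype.ext
  exact Units.ext h

omit [NumberField K] hp [IsCyclotomicExtension {p ^ (k + 1)} ℚ K] in
theorem cK_pow (x : Mu K p k) (n : ℕ) : cK k (x ^ n) = cK k x ^ n := rfl

omit [NumberField K] hp [IsCyclotomicExtension {p ^ (k + 1)} ℚ K] in
theorem cK_pow_card (x : Mu K p k) : cK k x ^ p ^ (k + 1) = 1 := by
  have := (mem_rootsOfUnity' _ _).1 x.2
  exact this

/-- The elements of order dividing `p`. -/
noncomputable def MuP (K : Type) [Field K] (p k : ℕ) [NeZero (p ^ (k + 1))] : Subgroup (Mu K p k) :=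
  (powMonoidHom p : Mu K p k →* Mu K p k).ker

omit [NumberField K] hp [IsCyclotomicExtension {p ^ (k + 1)} ℚ K] in
theorem mem_MuP {x : Mu K p k} : x ∈ MuP K p k ↔ x ^ p = 1 := MonoidHom.mem_ker

include k in
theorem exists_primitive_p : ∃ z : K, z ^ p ^ (k + 1) = 1 ∧ z ^ p = 1 ∧ z ≠ 1 := by
  haveI : NeZero (p ^ (k + 1)) := ⟨pow_ne_zero _ hp.out.ne_zero⟩
  have hζ := IsCyclotomicExtension.zeta_spec (p ^ (k + 1)) ℚ K
  obtain ⟨ζ, hζdef⟩ : ∃ ζ, ζ = IsCyclotomicExtension.zeta (p ^ (k + 1)) ℚ K := ⟨_, rfl⟩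
  rw [← hζdef] at hζ
  have h1 : (ζ ^ p ^ k) ^ p = 1 := by
    rw [← pow_mul, ← pow_succ]
    exact hζ.pow_eq_one
  refine ⟨ζ ^ p ^ k, ?_, h1, ?_⟩
  · rw [pow_succ', pow_mul, h1, one_pow]
  · intro h
    have h3 := hζ.dvd_of_pow_eq_one _ h
    have h4 := Nat.le_of_dvd (pow_pos hp.out.pos _) h3
    have h5 : p ^ k < p ^ (k + 1) := Nat.pow_lt_pow_right hp.out.one_lt (by omega)
    omega

include k in
theorem exists_ne_one_MuP : ∃ z : Mu K p k, z ∈ MuP K p k ∧ z ≠ 1 := by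
  obtain ⟨z, h1, h2, h3⟩ := exists_primitive_p (K := K) (p := p) k
  refine ⟨rootsOfUnity.mkOfPowEq z h1, ?_, ?_⟩
  · rw [mem_MuP]
    apply cK_injective k
    rw [cK_pow]
    show (((rootsOfUnity.mkOfPowEq z h1 : Kˣ) : K)) ^ p = 1
    rwa [rootsOfUnity.coe_mkOfPowEq]
  · intro h
    apply h3
    have := congrArg (cK k) h
    rw [cK_one] at this
    rwa [cK, rootsOfUnity.coe_mkOfPowEq] at this

variable [Fintype (Mu K p k)] [Fintype (MuP K p k)]

omit hp [IsCyclotomicExtension {p ^ (k + 1)} ℚ K] [Fintype (Mu K p k)] in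
theorem sum_MuP_eq_zero {z₁ : Mu K p k} (h1 : z₁ ∈ MuP K p k) (h2 : z₁ ≠ 1) :
    ∑ z : MuP K p k, cK k (z : Mu K p k) = 0 := by
  have h3 : ∑ z : MuP K p k, cK k (z : Mu K p k) = cK k z₁ * ∑ z : MuP K p k, cK k (z : Mu K p k) := by
    rw [Finset.mul_sum, ← Equiv.sum_comp (Equiv.mulLeft (⟨z₁, h1⟩ : MuP K p k))]
    refine Finset.sum_congr rfl fun z _ => ?_
    rfl
  have h4 : (1 - cK k z₁) * ∑ z : MuP K p k, cK k (z : Mu K p k) = 0 := by
    rw [sub_mul, one_mul, ← h3, sub_self]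
  rcases mul_eq_zero.1 h4 with h5 | h5
  · exfalso
    apply h2
    apply cK_injective k
    rw [cK_one]
    exact (sub_eq_zero.1 h5).symm
  · exact h5

/-- The normalized trace. -/
noncomputable def LL (x : Mu K p k) : ℝ :=
  ((Algebra.trace ℚ K (cK k x) / Algebra.trace ℚ K 1 : ℚ) : ℝ)

omit hp [IsCyclotomicExtension {p ^ (k + 1)} ℚ K] [Fintype (Mu K p k)] [Fintype (MuP K p k)] in
theorem trace_one_ne_zero : Algebra.trace ℚ K (1 : K) ≠ 0 := by
  have h1 := Algebra.trace_algebraMap (R := ℚ) (S := K) (1 : ℚ)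
  rw [map_one] at h1
  rw [h1]
  have h2 : 0 < Module.finrank ℚ K := Module.finrank_pos
  simp only [nsmul_eq_mul, mul_one]
  exact_mod_cast h2.ne'

omit hp [IsCyclotomicExtension {p ^ (k + 1)} ℚ K] [Fintype (Mu K p k)] [Fintype (MuP K p k)] in
theorem LL_one : LL k (1 : Mu K p k) = 1 := by
  unfold LL
  rw [cK_one, div_self trace_one_ne_zero]
  simp

theorem LL_of_notMem {x : Mu K p k} (hx : x ∉ MuP K p k) : LL k x = 0 := by
  classical
  obtain ⟨z₁, h1, h2⟩ := exists_ne_one_MuP (K := K) (p := p) k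
  have hxp : cK k x ^ p ≠ 1 := by
    intro h
    apply hx
    rw [mem_MuP]
    apply cK_injective k
    rw [cK_pow, h, cK_one]
  have h3 := sum_MuP_eq_zero k h1 h2
  have h4 : ∀ z : MuP K p k, Algebra.trace ℚ K (cK k x * cK k (z : Mu K p k)) = Algebra.trace ℚ K (cK k x) := by
    intro z
    refine trace_mul_root_p (p := p) k (cK_pow_card k x) hxp ?_
    rw [← cK_pow, (mem_MuP k).1 z.2, cK_one]
  have h5 : (Fintype.card (MuP K p k) : ℚ) * Algebra.trace ℚ K (cK k x) = 0 := by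
    have h6 : ∑ z : MuP K p k, Algebra.trace ℚ K (cK k x * cK k (z : Mu K p k)) = 0 := by
      rw [← map_sum, ← Finset.mul_sum, h3, mul_zero, map_zero]
    simp_rw [h4] at h6
    rw [Finset.sum_const, Finset.card_univ, nsmul_eq_mul] at h6
    exact h6
  have h7 : (Fintype.card (MuP K p k) : ℚ) ≠ 0 := by
    exact_mod_cast Fintype.card_ne_zero
  have h8 := (mul_eq_zero.1 h5).resolve_left h7
  unfold LL
  rw [h8]
  simp

/-- The value at elements of order `p`. -/
theorem LL_of_mem {z : Mu K p k} (hz : z ∈ MuP K p k) (hz1 : z ≠ 1) :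
    LL k z = -1 / ((Fintype.card (MuP K p k) : ℝ) - 1) := by
  classical
  have h3 := sum_MuP_eq_zero k hz hz1
  have hT := trace_one_ne_zero (K := K)
  have h4 : ∀ z' : MuP K p k, z' ≠ 1 → Algebra.trace ℚ K (cK k (z' : Mu K p k)) = Algebra.trace ℚ K (cK k z) := by
    intro z' hz'
    refine trace_eq_of_root_p (p := p) k ?_ ?_ ?_ ?_
    · rw [← cK_pow, (mem_MuP k).1 z'.2, cK_one]
    · intro h
      apply hz'
      apply Subtype.ext
      apply cK_injective k
      rw [h]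
      rfl
    · rw [← cK_pow, (mem_MuP k).1 hz, cK_one]
    · intro h
      apply hz1
      apply cK_injective k
      rw [h, cK_one]
  have h5 : Algebra.trace ℚ K 1 + ((Fintype.card (MuP K p k) : ℚ) - 1) * Algebra.trace ℚ K (cK k z) = 0 := by
    have h6 : ∑ z' : MuP K p k, Algebra.trace ℚ K (cK k (z' : Mu K p k)) = 0 := by
      rw [← map_sum, h3, map_zero]
    rw [← Finset.add_sum_erase _ _ (Finset.mem_univ (1 : MuP K p k))] at h6
    rw [Finset.sum_congr rfl (g := fun _ => Algebra.trace ℚ K (cK k z)) (fun z' hz' => h4 z' (Finset.mem_erase.1 hz').1),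
      Finset.sum_const, Finset.card_erase_of_mem (Finset.mem_univ _), Finset.card_univ, nsmul_eq_mul] at h6
    have h7 : 1 ≤ Fintype.card (MuP K p k) := Fintype.card_pos
    rw [Nat.cast_sub h7] at h6
    simpa using h6
  have hc : (Fintype.card (MuP K p k) : ℚ) - 1 ≠ 0 := by
    intro h0
    rw [h0, zero_mul, add_zero] at h5
    exact hT h5
  have h8 : Algebra.trace ℚ K (cK k z) / Algebra.trace ℚ K 1 = -1 / ((Fintype.card (MuP K p k) : ℚ) - 1) := by
    field_simp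
    linarith
  unfold LL
  rw [h8]
  push_cast
  rfl

omit hp [IsCyclotomicExtension {p ^ (k + 1)} ℚ K] [Fintype (Mu K p k)] in
theorem one_lt_card_MuP {z : Mu K p k} (hz : z ∈ MuP K p k) (hz1 : z ≠ 1) : 1 < Fintype.card (MuP K p k) := by
  rw [Fintype.one_lt_card_iff]
  exact ⟨⟨z, hz⟩, 1, fun h => hz1 (congrArg Subtype.val h)⟩

end

end Cfsg.Agent.Lib.Block
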