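import Mathlib

/-!
# A lower bound for the average of a Hermitian form over a cyclotomic field (combinatorial part)
-/

set_option autoImplicit false
set_option linter.unusedSectionVars false
set_option linter.unusedVariables false

namespace Cfsg.Agent.Lib.Block

section

variable {A : Type*} [CommGroup A] [Fintype A] (Z : Subgroup A) [Fintype Z]
  {V : Type*} (v : A → V) (W : A → A → ℝ)

/-- The quadratic expression of the differences. -/
def gapW (W : A → A → ℝ) (x y : A) : ℝ := W x x + W y y - W x y - W y x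

theorem sum_le_sum_gap (hsym : ∀ x y, W x y = W y x) (m₀ : ℝ) (hG0 : ∀ x y, 0 ≤ gapW W x y)
    (hG : ∀ x y, v x ≠ v y → m₀ ≤ gapW W x y) {y₀ : A} {z₀ : Z} (hz₀ : v ((z₀ : A) * y₀) ≠ v y₀) :
    (2 * ((Fintype.card Z : ℝ) - 1)) * m₀ ≤ ∑ x : Z, ∑ x' : Z, gapW W ((x' : A) * y₀) ((x : A) * y₀) := by
  classical
  have hsymG : ∀ x y, gapW W x y = gapW W y x := fun x y => by
    unfold gapW
    rw [hsym x y]
    ring
  obtain ⟨G', hG'⟩ : ∃ G' : Z → Z → ℝ, G' = fun (x' x : Z) => gapW W ((x' : A) * y₀) ((x : A) * y₀) := ⟨_, rfl⟩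
  have hg : ∀ x' x, G' x' x = gapW W ((x' : A) * y₀) ((x : A) * y₀) := fun x' x => by rw [hG']
  simp_rw [← hg]
  have hG'0 : ∀ x' x, 0 ≤ G' x' x := fun x' x => by
    rw [hg]
    exact hG0 _ _
  have hG's : ∀ x' x, G' x' x = G' x x' := fun x' x => by
    rw [hg, hg]
    exact hsymG _ _
  have hne : z₀ ≠ 1 := by
    rintro rfl
    apply hz₀
    simp
  have htwo : ∀ x, m₀ ≤ G' x 1 + G' x z₀ := by
    intro x
    have h1 : v ((1 : Z) * y₀ : A) ≠ v ((z₀ : A) * y₀) := by
      simpa using hz₀.symm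
    by_cases hx : v ((x : A) * y₀) = v (((1 : Z) : A) * y₀)
    · have h2 : v ((x : A) * y₀) ≠ v ((z₀ : A) * y₀) := by
        rw [hx]
        simpa using hz₀.symm
      have h3 := hG _ _ h2
      rw [← hg] at h3
      linarith [hG'0 x 1]
    · have h3 := hG _ _ hx
      rw [← hg] at h3
      linarith [hG'0 x z₀]
  obtain ⟨r, hr⟩ : ∃ r : Z → ℝ, r = fun x => ∑ x', G' x' x := ⟨_, rfl⟩
  have hr' : ∀ x, r x = ∑ x', G' x' x := fun x => by rw [hr]
  simp_rw [← hr']
  have hS : (Finset.univ : Finset Z) = insert 1 (insert z₀ ((Finset.univ.erase 1).erase z₀)) := by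
    ext x
    simp only [Finset.mem_univ, Finset.mem_insert, Finset.mem_erase, true_iff, and_true]
    tauto
  have hn1 : (1 : Z) ∉ insert z₀ ((Finset.univ.erase (1 : Z)).erase z₀) := by
    simp only [Finset.mem_insert, Finset.mem_erase, not_or]
    exact ⟨fun h => hne h.symm, by simp⟩
  have hn2 : z₀ ∉ (Finset.univ.erase (1 : Z)).erase z₀ := by simp
  obtain ⟨R, hR⟩ : ∃ R, R = (Finset.univ.erase (1 : Z)).erase z₀ := ⟨_, rfl⟩
  rw [← hR] at hS hn1 hn2
  have hcard : Fintype.card Z = R.card + 2 := by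
    rw [← Finset.card_univ, hS, Finset.card_insert_of_notMem hn1, Finset.card_insert_of_notMem hn2]
  have h1 : (Fintype.card Z : ℝ) * m₀ ≤ r 1 + r z₀ := by
    rw [hr', hr', ← Finset.sum_add_distrib, ← nsmul_eq_mul, ← Finset.card_univ, ← Finset.sum_const]
    exact Finset.sum_le_sum fun x _ => htwo x
  have h2 : (R.card : ℝ) * m₀ ≤ ∑ x ∈ R, r x := by
    rw [← nsmul_eq_mul, ← Finset.sum_const]
    refine Finset.sum_le_sum fun x hx => ?_
    have hx1 : x ≠ z₀ := by
      rw [hR] at hx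
      exact (Finset.mem_erase.1 hx).1
    have hx2 : x ≠ 1 := by
      rw [hR] at hx
      exact (Finset.mem_erase.1 (Finset.mem_erase.1 hx).2).1
    have h3 := htwo x
    rw [hG's x 1, hG's x z₀] at h3
    refine h3.trans ?_
    rw [hr']
    have h4 : ∑ x' ∈ ({1, z₀} : Finset Z), G' x' x ≤ ∑ x', G' x' x :=
      Finset.sum_le_sum_of_subset_of_nonneg (Finset.subset_univ _) fun x' _ _ => hG'0 x' x
    rwa [Finset.sum_pair (Ne.symm hne)] at h4
  have hsum : ∑ x, r x = r 1 + (r z₀ + ∑ x ∈ R, r x) := by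
    rw [hS, Finset.sum_insert hn1, Finset.sum_insert hn2]
  rw [hsum]
  have hc : (Fintype.card Z : ℝ) = R.card + 2 := by exact_mod_cast hcard
  rw [hc] at h1 ⊢
  nlinarith

/-- The averaging identity. -/
theorem sum_L_eq (hsym : ∀ x y, W x y = W y x) (L : A → ℝ) (c : ℝ) (hc : c = (Fintype.card Z : ℝ) - 1) (hc0 : 0 < c)
    (L1 : L 1 = 1) (L2 : ∀ z ∈ Z, z ≠ 1 → L z = -1 / c) (L3 : ∀ x, x ∉ Z → L x = 0) :
    2 * c * ∑ x, ∑ y, L (x * y⁻¹) * W x y = ∑ y, ∑ z : Z, gapW W ((z : A) * y) y := by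
  classical
  -- first step: sums over `Z`
  have hL : ∀ g : A → ℝ, ∑ z, L z * g z = (1 + 1 / c) * g 1 - (1 / c) * ∑ z : Z, g z := by
    intro g
    have h1 : ∑ z, L z * g z = ∑ z : Z, L z * g z := by
      rw [← Finset.sum_subset (Finset.subset_univ (Finset.univ.filter (· ∈ Z)))]
      · refine Finset.sum_subtype _ (fun x => ?_) _
        simp
      · intro x _ hx
        rw [L3 x (by simpa using hx), zero_mul]
    rw [h1]
    have h2 : ∑ z : Z, L z * g z = g 1 + ∑ z ∈ Finset.univ.erase (1 : Z), (-1 / c) * g z := by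
      rw [← Finset.add_sum_erase _ _ (Finset.mem_univ (1 : Z))]
      congr 1
      · simp [L1]
      · refine Finset.sum_congr rfl fun z hz => ?_
        rw [L2 z z.2 (fun h => (Finset.mem_erase.1 hz).1 (Subtype.ext h))]
    have h3 : ∑ z : Z, g z = g 1 + ∑ z ∈ Finset.univ.erase (1 : Z), g z := by
      rw [← Finset.add_sum_erase _ _ (Finset.mem_univ (1 : Z))]
      rfl
    rw [h2, h3, ← Finset.mul_sum]
    field_simp
    ring
  have h1 : ∑ x, ∑ y, L (x * y⁻¹) * W x y = ∑ y, ∑ z, L z * W (z * y) y := by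
    rw [Finset.sum_comm]
    refine Finset.sum_congr rfl fun y _ => ?_
    rw [← Equiv.sum_comp (Equiv.mulRight y)]
    refine Finset.sum_congr rfl fun z _ => ?_
    simp
  rw [h1]
  simp_rw [hL]
  -- the right side
  have h2 : ∑ y, ∑ z : Z, gapW W ((z : A) * y) y =
      2 * (c + 1) * ∑ y, W y y - 2 * ∑ y, ∑ z : Z, W ((z : A) * y) y := by
    unfold gapW
    have h3 : ∑ y, ∑ z : Z, W ((z : A) * y) ((z : A) * y) = (c + 1) * ∑ y, W y y := by
      rw [Finset.sum_comm]
      have h4 : ∀ z : Z, ∑ y, W ((z : A) * y) ((z : A) * y) = ∑ y, W y y := fun z =>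
        Equiv.sum_comp (Equiv.mulLeft (z : A)) (fun y => W y y)
      simp_rw [h4]
      rw [Finset.sum_const, Finset.card_univ, nsmul_eq_mul, hc]
      ring
    have h5 : ∑ y, ∑ z : Z, W y y = (c + 1) * ∑ y, W y y := by
      simp_rw [Finset.sum_const, Finset.card_univ, nsmul_eq_mul]
      rw [Finset.mul_sum, hc]
      refine Finset.sum_congr rfl fun y _ => ?_
      ring
    have h6 : ∑ y, ∑ z : Z, W y ((z : A) * y) = ∑ y, ∑ z : Z, W ((z : A) * y) y :=
      Finset.sum_congr rfl fun y _ => Finset.sum_congr rfl fun z _ => hsym _ _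
    simp_rw [Finset.sum_sub_distrib, Finset.sum_add_distrib]
    rw [h3, h5, h6]
    ring
  rw [h2, Finset.sum_sub_distrib, ← Finset.mul_sum, ← Finset.mul_sum]
  simp only [one_mul]
  field_simp

/-- **The lower bound.** -/
theorem le_sum_L (hsym : ∀ x y, W x y = W y x) (L : A → ℝ) (c : ℝ) (hc : c = (Fintype.card Z : ℝ) - 1) (hc0 : 0 < c)
    (L1 : L 1 = 1) (L2 : ∀ z ∈ Z, z ≠ 1 → L z = -1 / c) (L3 : ∀ x, x ∉ Z → L x = 0) (m₀ : ℝ)
    (hG0 : ∀ x y, 0 ≤ gapW W x y) (hG : ∀ x y, v x ≠ v y → m₀ ≤ gapW W x y) {y₀ : A} {z₀ : Z}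
    (hz₀ : v ((z₀ : A) * y₀) ≠ v y₀) : m₀ ≤ ∑ x, ∑ y, L (x * y⁻¹) * W x y := by
  classical
  have h1 := sum_L_eq Z W hsym L c hc hc0 L1 L2 L3
  have h2 := sum_le_sum_gap Z v W hsym m₀ hG0 hG hz₀
  rw [← hc] at h2
  have h3 : ∑ x : Z, ∑ x' : Z, gapW W ((x' : A) * y₀) ((x : A) * y₀) ≤ ∑ y, ∑ z : Z, gapW W ((z : A) * y) y := by
    have h4 : ∀ x : Z, ∑ x' : Z, gapW W ((x' : A) * y₀) ((x : A) * y₀) =
        ∑ z : Z, gapW W ((z : A) * ((x : A) * y₀)) ((x : A) * y₀) := fun x => by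
      rw [← Equiv.sum_comp (Equiv.mulRight x)]
      refine Finset.sum_congr rfl fun z _ => ?_
      simp [mul_assoc]
    simp_rw [h4]
    have hinj : Function.Injective (fun x : Z => (x : A) * y₀) := fun a b h => by
      apply Subtype.ext
      simpa using h
    have h5 := Finset.sum_image (s := Finset.univ) (g := fun x : Z => (x : A) * y₀)
      (f := fun y => ∑ z : Z, gapW W ((z : A) * y) y) (fun a _ b _ h => hinj h)
    rw [← h5]
    exact Finset.sum_le_sum_of_subset_of_nonneg (Finset.subset_univ _)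
      fun y _ _ => Finset.sum_nonneg fun z _ => hG0 _ _
  have h6 : 2 * c * m₀ ≤ 2 * c * ∑ x, ∑ y, L (x * y⁻¹) * W x y := by
    rw [h1]
    linarith
  have h7 : 0 < 2 * c := by positivity
  exact le_of_mul_le_mul_left h6 h7

end

end Cfsg.Agent.Lib.Block
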