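import Cfsg.Agent.Lib.Block.CycSum

/-!
# Averaging over the Galois group of a cyclotomic field of `2`-power conductor

For a real algebraic integer `x` of `ℚ(ζ)`, `ζ` a primitive `2^(j+2)`-th root of unity, the normalized trace of `x` is a
rational integer `m`, and `x - m` is a `ℤ`-combination of the elements `ζ^i - 1`.
-/

set_option autoImplicit false
set_option linter.unusedSectionVars false
set_option linter.unusedVariables false

open scoped ComplexConjugate

namespace Cfsg.Agent.Lib.Block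

section Trace

variable {K : Type} [Field K] [NumberField K]

theorem trace_aut (σ : Gal(K/ℚ)) (x : K) : Algebra.trace ℚ K (σ x) = Algebra.trace ℚ K x :=
  Algebra.trace_eq_of_algEquiv σ x

theorem sum_emb_eq_trace (x : K) : ∑ τ : K →ₐ[ℚ] ℂ, τ x = ((Algebra.trace ℚ K x : ℚ) : ℂ) := by
  have := trace_eq_sum_embeddings (K := ℚ) (L := K) ℂ (x := x)
  rw [← this]
  simp

variable (j : ℕ) [IsCyclotomicExtension {2 ^ (j + 2)} ℚ K]

include j in
/-- The trace of a `2`-power root of unity different from `±1` vanishes. -/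
theorem trace_eq_zero_of_root {η : K} (h : η ^ 2 ^ (j + 2) = 1) (h2 : η ^ 2 ≠ 1) : Algebra.trace ℚ K η = 0 := by
  classical
  haveI : NeZero (2 ^ (j + 2)) := ⟨by positivity⟩
  have hd : orderOf η ∣ 2 ^ (j + 2) := orderOf_dvd_of_pow_eq_one h
  obtain ⟨s, hs, hs'⟩ := (Nat.dvd_prime_pow Nat.prime_two).1 hd
  have hs2 : 2 ≤ s := by
    by_contra hlt
    push Not at hlt
    apply h2
    have : orderOf η ∣ 2 := by
      rw [hs']
      have : s ≤ 1 := by omega
      calc 2 ^ s ∣ 2 ^ 1 := pow_dvd_pow _ this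
        _ = 2 := by norm_num
    exact orderOf_dvd_iff_pow_eq_one.1 this
  obtain ⟨t, rfl⟩ : ∃ t, s = t + 1 := ⟨s - 1, by omega⟩
  have hw2 : (η ^ 2 ^ t) ^ 2 = 1 := by
    rw [← pow_mul, ← pow_succ, ← hs']
    exact pow_orderOf_eq_one η
  have hw1 : η ^ 2 ^ t ≠ 1 := by
    intro hw
    have h3 := orderOf_dvd_of_pow_eq_one hw
    rw [hs'] at h3
    have h4 := Nat.le_of_dvd (by positivity) h3
    have h5 : 2 ^ t < 2 ^ (t + 1) := Nat.pow_lt_pow_right (by norm_num) (by omega)
    omega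
  have hw : η ^ 2 ^ t = -1 := by
    have h6 : (η ^ 2 ^ t - 1) * (η ^ 2 ^ t + 1) = 0 := by
      ring_nf
      rw [show η ^ (2 ^ t * 2) = (η ^ 2 ^ t) ^ 2 by rw [pow_mul], hw2]
      ring
    rcases mul_eq_zero.1 h6 with h7 | h7
    · exact absurd (sub_eq_zero.1 h7) hw1
    · exact eq_neg_of_add_eq_zero_left h7
  have hcop : (1 + 2 ^ t).Coprime (2 ^ (j + 2)) := by
    apply Nat.Coprime.pow_right
    have ht : t ≠ 0 := by omega
    have : Odd (1 + 2 ^ t) := by
      have h2t : Even (2 ^ t) := (Nat.even_pow' ht).2 even_two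
      exact h2t.one_add
    exact Nat.coprime_two_right.2 this
  obtain ⟨σ, hσ⟩ := Cfsg.Agent.Lib.Char.exists_aut_pow (2 ^ (j + 2)) K (1 + 2 ^ t) hcop
  have h8 : σ η = -η := by
    rw [hσ η h, pow_add, pow_one, hw]
    ring
  have h9 := trace_aut σ η
  rw [h8, map_neg] at h9
  have h10 : (2 : ℚ) * Algebra.trace ℚ K η = 0 := by linarith
  simpa using h10

end Trace

section Real

variable (j : ℕ)

/-- The structure of real algebraic integers. -/
theorem exists_int_of_real {K : Type} [Field K] [NumberField K] [IsCyclotomicExtension {2 ^ (j + 2)} ℚ K] (c : Gal(K/ℚ))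
    (hc : ∀ y : K, y ^ 2 ^ (j + 2) = 1 → c y = y ^ (2 ^ (j + 2) - 1)) {x : K} (hi : IsIntegral ℤ x) (hx : c x = x) :
    ∃ (m : ℤ) (s : Finset ℕ) (d : ℕ → ℤ) (ζ : K), ζ ^ 2 ^ (j + 2) = 1 ∧
      Algebra.trace ℚ K x = Algebra.trace ℚ K 1 * (m : ℚ) ∧
      x = (m : K) + ∑ i ∈ s, (d i : K) * (ζ ^ (i + 1) - 1) := by
  classical
  haveI : NeZero (2 ^ (j + 2)) := ⟨by positivity⟩
  have hζ := IsCyclotomicExtension.zeta_spec (2 ^ (j + 2)) ℚ K
  obtain ⟨ζ, hζdef⟩ : ∃ ζ, ζ = IsCyclotomicExtension.zeta (2 ^ (j + 2)) ℚ K := ⟨_, rfl⟩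
  rw [← hζdef] at hζ
  obtain ⟨φ, hφ⟩ : ∃ φ, φ = 2 ^ (j + 1) := ⟨_, rfl⟩
  have hN : 2 ^ (j + 2) = 2 * φ := by
    rw [hφ]
    ring
  have hφpos : 0 < φ := by
    rw [hφ]
    positivity
  have hdim : hζ.integralPowerBasis.dim = φ := by
    rw [IsPrimitiveRoot.integralPowerBasis_dim hζ, Nat.totient_prime_pow Nat.prime_two (by omega), hφ]
    simp
  -- the coordinates
  obtain ⟨y, hy⟩ : ∃ y : NumberField.RingOfIntegers K, (y : K) = x :=
    ⟨IsIntegralClosure.mk' (NumberField.RingOfIntegers K) x hi, IsIntegralClosure.algebraMap_mk' _ _ _⟩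
  obtain ⟨f, hfd, hf⟩ := hζ.integralPowerBasis.exists_eq_aeval y
  rw [hdim] at hfd
  rw [IsPrimitiveRoot.integralPowerBasis_gen] at hf
  obtain ⟨e, he⟩ : ∃ e : ℕ → ℤ, e = fun i => f.coeff i := ⟨_, rfl⟩
  have hxs : x = ∑ i ∈ Finset.range φ, (e i : K) * ζ ^ i := by
    have h1 : x = Polynomial.aeval ζ f := by
      have h3 := Polynomial.aeval_algebraMap_apply K hζ.toInteger f
      rw [← hf] at h3
      have h4 : algebraMap (NumberField.RingOfIntegers K) K hζ.toInteger = ζ := rfl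
      rw [h4] at h3
      rw [h3, ← hy]
    rw [h1, Polynomial.aeval_eq_sum_range' hfd]
    refine Finset.sum_congr rfl fun i _ => ?_
    rw [he, zsmul_eq_mul]
  -- facts about `ζ`
  have hζN : ζ ^ (2 * φ) = 1 := by
    rw [← hN]
    exact hζ.pow_eq_one
  have hζφ : ζ ^ φ = -1 := by
    have h1 : (ζ ^ φ) ^ 2 = 1 := by
      rw [← pow_mul, mul_comm]
      exact hζN
    have h2 : ζ ^ φ ≠ 1 := by
      intro h
      have h3 := hζ.dvd_of_pow_eq_one _ h
      rw [hN] at h3
      have := Nat.le_of_dvd hφpos h3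
      omega
    have h6 : (ζ ^ φ - 1) * (ζ ^ φ + 1) = 0 := by
      ring_nf
      rw [show ζ ^ (φ * 2) = (ζ ^ φ) ^ 2 by rw [pow_mul], h1]
      ring
    rcases mul_eq_zero.1 h6 with h7 | h7
    · exact absurd (sub_eq_zero.1 h7) h2
    · exact eq_neg_of_add_eq_zero_left h7
  have hT0 : ∀ k : ℕ, ¬ φ ∣ k → Algebra.trace ℚ K (ζ ^ k) = 0 := by
    intro k hk
    refine trace_eq_zero_of_root j (η := ζ ^ k) ?_ ?_
    · rw [← pow_mul, mul_comm, pow_mul, hζ.pow_eq_one, one_pow]
    · intro h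
      rw [← pow_mul] at h
      have h3 := hζ.dvd_of_pow_eq_one _ h
      rw [hN, mul_comm k 2] at h3
      exact hk (Nat.dvd_of_mul_dvd_mul_left (by norm_num) h3)
  obtain ⟨T1, hT1⟩ : ∃ T1, T1 = Algebra.trace ℚ K 1 := ⟨_, rfl⟩
  have hT1ne : T1 ≠ 0 := by
    have h1 := Algebra.trace_algebraMap (R := ℚ) (S := K) (1 : ℚ)
    rw [map_one] at h1
    rw [hT1, h1]
    have h2 : 0 < Module.finrank ℚ K := Module.finrank_pos
    simp only [nsmul_eq_mul, mul_one]
    exact_mod_cast h2.ne'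
  -- extraction of the coordinates
  have hcoord : ∀ i, i < φ → Algebra.trace ℚ K (x * ζ ^ (2 * φ - i)) = T1 * (e i : ℚ) := by
    intro i hi1
    rw [hxs, Finset.sum_mul, map_sum, Finset.sum_eq_single i]
    · rw [mul_assoc, ← pow_add]
      have h3 : i + (2 * φ - i) = 2 * φ := by omega
      rw [h3, hζN, mul_one]
      have h2 : (e i : K) = (e i : ℚ) • (1 : K) := by
        rw [Algebra.smul_def]
        simp
      rw [h2, map_smul, smul_eq_mul, ← hT1]
      ring
    · intro k hk hki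
      have hk' := Finset.mem_range.1 hk
      rw [mul_assoc, ← pow_add]
      have h2 : (e k : K) * ζ ^ (k + (2 * φ - i)) = (e k : ℚ) • ζ ^ (k + (2 * φ - i)) := by
        rw [Algebra.smul_def]
        simp
      rw [h2, map_smul, smul_eq_mul]
      have h3 : ¬ φ ∣ k + (2 * φ - i) := by
        rintro ⟨w, hw⟩
        have hw1 : w < 3 := by
          by_contra hw3
          push Not at hw3
          have : φ * 3 ≤ φ * w := Nat.mul_le_mul_left _ hw3
          omega
        have hw2 : 2 ≤ w := by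
          by_contra hw3
          push Not at hw3
          have : φ * w ≤ φ * 1 := Nat.mul_le_mul_left _ (by omega)
          omega
        have hw4 : w = 2 := by omega
        subst hw4
        omega
      rw [hT0 _ h3, mul_zero]
    · intro h
      exact absurd (Finset.mem_range.2 hi1) h
  have hpow : ∀ k, (ζ ^ k) ^ 2 ^ (j + 2) = 1 := fun k => by
    rw [← pow_mul, mul_comm, pow_mul, hζ.pow_eq_one, one_pow]
  -- reality
  have hsymm : ∀ i, 0 < i → i < φ → e i = - e (φ - i) := by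
    intro i hi0 hi1
    have h1 : c (ζ ^ (2 * φ - i)) = ζ ^ i := by
      rw [hc _ (hpow _), ← pow_mul]
      have h2 : ζ ^ i * (ζ ^ (2 * φ - i) ) = 1 := by
        rw [← pow_add, show i + (2 * φ - i) = 2 * φ by omega, hζN]
      have h3 : (ζ ^ (2 * φ - i)) * ζ ^ ((2 * φ - i) * (2 ^ (j + 2) - 1)) = 1 := by
        rw [← pow_add]
        have h4 : 2 * φ - i + (2 * φ - i) * (2 ^ (j + 2) - 1) = (2 * φ - i) * 2 ^ (j + 2) := by
          have h5 : 1 ≤ 2 ^ (j + 2) := Nat.one_le_two_pow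
          obtain ⟨v, hv⟩ : ∃ v, 2 ^ (j + 2) = v + 1 := ⟨2 ^ (j + 2) - 1, by omega⟩
          rw [hv, Nat.add_sub_cancel]
          ring
        rw [h4, pow_mul]
        exact hpow _
      have h6 : ζ ^ (2 * φ - i) ≠ 0 := by
        intro h0
        rw [h0] at h3
        simp at h3
      apply mul_left_cancel₀ h6
      rw [h3, mul_comm, h2]
    have h2 : Algebra.trace ℚ K (x * ζ ^ (2 * φ - i)) = Algebra.trace ℚ K (x * ζ ^ i) := by
      have h3 := trace_aut c (x * ζ ^ (2 * φ - i))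
      rw [map_mul, hx, h1] at h3
      exact h3.symm
    have h3 : ζ ^ i = - ζ ^ (2 * φ - (φ - i)) := by
      have h4 : 2 * φ - (φ - i) = φ + i := by omega
      rw [h4, pow_add, hζφ]
      ring
    rw [hcoord i hi1, h3, mul_neg, map_neg, hcoord (φ - i) (by omega)] at h2
    have h4 : T1 * ((e i : ℚ) + (e (φ - i) : ℚ)) = 0 := by
      rw [mul_add, h2]
      ring
    have h5 : (e i : ℚ) + (e (φ - i) : ℚ) = 0 := (mul_eq_zero.1 h4).resolve_left hT1ne
    have h6 : e i + e (φ - i) = 0 := by exact_mod_cast h5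
    omega
  -- the sum of the other coordinates vanishes
  obtain ⟨φ', hφ'⟩ : ∃ φ', φ = φ' + 1 := ⟨φ - 1, by omega⟩
  have hsum : ∑ i ∈ Finset.range φ', e (i + 1) = 0 := by
    have h1 := Finset.sum_range_reflect (fun i => e (i + 1)) φ'
    have h2 : ∑ i ∈ Finset.range φ', e (φ' - 1 - i + 1) = - ∑ i ∈ Finset.range φ', e (i + 1) := by
      rw [← Finset.sum_neg_distrib]
      refine Finset.sum_congr rfl fun i hi => ?_
      have hi' := Finset.mem_range.1 hi
      have h3 := hsymm (i + 1) (by omega) (by omega)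
      have h4 : φ - (i + 1) = φ' - 1 - i + 1 := by omega
      rw [h4] at h3
      omega
    rw [h2] at h1
    omega
  refine ⟨e 0, Finset.range φ', fun i => e (i + 1), ζ, hζ.pow_eq_one, ?_, ?_⟩
  · have h1 := hcoord 0 hφpos
    have h2 : 2 * φ - 0 = 2 * φ := by omega
    rw [h2, hζN, mul_one] at h1
    rw [h1, hT1]
  · rw [hxs, hφ', Finset.sum_range_succ']
    simp only [pow_zero, mul_one]
    rw [add_comm]
    congr 1
    have h1 : ∑ i ∈ Finset.range φ', (e (i + 1) : K) = 0 := by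
      have := congrArg (fun z : ℤ => (z : K)) hsum
      simpa using this
    have h2 : ∑ i ∈ Finset.range φ', (e (i + 1) : K) * ζ ^ (i + 1) =
        ∑ i ∈ Finset.range φ', (e (i + 1) : K) * (ζ ^ (i + 1) - 1) + ∑ i ∈ Finset.range φ', (e (i + 1) : K) := by
      rw [← Finset.sum_add_distrib]
      refine Finset.sum_congr rfl fun i _ => ?_
      ring
    rw [h2, h1, add_zero]

end Real

end Cfsg.Agent.Lib.Block
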