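import Cfsg.Agent.Lib.Block.Quot

/-!
# Blocks of `G = P C_G(P)` with defect group `P`
-/

set_option autoImplicit false
set_option linter.unusedSectionVars false
set_option linter.unusedSimpArgs false
set_option linter.unusedVariables false

open scoped ComplexConjugate
open Cfsg MonoidAlgebra Cfsg.Agent.Lib.Char

namespace Cfsg.Agent.Lib.Block

section PC

variable {G : Type*} [Group G] [Fintype G] {p : ℕ} [hp : Fact p.Prime] {M : Ideal AlgInt} {P : Subgroup G}

theorem normal_of_sup_centralizer (hG : P ⊔ Subgroup.centralizer (P : Set G) = ⊤) : P.Normal := by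
  have h : Subgroup.normalizer (P : Set G) = ⊤ := by
    rw [eq_top_iff, ← hG]
    exact sup_le (le_normalizer_self P) (centralizer_le_normalizer_self P)
  exact Subgroup.normalizer_eq_top_iff.1 h

theorem exists_index_centralizer [P.Normal] (hG : P ⊔ Subgroup.centralizer (P : Set G) = ⊤) (hP : IsPGroup p P) :
    ∃ k : ℕ, (Subgroup.centralizer (P : Set G)).index = p ^ k := by
  have h1 : (Subgroup.centralizer (P : Set G)).index = (Subgroup.centralizer (P : Set G)).relIndex P := by
    rw [← Subgroup.relIndex_sup_right, hG, Subgroup.relIndex_top_right]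
  obtain ⟨n, hn⟩ := IsPGroup.iff_card.1 hP
  have h2 := Subgroup.relIndex_dvd_card (Subgroup.centralizer (P : Set G)) P
  rw [← h1, hn] at h2
  obtain ⟨k, _, hk⟩ := (Nat.dvd_prime_pow hp.out).1 h2
  exact ⟨k, hk⟩

/-- Central elements of the group algebra of the centralizer are central. -/
theorem isCentralElt_incl_of_sup [Fintype (Subgroup.centralizer (P : Set G))] [P.Normal]
    (hG : P ⊔ Subgroup.centralizer (P : Set G) = ⊤) {w : MonoidAlgebra ℂ (Subgroup.centralizer (P : Set G))}
    (hw : IsCentralElt w) : IsCentralElt (incl (Subgroup.centralizer (P : Set G)) w) := by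
  intro g a
  have hCn : (Subgroup.centralizer (P : Set G)).Normal := inferInstance
  have hgmem : g ∈ P ⊔ Subgroup.centralizer (P : Set G) := by rw [hG]; trivial
  obtain ⟨x, hx, c, hc, rfl⟩ := Subgroup.mem_sup_of_normal_right.1 hgmem
  by_cases ha : a ∈ Subgroup.centralizer (P : Set G)
  · have e : x * c * a * (x * c)⁻¹ = c * a * c⁻¹ := by
      have hca : c * a * c⁻¹ ∈ Subgroup.centralizer (P : Set G) := hCn.conj_mem a ha c
      have := Subgroup.mem_centralizer_iff.1 hca x hx
      calc x * c * a * (x * c)⁻¹ = x * (c * a * c⁻¹) * x⁻¹ := by group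
        _ = (c * a * c⁻¹) * x * x⁻¹ := by rw [this]
        _ = c * a * c⁻¹ := by group
    rw [e]
    have h1 := coeff_incl_coe (Subgroup.centralizer (P : Set G)) w (⟨c * a * c⁻¹, hCn.conj_mem a ha c⟩)
    have h2 := coeff_incl_coe (Subgroup.centralizer (P : Set G)) w (⟨a, ha⟩)
    simp only at h1 h2
    rw [h1, h2]
    exact hw ⟨c, hc⟩ ⟨a, ha⟩
  · have h1 : x * c * a * (x * c)⁻¹ ∉ Subgroup.centralizer (P : Set G) := fun h => ha (by
      have := hCn.conj_mem _ h (x * c)⁻¹
      simpa [mul_assoc] using this)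
    rw [coeff_incl_of_notMem _ _ ha, coeff_incl_of_notMem _ _ h1]

/-- Values of irreducible characters on the product `P C_G(P)`. -/
theorem irr_mul_centralizer [P.Normal] (hG : P ⊔ Subgroup.centralizer (P : Set G) = ⊤) (χ : IrrCharacter G)
    {x c : G} (hx : x ∈ P) (hc : c ∈ Subgroup.centralizer (P : Set G)) :
    (χ : G → ℂ) (x * c) * (χ : G → ℂ) 1 = (χ : G → ℂ) x * (χ : G → ℂ) c := by
  classical
  haveI : Fintype (Subgroup.centralizer (P : Set G)) := Fintype.ofFinite _
  have hcf := IsCharacter.isClassFunction (IsIrrCharacter.isCharacter χ.2)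
  set C := Subgroup.centralizer (P : Set G) with hC
  have hz := isCentralElt_incl_of_sup hG (isCentralElt_classSum (⟨c, hc⟩ : C))
  have h1 := tr_mul_central χ.2 hz (MonoidAlgebra.single x 1)
  rw [tr_single, one_mul, tr_mul_single, tr_incl] at h1
  have hcl1 : IsClassFunction C (fun a : C => (χ : G → ℂ) ((a : G) * x)) := by
    intro a d
    have hd : (d : G) * x = x * (d : G) := (Subgroup.mem_centralizer_iff.1 d.2 x hx).symm
    have hdi : (d : G)⁻¹ * x = x * (d : G)⁻¹ := (Commute.inv_left (show Commute (d : G) x from hd)).eq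
    have e : (((d * a * d⁻¹ : C) : G)) * x = (d : G) * ((a : G) * x) * (d : G)⁻¹ := by
      push_cast
      calc (d : G) * a * (d : G)⁻¹ * x = (d : G) * a * ((d : G)⁻¹ * x) := by group
        _ = (d : G) * a * (x * (d : G)⁻¹) := by rw [hdi]
        _ = (d : G) * ((a : G) * x) * (d : G)⁻¹ := by group
    simp only
    rw [e, hcf]
  have hcl2 : IsClassFunction C (fun a : C => (χ : G → ℂ) (a : G)) := by
    intro a d
    simp only
    push_cast
    rw [hcf]
  rw [tr_classSum hcl1] at h1
  have h2 : om (χ : G → ℂ) (incl C (classSum (⟨c, hc⟩ : C))) =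
      ((Subgroup.centralizer ({(⟨c, hc⟩ : C)} : Set C)).index : ℂ) * (χ : G → ℂ) c / (χ : G → ℂ) 1 := by
    unfold om
    rw [tr_incl, tr_classSum hcl2]
  rw [h2] at h1
  simp only at h1
  have hindex : ((Subgroup.centralizer ({(⟨c, hc⟩ : C)} : Set C)).index : ℂ) ≠ 0 := by
    exact_mod_cast (Subgroup.index_ne_zero_of_finite)
  have hχ1 := isIrr_one_ne_zero χ.2
  have hcomm : x * c = c * x := (Subgroup.mem_centralizer_iff.1 hc x hx)
  rw [hcomm]
  field_simp at h1
  linear_combination h1

end PC

end Cfsg.Agent.Lib.Block
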