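import Cfsg.Agent.Lib.CharExtra.PReg
import Cfsg.Agent.Lib.CharExtra.Central
import Cfsg.Agent.Lib.Block.Height
import Cfsg.Agent.Lib.Block.MinMax
import Cfsg.Agent.Lib.Block.FirstMain
import Cfsg.Agent.Lib.Block.Jordan
import Cfsg.Agent.Lib.Block.Section

/-!
# Characters of maximal degree over a central `p`-subgroup

If `D` is a central `p`-subgroup and `χ(1)_p = |G : D|_p`, then `χ` vanishes on the elements whose `p`-part is outside
`D`, and `D` is a defect group of the block of `χ`.
-/

set_option autoImplicit false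
set_option linter.unusedSectionVars false
set_option linter.unusedSimpArgs false
set_option linter.unusedVariables false
set_option linter.style.haveILetI false

open scoped ComplexConjugate
open Cfsg MonoidAlgebra
open Cfsg.Agent.Lib.Char Cfsg.Agent.Lib.CharExtra Cfsg.Agent.Lib.Core

namespace Cfsg.Agent.Lib.Block

section CT

variable {G : Type*} [Group G] [Fintype G] {p : ℕ} [hp : Fact p.Prime] {M : Ideal AlgInt}

open Classical in
/-- `χ` on the elements whose `p`-part lies in `D`. -/
noncomputable def sectD (p : ℕ) (D : Subgroup G) (χ : G → ℂ) : G → ℂ :=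
  fun g => if ∃ x ∈ D, IsPPart p g x then χ g else 0

theorem isPPart_unique {g x x' : G} (h : IsPPart p g x) (h' : IsPPart p g x') : x = x' := by
  obtain ⟨a, b, rfl, hc, ha, hb, hza, hzb⟩ := exists_jordan (p := p) g
  obtain ⟨y, hy, hcy, hx, hyr⟩ := h
  obtain ⟨y', hy', hcy', hx', hyr'⟩ := h'
  have h1 := jordan_unique (p := p) hc hcy hy.symm hza hzb ha hb hx hyr
  have h2 := jordan_unique (p := p) hc hcy' hy'.symm hza hzb ha hb hx' hyr'
  exact h1.1.symm.trans h2.1

theorem exists_isPPart (g : G) : ∃ x, IsPPart p g x := by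
  obtain ⟨a, b, hab, hc, ha, hb, -, -⟩ := exists_jordan (p := p) g
  exact ⟨a, b, hab, hc, ha, hb⟩

/-- The section function is a class function. -/
theorem sectD_isClassFunction {D : Subgroup G} (hD : D ≤ Subgroup.center G) {χ : G → ℂ} (hχ : IsClassFunction G χ) :
    IsClassFunction G (sectD p D χ) := by
  classical
  have key : ∀ g h : G, (∃ x ∈ D, IsPPart p g x) → ∃ x ∈ D, IsPPart p (h * g * h⁻¹) x := by
    rintro g h ⟨x, hx, y, hy, hc, hxo, hyo⟩
    refine ⟨x, hx, h * y * h⁻¹, ?_, ?_, hxo, by rwa [orderOf_conj]⟩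
    · have h1 := (Subgroup.mem_center_iff.1 (hD hx)) h
      rw [← hy]
      calc x * (h * y * h⁻¹) = (x * h) * y * h⁻¹ := by group
        _ = (h * x) * y * h⁻¹ := by rw [← h1]
        _ = h * (x * y) * h⁻¹ := by group
    · have h1 := (Subgroup.mem_center_iff.1 (hD hx)) h
      have h2 := (Subgroup.mem_center_iff.1 (hD hx)) (h * y * h⁻¹)
      exact h2.symm
  intro g h
  unfold sectD
  rw [hχ]
  by_cases hg : ∃ x ∈ D, IsPPart p g x
  · rw [if_pos hg, if_pos (key g h hg)]
  · rw [if_neg hg, if_neg]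
    intro h1
    apply hg
    have := key _ h⁻¹ h1
    simpa [mul_assoc] using this

theorem generalized_of_int_inner {H : Type*} [Group H] [Fintype H] {φ : H → ℂ} (hφ : IsClassFunction H φ)
    (h : ∀ ξ : IrrCharacter H, ∃ n : ℤ, classInner φ (ξ : H → ℂ) = n) : IsGeneralizedCharacter H φ := by
  classical
  rw [classFunction_eq_sum φ hφ]
  refine Finset.sum_induction _ (IsGeneralizedCharacter H) (fun _ _ ha hb => IsGeneralizedCharacter.add ha hb)
    IsGeneralizedCharacter.zero fun ξ _ => ?_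
  obtain ⟨n, hn⟩ := h ξ
  rw [hn]
  exact IsGeneralizedCharacter.intCast_smul (IsGeneralizedCharacter.of_isCharacter (IsIrrCharacter.isCharacter ξ.2)) n

/-- Local integrality forces divisibility by powers of `p`. -/
theorem pow_dvd_of_memLocalRing (hM : IsPModular p M) (s : ℕ) : ∀ n : ℕ,
    MemLocalRing M ((n : ℂ) / ((p ^ s : ℕ) : ℂ)) → p ^ s ∣ n := by
  have := isPModular_isPrime hM
  induction s with
  | zero => intro n _; simp
  | succ s ih =>
    intro n h
    have hp0 : ((p : ℕ) : ℂ) ≠ 0 := Nat.cast_ne_zero.2 hp.out.ne_zero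
    have h1 : MemLocalRing M ((n : ℂ) / ((p ^ s : ℕ) : ℂ)) := by
      have e : (n : ℂ) / ((p ^ s : ℕ) : ℂ) = ((p : ℕ) : ℂ) * ((n : ℂ) / ((p ^ (s + 1) : ℕ) : ℂ)) := by
        push_cast
        field_simp
        ring
      rw [e]
      exact memLocalRing_mul (memLocalRing_natCast _) h
    obtain ⟨k, rfl⟩ := ih n h1
    have h2 : MemLocalRing M ((k : ℂ) / ((p : ℕ) : ℂ)) := by
      have e : (k : ℂ) / ((p : ℕ) : ℂ) = ((p ^ s * k : ℕ) : ℂ) / ((p ^ (s + 1) : ℕ) : ℂ) := by
        push_cast
        field_simp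
        ring
      rw [e]
      exact h
    have h3 : MemLocalIdeal M ((k : ℕ) : ℂ) := by
      have e : ((k : ℕ) : ℂ) = ((p : ℕ) : ℂ) * ((k : ℂ) / ((p : ℕ) : ℂ)) := by
        field_simp
      rw [e]
      exact memLocalIdeal_mul_right (memLocalIdeal_p hM) h2
    have h4 := (memLocalIdeal_natCast_iff hM k).1 h3
    rw [pow_succ]
    exact Nat.mul_dvd_mul_left _ h4

/-- Division by the index of a central subgroup in a commuting `p`-group. -/
theorem chi_div_relIndex_local (hM : IsPModular p M) {D : Subgroup G} (hD : D ≤ Subgroup.center G)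
    (χ : IrrCharacter G) (hdeg : (charDegree (χ : G → ℂ)).factorization p = D.index.factorization p)
    {v : G} {H : Subgroup G} (hH : ∀ h ∈ H, h * v = v * h) :
    MemLocalRing M ((χ : G → ℂ) v / ((D.relIndex H : ℕ) : ℂ)) := by
  classical
  have := isPModular_isPrime hM
  haveI hDn : D.Normal := by
    refine ⟨fun n hn g => ?_⟩
    have h1 := (Subgroup.mem_center_iff.1 (hD hn)) g
    rw [h1]
    simpa using hn
  obtain ⟨R, hR⟩ : ∃ R : Subgroup G, R = H ⊔ D := ⟨_, rfl⟩
  have hRC : R ≤ Subgroup.centralizer ({v} : Set G) := by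
    rw [hR]
    refine sup_le (fun h hh => ?_) (fun d hd => ?_)
    · rw [Subgroup.mem_centralizer_singleton_iff]
      exact hH h hh
    · rw [Subgroup.mem_centralizer_singleton_iff]
      exact ((Subgroup.mem_center_iff.1 (hD hd)) v).symm
  have hDR : D ≤ R := by
    rw [hR]
    exact le_sup_right
  have h1 : D.relIndex R = D.relIndex H := by
    rw [hR]
    exact Subgroup.relIndex_sup_right H D
  have h2 : Nat.card D * D.relIndex H = Nat.card R := by
    rw [← h1]
    have h3 := (D.subgroupOf R).card_mul_index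
    rwa [Nat.card_congr (Subgroup.subgroupOfEquivOfLe hDR).toEquiv] at h3
  obtain ⟨r, hr⟩ := Subgroup.card_dvd_of_le hRC
  have h3 : Nat.card D * D.index = Nat.card G := D.card_mul_index
  have h4 : Nat.card (Subgroup.centralizer ({v} : Set G)) * (Subgroup.centralizer ({v} : Set G)).index = Nat.card G :=
    Subgroup.card_mul_index _
  have h5 : D.index = D.relIndex H * r * (Subgroup.centralizer ({v} : Set G)).index := by
    apply Nat.eq_of_mul_eq_mul_left (Nat.card_pos (α := D))
    rw [h3, ← h4, hr, ← h2]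
    ring
  have hi0 : D.index ≠ 0 := Subgroup.index_ne_zero_of_finite
  have hχ1 : (χ : G → ℂ) 1 = (charDegree (χ : G → ℂ) : ℂ) := map_one_eq_charDegree (IsIrrCharacter.isCharacter χ.2)
  have hχ0 : (χ : G → ℂ) 1 ≠ 0 := isIrr_one_ne_zero χ.2
  have hd0 : charDegree (χ : G → ℂ) ≠ 0 := by
    intro h
    rw [hχ1, h] at hχ0
    simp at hχ0
  have hu := (localUnit_natCast_div (M := M) hM hd0 hi0 hdeg).1
  have hm0 : D.relIndex H ≠ 0 := by
    intro h
    rw [h] at h5
    simp at h5
    exact hi0 h5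
  have hr0 : r ≠ 0 := by
    intro h
    rw [h] at h5
    simp at h5
    exact hi0 h5
  have hv0 : (Subgroup.centralizer ({v} : Set G)).index ≠ 0 := by
    intro h
    rw [h] at h5
    simp at h5
    exact hi0 h5
  have e : (χ : G → ℂ) v / ((D.relIndex H : ℕ) : ℂ) = centralChar (χ : G → ℂ) v *
      ((charDegree (χ : G → ℂ) : ℂ) / (D.index : ℂ)) * (r : ℂ) := by
    unfold centralChar
    rw [hχ1, h5]
    have h6 : (charDegree (χ : G → ℂ) : ℂ) ≠ 0 := Nat.cast_ne_zero.2 hd0
    have h7 : ((D.relIndex H : ℕ) : ℂ) ≠ 0 := Nat.cast_ne_zero.2 hm0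
    have h8 : (r : ℂ) ≠ 0 := Nat.cast_ne_zero.2 hr0
    have h9 : ((Subgroup.centralizer ({v} : Set G)).index : ℂ) ≠ 0 := Nat.cast_ne_zero.2 hv0
    push_cast
    field_simp
  rw [e]
  exact memLocalRing_mul (memLocalRing_mul (memLocalRing_centralChar χ.2 v) hu) (memLocalRing_natCast _)

/-- The inner products of the section function with characters of a nilpotent subgroup are integers. -/
theorem inner_sectD_int (hM : IsPModular p M) {D : Subgroup G} (hD : D ≤ Subgroup.center G)
    (χ : IrrCharacter G) (hdeg : (charDegree (χ : G → ℂ)).factorization p = D.index.factorization p)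
    (E : Subgroup G) [Fintype E] (hE : Group.IsNilpotent E) (ξ : IrrCharacter E) :
    ∃ n : ℤ, classInner (fun e : E => sectD p D (χ : G → ℂ) e) (ξ : E → ℂ) = n := by
  classical
  have := isPModular_isPrime hM
  obtain ⟨P⟩ : Nonempty (Sylow p E) := inferInstance
  obtain ⟨P', hP'⟩ : ∃ P' : Subgroup E, P' = (P : Subgroup E) := ⟨_, rfl⟩
  haveI hPn : P'.Normal := by rw [hP']; infer_instance
  have hPp : IsPGroup p P' := by rw [hP']; exact P.isPGroup'
  obtain ⟨Q, hQ⟩ : ∃ Q : Subgroup E, Q = pPrimeCore p E := ⟨_, rfl⟩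
  haveI hQn : Q.Normal := by rw [hQ]; infer_instance
  have hQp : ¬ p ∣ Nat.card Q := by rw [hQ]; exact not_dvd_card_pPrimeCore
  obtain ⟨k, hk⟩ := IsPGroup.iff_card.1 (isPGroup_quotient_pPrimeCore (E := E) (p := p))
  have hEc : Nat.card E = Nat.card Q * p ^ k := by
    have h1 := Subgroup.card_mul_index Q
    rw [hQ] at h1 ⊢
    rw [Subgroup.index_eq_card, hk] at h1
    exact h1.symm
  have hPc : Nat.card P' = p ^ k := by
    rw [hP', P.card_eq_multiplicity, hEc, Nat.factorization_mul Nat.card_pos.ne' (pow_ne_zero _ hp.out.ne_zero),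
      Finsupp.add_apply, Nat.factorization_eq_zero_of_not_dvd hQp, hp.out.factorization_pow]
    simp
  have hcop : (Nat.card P').Coprime (Nat.card Q) := by
    rw [hPc]
    exact Nat.Coprime.pow_left _ ((Nat.Prime.coprime_iff_not_dvd hp.out).2 hQp)
  have hdisj : Disjoint P' Q := Subgroup.disjoint_of_coprime_natCard hcop
  have hcomm : ∀ x ∈ P', ∀ v ∈ Q, Commute x v := fun x hx v hv =>
    Subgroup.commute_of_normal_of_disjoint _ _ hPn hQn hdisj x v hx hv
  have hcompl : Subgroup.IsComplement' P' Q :=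
    Subgroup.isComplement'_of_coprime (by rw [hPc, hEc, mul_comm]) hcop
  haveI : Fintype P' := Fintype.ofFinite _
  haveI : Fintype Q := Fintype.ofFinite _
  -- the product decomposition
  have hbij : Function.Bijective (fun x : P' × Q => ((x.1 : E) * (x.2 : E) : E)) := by
    constructor
    · rintro ⟨⟨u, hu⟩, ⟨v, hv⟩⟩ ⟨⟨u', hu'⟩, ⟨v', hv'⟩⟩ h
      simp only at h
      have h1 : u'⁻¹ * u = v' * v⁻¹ := by
        calc u'⁻¹ * u = u'⁻¹ * (u * v) * v⁻¹ := by group
          _ = u'⁻¹ * (u' * v') * v⁻¹ := by rw [h]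
          _ = v' * v⁻¹ := by group
      have h2 : u'⁻¹ * u ∈ P' ⊓ Q := Subgroup.mem_inf.2 ⟨P'.mul_mem (P'.inv_mem hu') hu, by
        rw [h1]
        exact Q.mul_mem hv' (Q.inv_mem hv)⟩
      rw [disjoint_iff.1 hdisj, Subgroup.mem_bot] at h2
      have h3 : u = u' := by
        have := mul_eq_one_iff_eq_inv.1 h2
        simpa using (inv_mul_eq_one.1 h2).symm
      subst h3
      have h4 : v = v' := mul_left_cancel h
      subst h4
      rfl
    · intro e
      have he : e ∈ P' ⊔ Q := by
        rw [hcompl.sup_eq_top]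
        exact Subgroup.mem_top e
      obtain ⟨u, hu, v, hv, huv⟩ := Subgroup.mem_sup_of_normal_right.1 he
      exact ⟨(⟨u, hu⟩, ⟨v, hv⟩), huv⟩
  have hsum : ∀ F : E → ℂ, ∑ e, F e = ∑ u : P', ∑ v : Q, F ((u : E) * (v : E)) := by
    intro F
    rw [← Function.Bijective.sum_comp hbij F, Fintype.sum_prod_type]
  -- the central part
  obtain ⟨K, hK⟩ : ∃ K : Subgroup E, K = D.comap E.subtype ⊓ P' := ⟨_, rfl⟩
  have hKD : ∀ w ∈ K, (w : G) ∈ D := by
    intro w hw
    rw [hK] at hw
    exact (Subgroup.mem_inf.1 hw).1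
  have hKP : K ≤ P' := by
    rw [hK]
    exact inf_le_right
  have hKc : K ≤ Subgroup.center E := by
    intro w hw
    rw [Subgroup.mem_center_iff]
    intro g
    apply Subtype.ext
    exact (Subgroup.mem_center_iff.1 (hD (hKD w hw))) g
  haveI : Fintype K := Fintype.ofFinite _
  obtain ⟨lam, hlam⟩ := exists_hom_of_central χ D hD
  obtain ⟨lam', hlam'⟩ := exists_hom_of_central ξ K hKc
  let f : K →* ℂ :=
    { toFun := fun w => (lam ⟨(w : E), hKD _ w.2⟩ : ℂ) * conj (lam' w : ℂ)
      map_one' := by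
        have e1 : (⟨((1 : K) : E), hKD _ (1 : K).2⟩ : D) = 1 := rfl
        rw [e1]
        simp
      map_mul' := by
        intro a b
        have e1 : (⟨((a * b : K) : E), hKD _ (a * b : K).2⟩ : D) =
            ⟨((a : K) : E), hKD _ a.2⟩ * ⟨((b : K) : E), hKD _ b.2⟩ := rfl
        rw [e1]
        simp only [map_mul, Units.val_mul]
        ring }
  let g₀ : E → ℂ := fun e => if he : e ∈ K then f ⟨e, he⟩ else 0
  obtain ⟨B, hB⟩ : ∃ B : ℂ, B = ∑ v : Q, (χ : G → ℂ) (v : E) * conj ((ξ : E → ℂ) (v : E)) := ⟨_, rfl⟩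
  -- parts
  have hpart : ∀ (u : E) (hu : u ∈ P') (v : E) (hv : v ∈ Q), IsPPart p ((u * v : E) : G) (u : G) := by
    intro u hu v hv
    refine ⟨(v : G), rfl, ?_, ?_, ?_⟩
    · exact congrArg Subtype.val (hcomm u hu v hv)
    · obtain ⟨j, hj⟩ := IsPGroup.iff_orderOf.1 hPp ⟨u, hu⟩
      refine ⟨j, ?_⟩
      rw [← hj, Subgroup.orderOf_coe]
      exact (Subgroup.orderOf_mk u hu).symm
    · intro hd
      apply hQp
      have h1 : orderOf (⟨v, hv⟩ : Q) ∣ Nat.card Q := orderOf_dvd_natCard _
      rw [Subgroup.orderOf_mk] at h1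
      rw [Subgroup.orderOf_coe] at hd
      exact hd.trans h1
  have hval : ∀ (u : P') (v : Q), sectD p D (χ : G → ℂ) (((u : E) * (v : E) : E) : G) * conj ((ξ : E → ℂ) ((u : E) * (v : E))) =
      g₀ (u : E) * ((χ : G → ℂ) (v : E) * conj ((ξ : E → ℂ) (v : E))) := by
    intro u v
    have hp' := hpart u u.2 v v.2
    by_cases hu : ((u : E) : G) ∈ D
    · have huK : (u : E) ∈ K := by
        rw [hK]
        exact Subgroup.mem_inf.2 ⟨hu, u.2⟩
      have h1 : sectD p D (χ : G → ℂ) (((u : E) * (v : E) : E) : G) = (χ : G → ℂ) (((u : E) * (v : E) : E) : G) := by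
        unfold sectD
        rw [if_pos ⟨_, hu, hp'⟩]
      have h2 : (χ : G → ℂ) (((u : E) * (v : E) : E) : G) =
          (lam ⟨(u : E), hu⟩ : ℂ) * (χ : G → ℂ) (v : E) := by
        rw [hlam]
        have h3 : (((u : E) * (v : E) : E) : G) = ((v : E) : G) * ((u : E) : G) :=
          (Subgroup.mem_center_iff.1 (hD hu)) _ ▸ rfl
        rw [h3, irr_mul_central χ (hD hu)]
        ring
      have h4 : (ξ : E → ℂ) ((u : E) * (v : E)) = (lam' ⟨(u : E), huK⟩ : ℂ) * (ξ : E → ℂ) (v : E) := by
        rw [hlam']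
        have h3 : (u : E) * (v : E) = (v : E) * (u : E) := (hcomm u u.2 v v.2)
        rw [h3, irr_mul_central ξ (hKc huK)]
        ring
      rw [h1, h2, h4, map_mul]
      have h5 : g₀ (u : E) = (lam ⟨(u : E), hu⟩ : ℂ) * conj (lam' ⟨(u : E), huK⟩ : ℂ) := by
        simp only [g₀]
        rw [dif_pos huK]
        rfl
      rw [h5]
      ring
    · have huK : (u : E) ∉ K := fun h => hu (hKD _ h)
      have h1 : sectD p D (χ : G → ℂ) (((u : E) * (v : E) : E) : G) = 0 := by
        unfold sectD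
        rw [if_neg]
        rintro ⟨x, hx, hxp⟩
        rw [isPPart_unique hxp hp'] at hx
        exact hu hx
      have h5 : g₀ (u : E) = 0 := by
        simp only [g₀]
        rw [dif_neg huK]
      rw [h1, h5, zero_mul, zero_mul]
  have htotal : ∑ e : E, sectD p D (χ : G → ℂ) (e : G) * conj ((ξ : E → ℂ) e) = (∑ w : K, f w) * B := by
    rw [hsum]
    have h1 : ∀ u : P', ∑ v : Q, sectD p D (χ : G → ℂ) (((u : E) * (v : E) : E) : G) * conj ((ξ : E → ℂ) ((u : E) * (v : E))) =
        g₀ (u : E) * B := by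
      intro u
      rw [hB, Finset.mul_sum]
      exact Finset.sum_congr rfl fun v _ => hval u v
    simp only [h1]
    rw [← Finset.sum_mul]
    congr 1
    symm
    refine Finset.sum_of_injOn (fun w : K => (⟨(w : E), hKP w.2⟩ : P')) ?_ ?_ ?_ ?_
    · intro a _ b _ hab
      apply Subtype.ext
      exact congrArg (fun x : P' => (x : E)) hab
    · intro a _
      exact Finset.mem_coe.2 (Finset.mem_univ _)
    · intro u _ hu
      have huK : (u : E) ∉ K := by
        intro h
        apply hu
        exact ⟨⟨(u : E), h⟩, Finset.mem_coe.2 (Finset.mem_univ _), rfl⟩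
      simp only [g₀]
      rw [dif_neg huK]
    · intro w _
      simp only [g₀]
      rw [dif_pos w.2]
  -- the inner product on `Q`
  obtain ⟨n, hn⟩ := classInner_isCharacter_nat
    (IsCharacter.restrict Q (IsCharacter.restrict E (IsIrrCharacter.isCharacter χ.2)))
    (IsCharacter.restrict Q (IsIrrCharacter.isCharacter ξ.2))
  have hQ0 : (Nat.card Q : ℂ) ≠ 0 := Nat.cast_ne_zero.2 Nat.card_pos.ne'
  have hBn : B = (Nat.card Q : ℂ) * n := by
    rw [← hn, classInner_def, hB]
    field_simp
  -- the index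
  obtain ⟨H, hH⟩ : ∃ H : Subgroup G, H = P'.map E.subtype := ⟨_, rfl⟩
  have hHc : Nat.card H = Nat.card P' := by
    rw [hH]
    exact Subgroup.card_map_of_injective (Subgroup.subtype_injective _)
  have hKH : Nat.card K * D.relIndex H = Nat.card P' := by
    have h1 := (D.subgroupOf H).card_mul_index
    have h2 : Nat.card (D.subgroupOf H) = Nat.card K := by
      have h3 : (D.subgroupOf H).map H.subtype = K.map E.subtype := by
        rw [Subgroup.subgroupOf_map_subtype]
        ext z
        constructor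
        · rintro ⟨hz1, hz2⟩
          rw [hH] at hz2
          obtain ⟨w, hw, rfl⟩ := hz2
          refine ⟨w, ?_, rfl⟩
          rw [hK]
          exact Subgroup.mem_inf.2 ⟨hz1, hw⟩
        · rintro ⟨w, hw, rfl⟩
          refine ⟨hKD w hw, ?_⟩
          rw [hH]
          exact ⟨w, hKP hw, rfl⟩
      have h4 : Nat.card ((D.subgroupOf H).map H.subtype) = Nat.card (D.subgroupOf H) :=
        Subgroup.card_map_of_injective (Subgroup.subtype_injective H)
      have h5 : Nat.card (K.map E.subtype) = Nat.card K :=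
        Subgroup.card_map_of_injective (Subgroup.subtype_injective E)
      rw [← h4, h3, h5]
    rw [h2] at h1
    rw [← hHc]
    exact h1
  have hmd : D.relIndex H ∣ p ^ k := by
    rw [← hPc, ← hKH]
    exact Nat.dvd_mul_left _ _
  obtain ⟨s, -, hs⟩ := (Nat.dvd_prime_pow hp.out).1 hmd
  -- the divisibility
  have hloc : MemLocalRing M ((n : ℂ) / ((D.relIndex H : ℕ) : ℂ)) := by
    have e : (n : ℂ) / ((D.relIndex H : ℕ) : ℂ) = (Nat.card Q : ℂ)⁻¹ * ∑ v : Q,
        ((χ : G → ℂ) (v : E) / ((D.relIndex H : ℕ) : ℂ)) * conj ((ξ : E → ℂ) (v : E)) := by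
      rw [← hn, classInner_def, mul_div_assoc]
      congr 1
      rw [Finset.sum_div]
      refine Finset.sum_congr rfl fun v _ => ?_
      ring
    rw [e]
    refine memLocalRing_mul (memLocalRing_natCast_inv hM hQp) (memLocalRing_sum _ _ fun v _ => ?_)
    refine memLocalRing_mul (chi_div_relIndex_local hM hD χ hdeg ?_) ?_
    · intro h hh
      rw [hH] at hh
      obtain ⟨w, hw, rfl⟩ := hh
      exact congrArg Subtype.val (hcomm w hw v v.2)
    · rw [← IsCharacter.map_inv' (IsIrrCharacter.isCharacter ξ.2)]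
      exact memLocalRing_of_isIntegral (IsCharacter.isIntegral' (IsIrrCharacter.isCharacter ξ.2) _)
  rw [hs] at hloc
  obtain ⟨c, hc⟩ := pow_dvd_of_memLocalRing hM s n hloc
  have hE0 : (Nat.card E : ℂ) ≠ 0 := Nat.cast_ne_zero.2 Nat.card_pos.ne'
  rw [classInner_def, htotal]
  by_cases hf : f = 1
  · refine ⟨c, ?_⟩
    have hA : ∑ w : K, f w = (Nat.card K : ℂ) := by
      rw [hf]
      simp
    rw [hA, hBn, hc]
    have h1 : (Nat.card E : ℂ) = (Nat.card K : ℂ) * ((p ^ s : ℕ) : ℂ) * (Nat.card Q : ℂ) := by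
      have h2 : Nat.card E = Nat.card K * p ^ s * Nat.card Q := by
        rw [hEc, ← hPc, ← hKH, hs]
        ring
      rw [h2]
      push_cast
      ring
    have hK0 : (Nat.card K : ℂ) ≠ 0 := Nat.cast_ne_zero.2 Nat.card_pos.ne'
    have hp0 : ((p ^ s : ℕ) : ℂ) ≠ 0 := Nat.cast_ne_zero.2 (pow_ne_zero _ hp.out.ne_zero)
    rw [h1]
    push_cast at hp0 ⊢
    field_simp
  · refine ⟨0, ?_⟩
    rw [sum_hom_units_eq_zero f hf]
    simp

/-- The section function is a generalized character. -/
theorem sectD_isGeneralized (hM : IsPModular p M) {D : Subgroup G} (hD : D ≤ Subgroup.center G)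
    (χ : IrrCharacter G) (hdeg : (charDegree (χ : G → ℂ)).factorization p = D.index.factorization p) :
    IsGeneralizedCharacter G (sectD p D (χ : G → ℂ)) := by
  classical
  have hcf := sectD_isClassFunction (p := p) hD (IsCharacter.isClassFunction (IsIrrCharacter.isCharacter χ.2))
  refine isGeneralized_of_elementary _ hcf ?_
  intro E q hq hE
  haveI : Fintype E := Fintype.ofFinite _
  refine generalized_of_int_inner ?_ fun ξ => inner_sectD_int hM hD χ hdeg E (isNilpotent_of_isElementary hq hE) ξ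
  intro a b
  exact hcf _ _

/-- Vanishing. -/
theorem sectD_vanish (hM : IsPModular p M) {D : Subgroup G} (hD : D ≤ Subgroup.center G)
    (χ : IrrCharacter G) (hdeg : (charDegree (χ : G → ℂ)).factorization p = D.index.factorization p)
    {g x : G} (hx : IsPPart p g x) (hxD : x ∉ D) : (χ : G → ℂ) g = 0 := by
  classical
  obtain ⟨θ, hθ⟩ : ∃ θ, θ = sectD p D (χ : G → ℂ) := ⟨_, rfl⟩
  have hgen : IsGeneralizedCharacter G θ := by
    rw [hθ]
    exact sectD_isGeneralized hM hD χ hdeg
  obtain ⟨n, hn⟩ := classInner_isGeneralized_int hgen hgen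
  have hG0 : (Nat.card G : ℝ) > 0 := Nat.cast_pos.2 Nat.card_pos
  have hnorm : ∀ φ : G → ℂ, classInner φ φ = (((Nat.card G : ℝ)⁻¹ * ∑ g, Complex.normSq (φ g) : ℝ) : ℂ) := by
    intro φ
    rw [classInner_def]
    push_cast
    congr 1
    refine Finset.sum_congr rfl fun g _ => ?_
    exact Complex.mul_conj _
  have h1 := hnorm θ
  rw [hn] at h1
  have h2 := hnorm (χ : G → ℂ)
  rw [classInner_irr_self χ.2] at h2
  have h2' : (Nat.card G : ℝ)⁻¹ * ∑ g, Complex.normSq ((χ : G → ℂ) g) = 1 := by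
    exact_mod_cast h2.symm
  have h1' : (n : ℝ) = (Nat.card G : ℝ)⁻¹ * ∑ g, Complex.normSq (θ g) := by
    exact_mod_cast h1
  have hle : ∀ g, Complex.normSq (θ g) ≤ Complex.normSq ((χ : G → ℂ) g) := by
    intro g
    rw [hθ]
    unfold sectD
    split_ifs
    · exact le_refl _
    · rw [map_zero]
      exact Complex.normSq_nonneg _
  have hone : θ 1 = (χ : G → ℂ) 1 := by
    rw [hθ]
    unfold sectD
    rw [if_pos]
    refine ⟨1, D.one_mem, 1, by simp, Commute.one_left _, ⟨0, by simp⟩, ?_⟩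
    rw [orderOf_one]
    exact hp.out.one_lt.ne' ∘ Nat.dvd_one.1
  have hpos : 0 < ∑ g, Complex.normSq (θ g) := by
    refine Finset.sum_pos' (fun g _ => Complex.normSq_nonneg _) ⟨1, Finset.mem_univ _, ?_⟩
    rw [hone]
    exact Complex.normSq_pos.2 (isIrr_one_ne_zero χ.2)
  have hlt : (n : ℝ) ≤ 1 := by
    rw [h1', ← h2']
    exact mul_le_mul_of_nonneg_left (Finset.sum_le_sum fun g _ => hle g) (by positivity)
  have hgt : (0 : ℝ) < n := by
    rw [h1']
    positivity
  have hn1 : n = 1 := by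
    have h3 : (0 : ℤ) < n := by exact_mod_cast hgt
    have h4 : n ≤ 1 := by exact_mod_cast hlt
    omega
  rw [hn1] at h1'
  have hsum : ∑ g, Complex.normSq (θ g) = ∑ g, Complex.normSq ((χ : G → ℂ) g) := by
    have h3 : (Nat.card G : ℝ)⁻¹ ≠ 0 := inv_ne_zero hG0.ne'
    apply mul_left_cancel₀ h3
    rw [h2', ← h1']
    simp
  have hzero : ∀ g, Complex.normSq ((χ : G → ℂ) g) - Complex.normSq (θ g) = 0 := by
    intro g
    have h3 : ∑ g, (Complex.normSq ((χ : G → ℂ) g) - Complex.normSq (θ g)) = 0 := by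
      rw [Finset.sum_sub_distrib, hsum, sub_self]
    exact (Finset.sum_eq_zero_iff_of_nonneg (fun g _ => sub_nonneg.2 (hle g))).1 h3 g (Finset.mem_univ g)
  have h3 := hzero g
  have h4 : θ g = 0 := by
    rw [hθ]
    unfold sectD
    rw [if_neg]
    rintro ⟨x', hx', hxp⟩
    rw [isPPart_unique hxp hx] at hx'
    exact hxD hx'
  rw [h4, map_zero, sub_zero] at h3
  exact Complex.normSq_eq_zero.1 h3


/-- The regular mass of `χ`. -/
theorem sum_regular_normSq (hM : IsPModular p M) {D : Subgroup G} (hD : D ≤ Subgroup.center G) (hDp : IsPGroup p D)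
    (χ : IrrCharacter G) (hdeg : (charDegree (χ : G → ℂ)).factorization p = D.index.factorization p) :
    (Nat.card D : ℝ) * ∑ v ∈ Finset.univ.filter (fun v : G => ¬ p ∣ orderOf v), Complex.normSq ((χ : G → ℂ) v) = Nat.card G := by
  classical
  haveI : Fintype D := Fintype.ofFinite _
  obtain ⟨R, hR⟩ : ∃ R : Finset G, R = Finset.univ.filter (fun v : G => ¬ p ∣ orderOf v) := ⟨_, rfl⟩
  rw [← hR]
  obtain ⟨T, hT⟩ : ∃ T : Finset (D × G), T = (Finset.univ : Finset D) ×ˢ R := ⟨_, rfl⟩
  have hpart : ∀ (u : D) (v : G), ¬ p ∣ orderOf v → IsPPart p ((u : G) * v) (u : G) := by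
    intro u v hv
    refine ⟨v, rfl, ?_, ?_, hv⟩
    · exact ((Subgroup.mem_center_iff.1 (hD u.2)) v).symm
    · obtain ⟨j, hj⟩ := IsPGroup.iff_orderOf.1 hDp u
      exact ⟨j, by rw [← hj]; exact Subgroup.orderOf_coe u⟩
  have hinj : Set.InjOn (fun x : D × G => (x.1 : G) * x.2) T := by
    rintro ⟨u, v⟩ hx ⟨u', v'⟩ hx' h
    rw [hT, Finset.mem_coe, Finset.mem_product, hR] at hx hx'
    simp only [Finset.mem_filter, Finset.mem_univ, true_and] at hx hx'
    simp only at h
    have h1 := hpart u v hx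
    have h2 := hpart u' v' hx'
    rw [← h] at h2
    have h3 : u = u' := Subtype.ext (isPPart_unique h1 h2)
    subst h3
    have h4 : v = v' := mul_left_cancel h
    subst h4
    rfl
  have hcov : ∀ g : G, g ∉ T.image (fun x : D × G => (x.1 : G) * x.2) → Complex.normSq ((χ : G → ℂ) g) = 0 := by
    intro g hg
    obtain ⟨x, y, hxy, hc, hxo, hyo, -, -⟩ := exists_jordan (p := p) g
    have hxD : x ∉ D := by
      intro hxD
      apply hg
      rw [Finset.mem_image]
      refine ⟨(⟨x, hxD⟩, y), ?_, hxy⟩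
      rw [hT, Finset.mem_product, hR]
      simp [hyo]
    rw [sectD_vanish hM hD χ hdeg ⟨y, hxy, hc, hxo, hyo⟩ hxD, map_zero]
  obtain ⟨lam, hlam⟩ := exists_hom_of_central χ D hD
  have hunit : ∀ u : D, Complex.normSq (lam u : ℂ) = 1 := by
    intro u
    have h1 : (lam u : ℂ) ^ Nat.card D = 1 := by
      have h2 : lam u ^ Nat.card D = 1 := by
        rw [← map_pow, pow_card_eq_one', map_one]
      have h3 := congrArg (Units.val) h2
      simpa using h3
    have h2 := Complex.norm_eq_one_of_pow_eq_one h1 Nat.card_pos.ne'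
    rw [Complex.normSq_eq_norm_sq, h2]
    simp
  have hval : ∀ (u : D) (v : G), Complex.normSq ((χ : G → ℂ) ((u : G) * v)) = Complex.normSq ((χ : G → ℂ) v) := by
    intro u v
    have h3 : (u : G) * v = v * (u : G) := (Subgroup.mem_center_iff.1 (hD u.2)) v |>.symm
    have h4 : (χ : G → ℂ) (v * (u : G)) = (χ : G → ℂ) v * (lam u : ℂ) := by
      rw [hlam, irr_mul_central χ (hD u.2)]
      ring
    rw [h3, h4, map_mul, hunit, mul_one]
  have h2 := classInner_irr_self χ.2
  rw [classInner_def] at h2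
  have hG0 : (Nat.card G : ℂ) ≠ 0 := Nat.cast_ne_zero.2 Nat.card_pos.ne'
  have h3 : ∑ g, Complex.normSq ((χ : G → ℂ) g) = Nat.card G := by
    have h4 : ∑ g, (χ : G → ℂ) g * conj ((χ : G → ℂ) g) = Nat.card G := by
      field_simp at h2
      exact h2
    have h5 : ((∑ g, Complex.normSq ((χ : G → ℂ) g) : ℝ) : ℂ) = (Nat.card G : ℂ) := by
      rw [← h4]
      push_cast
      refine Finset.sum_congr rfl fun g _ => ?_
      exact (Complex.mul_conj _).symm
    exact_mod_cast h5
  rw [← h3]
  have h5 : ∑ g, Complex.normSq ((χ : G → ℂ) g) =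
      ∑ g ∈ T.image (fun x : D × G => (x.1 : G) * x.2), Complex.normSq ((χ : G → ℂ) g) := by
    symm
    apply Finset.sum_subset (Finset.subset_univ _)
    intro g _ hg
    exact hcov g hg
  rw [h5, Finset.sum_image hinj, hT, Finset.sum_product]
  simp only [hval]
  rw [Finset.sum_const, Finset.card_univ, nsmul_eq_mul, Nat.card_eq_fintype_card]

/-- The defect group. -/
theorem isDefectGroup_of_degree (hM : IsPModular p M) {D : Subgroup G} (hD : D ≤ Subgroup.center G) (hDp : IsPGroup p D)
    (χ : IrrCharacter G) (hdeg : (charDegree (χ : G → ℂ)).factorization p = D.index.factorization p) :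
    IsDefectGroup p M (blockOf M (χ : G → ℂ)) D := by
  classical
  have := isPModular_isPrime hM
  haveI : Fintype (ConjClasses G) := Fintype.ofFinite _
  haveI hDn : D.Normal := by
    refine ⟨fun n hn g => ?_⟩
    have h1 := (Subgroup.mem_center_iff.1 (hD hn)) g
    rw [h1]
    simpa using hn
  have hcf := IsCharacter.isClassFunction (IsIrrCharacter.isCharacter χ.2)
  have hchar := IsIrrCharacter.isCharacter χ.2
  have hχ1 : (χ : G → ℂ) 1 = (charDegree (χ : G → ℂ) : ℂ) := map_one_eq_charDegree hchar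
  have hχ0 : (χ : G → ℂ) 1 ≠ 0 := isIrr_one_ne_zero χ.2
  have hd0 : charDegree (χ : G → ℂ) ≠ 0 := by
    intro h
    rw [hχ1, h] at hχ0
    simp at hχ0
  have hi0 : D.index ≠ 0 := Subgroup.index_ne_zero_of_finite
  have hτ := (localUnit_natCast_div (M := M) hM hi0 hd0 hdeg.symm).2
  -- a central element
  obtain ⟨z, hz⟩ : ∃ z : MonoidAlgebra ℂ G, z = ofFun (fun g => if p ∣ orderOf g then 0 else conj ((χ : G → ℂ) g)) := ⟨_, rfl⟩
  have hzc : ∀ g, z.coeff g = if p ∣ orderOf g then 0 else conj ((χ : G → ℂ) g) := by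
    intro g
    rw [hz, coeff_ofFun]
  have hzcen : IsCentralElt z := by
    intro x g
    rw [hzc, hzc, orderOf_conj, hcf]
  have hom : om (χ : G → ℂ) z = (D.index : ℂ) / (charDegree (χ : G → ℂ) : ℂ) := by
    unfold om tr
    rw [hχ1]
    congr 1
    have h1 := sum_regular_normSq hM hD hDp χ hdeg
    have h2 : (Nat.card D : ℝ) * (D.index : ℝ) = Nat.card G := by
      exact_mod_cast D.card_mul_index
    have h3 : ∑ v ∈ Finset.univ.filter (fun v : G => ¬ p ∣ orderOf v), Complex.normSq ((χ : G → ℂ) v) = D.index := by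
      have h4 : (Nat.card D : ℝ) ≠ 0 := Nat.cast_ne_zero.2 Nat.card_pos.ne'
      apply mul_left_cancel₀ h4
      rw [h1, h2]
    have h5 : ((∑ v ∈ Finset.univ.filter (fun v : G => ¬ p ∣ orderOf v), Complex.normSq ((χ : G → ℂ) v) : ℝ) : ℂ) = (D.index : ℂ) := by
      rw [h3]
      simp
    rw [← h5, Finset.sum_filter]
    push_cast
    refine Finset.sum_congr rfl fun g _ => ?_
    rw [hzc]
    by_cases hg : p ∣ orderOf g
    · simp [hg]
    · simp only [hg, not_false_eq_true, if_true, if_false]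
      rw [mul_comm]
      exact Complex.mul_conj _
  have hsum := om_eq_sum_conjClasses hzcen hcf
  rw [hom] at hsum
  have hex : ∃ c : ConjClasses G, ¬ MemLocalIdeal M (z.coeff c.out * centralChar (χ : G → ℂ) c.out) := by
    by_contra hcon
    push Not at hcon
    apply hτ
    rw [hsum]
    exact memLocalIdeal_sum _ _ fun c _ => hcon c
  obtain ⟨c, hc⟩ := hex
  obtain ⟨v, hv⟩ : ∃ v : G, v = c.out := ⟨_, rfl⟩
  rw [← hv] at hc
  have hreg : ¬ p ∣ orderOf v := by
    intro hd
    apply hc
    rw [hzc, if_pos hd, zero_mul]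
    exact memLocalIdeal_zero
  rw [hzc, if_neg hreg] at hc
  have hconjloc : MemLocalRing M (conj ((χ : G → ℂ) v)) := by
    rw [← IsCharacter.map_inv' hchar]
    exact memLocalRing_of_isIntegral (IsCharacter.isIntegral' hchar _)
  have hcc : ¬ MemLocalIdeal M (centralChar (χ : G → ℂ) v) := fun h => hc (memLocalIdeal_mul_left hconjloc h)
  have hconj : ¬ MemLocalIdeal M (conj ((χ : G → ℂ) v)) := fun h =>
    hc (memLocalIdeal_mul_right h (memLocalRing_centralChar χ.2 v))
  -- the centralizer of `v` has small `p`-part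
  have hcen : Subgroup.centralizer ({v⁻¹} : Set G) = Subgroup.centralizer ({v} : Set G) := by
    ext x
    rw [Subgroup.mem_centralizer_singleton_iff, Subgroup.mem_centralizer_singleton_iff]
    constructor
    · intro h
      have h1 : x = v⁻¹ * x * v := by
        calc x = x * v⁻¹ * v := by group
          _ = v⁻¹ * x * v := by rw [h]
      calc x * v = (v * v⁻¹) * x * v := by group
        _ = v * (v⁻¹ * x * v) := by group
        _ = v * x := by rw [← h1]
    · intro h
      calc x * v⁻¹ = v⁻¹ * (v * x) * v⁻¹ := by group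
        _ = v⁻¹ * (x * v) * v⁻¹ := by rw [h]
        _ = v⁻¹ * x := by group
  have hcc' : MemLocalRing M (centralChar (χ : G → ℂ) v⁻¹) := memLocalRing_centralChar χ.2 _
  have hconj' : (χ : G → ℂ) v⁻¹ = conj ((χ : G → ℂ) v) := IsCharacter.map_inv' hchar v
  have hloc : MemLocalRing M (((Subgroup.centralizer ({v} : Set G)).index : ℂ) / (charDegree (χ : G → ℂ) : ℂ)) := by
    have h0 : conj ((χ : G → ℂ) v) ≠ 0 := ne_zero_of_not_memLocalIdeal hconj
    have e : ((Subgroup.centralizer ({v} : Set G)).index : ℂ) / (charDegree (χ : G → ℂ) : ℂ) =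
        centralChar (χ : G → ℂ) v⁻¹ * (conj ((χ : G → ℂ) v))⁻¹ := by
      unfold centralChar
      rw [hcen, hconj', hχ1]
      field_simp
    rw [e]
    exact memLocalRing_mul hcc' (memLocalRing_inv hconjloc hconj)
  obtain ⟨e, he⟩ : ∃ e, e = (charDegree (χ : G → ℂ)).factorization p := ⟨_, rfl⟩
  have hdvd : p ^ e ∣ (Subgroup.centralizer ({v} : Set G)).index := by
    apply pow_dvd_of_memLocalRing hM e
    obtain ⟨b, hb⟩ : p ^ e ∣ charDegree (χ : G → ℂ) := by
      rw [he]
      exact Nat.ordProj_dvd _ _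
    have hb0 : (b : ℂ) ≠ 0 := by
      intro h
      apply hd0
      rw [hb]
      have : b = 0 := by exact_mod_cast h
      rw [this, mul_zero]
    have hpe : ((p ^ e : ℕ) : ℂ) ≠ 0 := Nat.cast_ne_zero.2 (pow_ne_zero _ hp.out.ne_zero)
    have e1 : ((Subgroup.centralizer ({v} : Set G)).index : ℂ) / ((p ^ e : ℕ) : ℂ) =
        (((Subgroup.centralizer ({v} : Set G)).index : ℂ) / (charDegree (χ : G → ℂ) : ℂ)) * (b : ℂ) := by
      rw [hb]
      push_cast
      push_cast at hpe
      field_simp
    rw [e1]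
    exact memLocalRing_mul hloc (memLocalRing_natCast _)
  have hvi0 : (Subgroup.centralizer ({v} : Set G)).index ≠ 0 := Subgroup.index_ne_zero_of_finite
  have hle1 : e ≤ (Subgroup.centralizer ({v} : Set G)).index.factorization p :=
    (hp.out.pow_dvd_iff_le_factorization hvi0).1 hdvd
  have hc1 : (Nat.card (Subgroup.centralizer ({v} : Set G))).factorization p ≤ (Nat.card D).factorization p := by
    have h1 : Nat.card (Subgroup.centralizer ({v} : Set G)) * (Subgroup.centralizer ({v} : Set G)).index = Nat.card G :=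
      Subgroup.card_mul_index _
    have h2 : Nat.card D * D.index = Nat.card G := D.card_mul_index
    have h3 : (Nat.card (Subgroup.centralizer ({v} : Set G)) * (Subgroup.centralizer ({v} : Set G)).index).factorization p =
        (Nat.card G).factorization p := by rw [h1]
    have h4 : (Nat.card D * D.index).factorization p = (Nat.card G).factorization p := by rw [h2]
    rw [Nat.factorization_mul Nat.card_pos.ne' hvi0, Finsupp.add_apply] at h3
    rw [Nat.factorization_mul Nat.card_pos.ne' hi0, Finsupp.add_apply] at h4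
    rw [← hdeg, ← he] at h4
    omega
  -- the defect group
  have hB : IsPBlock M (blockOf M (χ : G → ℂ)) := isPBlock_blockOf χ
  obtain ⟨E, hE⟩ := exists_isDefectGroup hM hB
  have hDE : D ≤ E := normal_le_defect hM hDp hB hE
  obtain ⟨y, hy, Q₁, hQ₁⟩ := id hE
  obtain ⟨S⟩ : Nonempty (Sylow p (Subgroup.centralizer ({v} : Set G))) := inferInstance
  have hEp : IsPGroup p E := by
    rw [hQ₁]
    exact Q₁.isPGroup'.map _
  have hEy : E ≤ Subgroup.centralizer ({y} : Set G) := by
    rw [hQ₁]
    exact Subgroup.map_subtype_le _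
  obtain ⟨x, hx⟩ := minmax_le hM hB (mem_blockOf_self χ) hcc hy.2.1 hEp hEy S
  have hcard : Nat.card E ≤ Nat.card D := by
    have h1 := Subgroup.card_le_of_le hx
    rw [Subgroup.card_map_of_injective (MulAut.conj x).injective, card_map_sylow S] at h1
    refine h1.trans ?_
    obtain ⟨k, hk⟩ := IsPGroup.iff_card.1 hDp
    have h2 : (Nat.card D).factorization p = k := by
      rw [hk, hp.out.factorization_pow]
      simp
    rw [hk]
    rw [h2] at hc1
    exact Nat.pow_le_pow_right hp.out.pos hc1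
  have hEeq : D = E := Subgroup.eq_of_le_of_card_ge hDE hcard
  rw [hEeq]
  exact hE


end CT

end Cfsg.Agent.Lib.Block
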