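import Cfsg.Agent.Lib.Block.Cover

/-!
# The extended first main theorem

Blocks of `P C_G(P)` inducing a block of `G` with defect group `P` are conjugate under `N_G(P)`.
-/

set_option autoImplicit false
set_option linter.unusedSectionVars false
set_option linter.unusedSimpArgs false
set_option linter.unusedVariables false

open scoped ComplexConjugate
open Cfsg MonoidAlgebra Cfsg.Agent.Lib.Char

namespace Cfsg.Agent.Lib.Block

section Ext

variable {G : Type*} [Group G] [Fintype G] {p : ℕ} [hp : Fact p.Prime] {M : Ideal AlgInt}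

/-- Pulling back an irreducible character along an isomorphism. -/
noncomputable def pull {H K : Type*} [Group H] [Group K] (e : H ≃* K) (ξ : IrrCharacter K) : IrrCharacter H :=
  ⟨(ξ : K → ℂ) ∘ e, isIrr_comp_equiv e ξ.2⟩

theorem pull_coe {H K : Type*} [Group H] [Group K] (e : H ≃* K) (ξ : IrrCharacter K) :
    ((pull e ξ : IrrCharacter H) : H → ℂ) = (ξ : K → ℂ) ∘ e := rfl

variable {P L : Subgroup G}

theorem om_resAlg_transport [Fintype L] [Fintype (Subgroup.normalizer (P : Set G))]
    [Fintype (L.subgroupOf (Subgroup.normalizer (P : Set G)))]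
    (hLN : L ≤ Subgroup.normalizer (P : Set G)) (ξ : L → ℂ) (z : MonoidAlgebra ℂ G) :
    om (ξ ∘ Subgroup.subgroupOfEquivOfLe hLN)
      (resAlg (L.subgroupOf (Subgroup.normalizer (P : Set G))) (resAlg (Subgroup.normalizer (P : Set G)) z)) =
      om ξ (resAlg L z) := by
  unfold om tr
  simp only [coeff_resAlg, Function.comp, map_one]
  congr 1
  exact Equiv.sum_comp (Subgroup.subgroupOfEquivOfLe hLN).toEquiv (fun l : L => z.coeff (l : G) * ξ l)

theorem memLocalIdeal_induced_transport [M.IsPrime] [Fintype L] [Fintype (Subgroup.normalizer (P : Set G))]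
    [Fintype (L.subgroupOf (Subgroup.normalizer (P : Set G)))]
    (hM : IsPModular p M) (hPp : IsPGroup p P)
    (hCL : Subgroup.centralizer (P : Set G) ≤ L)
    (hLN : L ≤ Subgroup.normalizer (P : Set G))
    [hLn : (L.subgroupOf (Subgroup.normalizer (P : Set G))).Normal]
    (χ₀ : IrrCharacter (Subgroup.normalizer (P : Set G))) (ξ : IrrCharacter L)
    (hc : classInner (fun n : L.subgroupOf (Subgroup.normalizer (P : Set G)) => (χ₀ : Subgroup.normalizer (P : Set G) → ℂ) n)
      ((pull (Subgroup.subgroupOfEquivOfLe hLN) ξ : IrrCharacter _) : L.subgroupOf (Subgroup.normalizer (P : Set G)) → ℂ) ≠ 0)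
    (g : G) :
    MemLocalIdeal M (inducedCentralChar L (ξ : L → ℂ) g -
      inducedCentralChar (Subgroup.normalizer (P : Set G)) (χ₀ : Subgroup.normalizer (P : Set G) → ℂ) g) := by
  classical
  have hcf := IsCharacter.isClassFunction (IsIrrCharacter.isCharacter χ₀.2)
  have hQn : (P.subgroupOf (Subgroup.normalizer (P : Set G))).Normal := normal_subgroupOf_normalizer P
  have hQp : IsPGroup p (P.subgroupOf (Subgroup.normalizer (P : Set G))) := by
    intro x
    obtain ⟨k, hk⟩ := hPp ⟨x.1.1, x.2⟩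
    refine ⟨k, Subtype.ext (Subtype.ext ?_)⟩
    have := congrArg Subtype.val hk
    simpa using this
  have h1 : ∀ h : Subgroup.normalizer (P : Set G), MemLocalIdeal M
      (inducedCentralChar (L.subgroupOf (Subgroup.normalizer (P : Set G)))
        ((pull (Subgroup.subgroupOfEquivOfLe hLN) ξ : IrrCharacter _) : L.subgroupOf (Subgroup.normalizer (P : Set G)) → ℂ) h -
        centralChar (χ₀ : Subgroup.normalizer (P : Set G) → ℂ) h) := by
    intro h
    by_cases hh : h ∈ L.subgroupOf (Subgroup.normalizer (P : Set G))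
    · have := (constituent_iff_centralChar _ χ₀ _).1 hc ⟨h, hh⟩
      simp only at this
      rw [this, sub_self]
      exact memLocalIdeal_zero
    · have h3 : inducedCentralChar (L.subgroupOf (Subgroup.normalizer (P : Set G)))
          ((pull (Subgroup.subgroupOfEquivOfLe hLN) ξ : IrrCharacter _) : L.subgroupOf (Subgroup.normalizer (P : Set G)) → ℂ) h = 0 := by
        unfold inducedCentralChar
        apply finsum_mem_eq_zero_of_forall_eq_zero
        intro k hk
        exfalso
        apply hh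
        obtain ⟨c, hc'⟩ := isConj_iff.1 (IsConj.symm hk)
        rw [← hc']
        exact hLn.conj_mem _ k.2 c
      rw [h3, zero_sub]
      apply memLocalIdeal_neg
      apply memLocalIdeal_centralChar_of_no_centralize hM (P.subgroupOf (Subgroup.normalizer (P : Set G))) hQp _ χ₀.2
      intro x hx hxC
      apply hh
      have hxL : x ∈ L.subgroupOf (Subgroup.normalizer (P : Set G)) := by
        rw [Subgroup.mem_subgroupOf]
        apply hCL
        rw [Subgroup.mem_centralizer_iff]
        intro q hq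
        have hqN : q ∈ Subgroup.normalizer (P : Set G) := le_normalizer_self P hq
        have := Subgroup.mem_centralizer_iff.1 hxC ⟨q, hqN⟩ (by rw [SetLike.mem_coe, Subgroup.mem_subgroupOf]; exact hq)
        exact congrArg Subtype.val this
      obtain ⟨c, hc'⟩ := isConj_iff.1 hx.symm
      rw [← hc']
      exact hLn.conj_mem _ hxL c
  have h2 := memLocalIdeal_om_resAlg_sub (L.subgroupOf (Subgroup.normalizer (P : Set G))) hcf h1
    (isCentralElt_resAlg _ (isCentralElt_classSum g)) (localCoeff_resAlg _ (localCoeff_classSum g))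
  rw [pull_coe, om_resAlg_transport hLN, om_resAlg_classSum, om_resAlg_classSum] at h2
  exact h2

/-- The block over a character of a block inducing `B` induces `B`. -/
theorem isInducedBlock_of_constituent [M.IsPrime] [Fintype L] [Fintype (Subgroup.normalizer (P : Set G))]
    [Fintype (L.subgroupOf (Subgroup.normalizer (P : Set G)))]
    (hM : IsPModular p M) (hPp : IsPGroup p P)
    (hCL : Subgroup.centralizer (P : Set G) ≤ L)
    (hLN : L ≤ Subgroup.normalizer (P : Set G))
    [hLn : (L.subgroupOf (Subgroup.normalizer (P : Set G))).Normal]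
    {b : Set (IrrCharacter L)} {B : Set (IrrCharacter G)} (hind : IsInducedBlock M L b B) {ξ : IrrCharacter L} (hξ : ξ ∈ b)
    (χ₀ : IrrCharacter (Subgroup.normalizer (P : Set G)))
    (hc : classInner (fun n : L.subgroupOf (Subgroup.normalizer (P : Set G)) => (χ₀ : Subgroup.normalizer (P : Set G) → ℂ) n)
      ((pull (Subgroup.subgroupOfEquivOfLe hLN) ξ : IrrCharacter _) : L.subgroupOf (Subgroup.normalizer (P : Set G)) → ℂ) ≠ 0) :
    IsInducedBlock M (Subgroup.normalizer (P : Set G)) (blockOf M (χ₀ : Subgroup.normalizer (P : Set G) → ℂ)) B := by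
  refine ⟨isPBlock_blockOf χ₀, hind.2.1, fun ξ₁ hξ₁ χ hχ g => ?_⟩
  have h1 := memLocalIdeal_induced_sub_of_sameBlock ξ₁.2 χ₀.2 (sameBlock_symm hξ₁) g
  have h2 := memLocalIdeal_induced_transport hM hPp hCL hLN χ₀ ξ hc g
  have h3 := hind.2.2 ξ hξ χ hχ g
  rw [memLocalIdeal_sub_comm] at h2
  exact memLocalIdeal_sub_trans h1 (memLocalIdeal_sub_trans h2 h3)

/-- **The extended first main theorem, conjugacy part.** -/
theorem exists_conj_of_induced_blocks [Fintype L] [Fintype (Subgroup.normalizer (P : Set G))]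
    [Fintype (L.subgroupOf (Subgroup.normalizer (P : Set G)))]
    (hM : IsPModular p M) (hPp : IsPGroup p P) {B : Set (IrrCharacter G)} (hB : IsPBlock M B)
    (hD : IsDefectGroup p M B P)
    (hCL : Subgroup.centralizer (P : Set G) ≤ L)
    (hLN : L ≤ Subgroup.normalizer (P : Set G))
    [hLn : (L.subgroupOf (Subgroup.normalizer (P : Set G))).Normal]
    {b b' : Set (IrrCharacter L)} (hind : IsInducedBlock M L b B) (hind' : IsInducedBlock M L b' B) :
    ∃ n ∈ Subgroup.normalizer (P : Set G), ∀ θ ∈ b, ∃ θ' ∈ b', ∀ x : L, ∀ hx : n * (x : G) * n⁻¹ ∈ L,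
      (θ' : L → ℂ) x = (θ : L → ℂ) ⟨n * (x : G) * n⁻¹, hx⟩ := by
  classical
  have := isPModular_isPrime hM
  obtain ⟨ξ₀, hξ₀⟩ := IsPBlock_nonempty hind.1
  obtain ⟨ξ₀', hξ₀'⟩ := IsPBlock_nonempty hind'.1
  obtain ⟨χ₀, hχ₀⟩ := exists_irr_over (L.subgroupOf (Subgroup.normalizer (P : Set G)))
    (pull (Subgroup.subgroupOfEquivOfLe hLN) ξ₀)
  obtain ⟨χ₀', hχ₀'⟩ := exists_irr_over (L.subgroupOf (Subgroup.normalizer (P : Set G)))
    (pull (Subgroup.subgroupOfEquivOfLe hLN) ξ₀')
  obtain ⟨b₁, hb₁, hb₁d⟩ := exists_block_normalizer hM hB hD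
  have h1 := block_unique_of_induced hM hPp hb₁d hb₁ (isInducedBlock_of_constituent hM hPp hCL hLN hind hξ₀ χ₀ hχ₀)
  have h2 := block_unique_of_induced hM hPp hb₁d hb₁ (isInducedBlock_of_constituent hM hPp hCL hLN hind' hξ₀' χ₀' hχ₀')
  have hsame : SameBlock M (χ₀ : Subgroup.normalizer (P : Set G) → ℂ) (χ₀' : Subgroup.normalizer (P : Set G) → ℂ) := by
    have : χ₀' ∈ blockOf M (χ₀ : Subgroup.normalizer (P : Set G) → ℂ) := by
      rw [h1, ← h2]
      exact mem_blockOf_self χ₀'
    exact this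
  -- the transported block
  set bt : Set (IrrCharacter (L.subgroupOf (Subgroup.normalizer (P : Set G)))) :=
    {ψ | ∃ ξ ∈ b, ψ = pull (Subgroup.subgroupOfEquivOfLe hLN) ξ} with hbt
  have hbtU : IsBlockUnion M bt := by
    rintro _ ⟨ξ, hξ, rfl⟩ ψ hψ hs
    apply hψ
    refine ⟨pull (Subgroup.subgroupOfEquivOfLe hLN).symm ψ, ?_, ?_⟩
    · have h3 := sameBlock_comp_equiv (Subgroup.subgroupOfEquivOfLe hLN).symm hs
      have h4 : (((pull (Subgroup.subgroupOfEquivOfLe hLN) ξ : IrrCharacter _) :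
          L.subgroupOf (Subgroup.normalizer (P : Set G)) → ℂ) ∘ (Subgroup.subgroupOfEquivOfLe hLN).symm) = (ξ : L → ℂ) := by
        funext x
        simp [pull_coe]
      rw [h4] at h3
      have h5 : (pull (Subgroup.subgroupOfEquivOfLe hLN).symm ψ : IrrCharacter L) ∈ blockOf M (ξ : L → ℂ) := h3
      rw [← blockOf_eq_of_mem hind.1 hξ] at h5
      exact h5
    · apply Subtype.ext
      funext x
      simp [pull_coe]
  obtain ⟨n, θt, hθt, hn⟩ := constituent_mem_of_sameBlock (L.subgroupOf (Subgroup.normalizer (P : Set G)))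
    (isStable_sat _ bt) (isBlockUnion_sat _ hbtU) hsame
    ⟨pull (Subgroup.subgroupOfEquivOfLe hLN) ξ₀, subset_sat _ bt ⟨ξ₀, hξ₀, rfl⟩, hχ₀⟩ hχ₀'
  obtain ⟨θ₀, hθ₀, rfl⟩ := hθt
  refine ⟨n, n.2, fun θ hθ => ?_⟩
  let φ : L ≃* L := (Subgroup.subgroupOfEquivOfLe hLN).symm.trans
    ((conjEquiv hLn n).trans (Subgroup.subgroupOfEquivOfLe hLN))
  have hφ : ∀ x : L, ((φ x : L) : G) = (n : G) * x * (n : G)⁻¹ := fun x => rfl
  have hξφ : (ξ₀' : L → ℂ) = (θ₀ : L → ℂ) ∘ φ := by
    funext x
    have h3 := congrFun (congrArg Subtype.val hn) ((Subgroup.subgroupOfEquivOfLe hLN).symm x)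
    simp only [conjIrr_coe, pull_coe, Function.comp] at h3
    simp only [MulEquiv.apply_symm_apply] at h3
    exact h3
  refine ⟨⟨(θ : L → ℂ) ∘ φ, isIrr_comp_equiv φ θ.2⟩, ?_, fun x hx => ?_⟩
  · have h3 := blockOf_eq_of_mem hind'.1 hξ₀'
    rw [h3]
    show SameBlock M (ξ₀' : L → ℂ) ((θ : L → ℂ) ∘ φ)
    rw [hξφ]
    exact sameBlock_comp_equiv φ (sameBlock_of_mem hind.1 hθ₀ hθ)
  · rfl

/-- **The extended first main theorem, existence part.** -/
theorem exists_block_inducing_defect [Fintype L] (hM : IsPModular p M) (hPp : IsPGroup p P) {B : Set (IrrCharacter G)}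
    (hB : IsPBlock M B) (hD : IsDefectGroup p M B P) (hPL : P ≤ L) (hCL : Subgroup.centralizer (P : Set G) ≤ L)
    (hLN : L ≤ Subgroup.normalizer (P : Set G)) :
    ∃ b : Set (IrrCharacter L), IsDefectGroup p M b (P.subgroupOf L) ∧ IsInducedBlock M L b B := by
  classical
  have := isPModular_isPrime hM
  obtain ⟨y, hy, Q, hQ⟩ := id hD
  have hyC : y ∈ Subgroup.centralizer (P : Set G) := by
    refine Subgroup.mem_centralizer_iff.mpr fun q hq => ?_
    rw [hQ] at hq
    obtain ⟨a, _, rfl⟩ := hq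
    exact (mem_centralizer_singleton.1 a.2)
  obtain ⟨b, hb⟩ := exists_block_inducing hM hPp hPL hCL hLN hB hy.2.1 hyC
  refine ⟨b, isDefectGroup_of_induced hM hb hD hPL ?_, hb⟩
  exact Subgroup.normal_subgroupOf_of_le_normalizer hLN

theorem sup_centralizer_le_normalizer (P : Subgroup G) :
    P ⊔ Subgroup.centralizer (P : Set G) ≤ Subgroup.normalizer (P : Set G) :=
  sup_le (le_normalizer_self P) (centralizer_le_normalizer_self P)

theorem sup_centralizer_subgroupOf_normal (P : Subgroup G) :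
    ((P ⊔ Subgroup.centralizer (P : Set G)).subgroupOf (Subgroup.normalizer (P : Set G))).Normal := by
  constructor
  rintro ⟨x, hxN⟩ hx ⟨n, hnN⟩
  rw [Subgroup.mem_subgroupOf] at hx ⊢
  show n * x * n⁻¹ ∈ P ⊔ Subgroup.centralizer (P : Set G)
  have hmap : (P ⊔ Subgroup.centralizer (P : Set G)).map (MulAut.conj n).toMonoidHom ≤
      P ⊔ Subgroup.centralizer (P : Set G) := by
    rw [Subgroup.map_sup]
    apply sup_le_sup
    · rintro _ ⟨a, ha, rfl⟩
      exact (Subgroup.mem_normalizer_iff.1 hnN a).1 ha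
    · rintro _ ⟨c, hc, rfl⟩
      rw [Subgroup.mem_centralizer_iff]
      intro q hq
      have h1 : n⁻¹ * q * n ∈ P := by
        have := (Subgroup.mem_normalizer_iff.1 hnN (n⁻¹ * q * n)).2
        apply this
        have e : n * (n⁻¹ * q * n) * n⁻¹ = q := by group
        rw [e]
        exact hq
      have h2 := Subgroup.mem_centralizer_iff.1 hc _ h1
      simp only [MulEquiv.coe_toMonoidHom, MulAut.conj_apply]
      calc q * (n * c * n⁻¹) = n * ((n⁻¹ * q * n) * c) * n⁻¹ := by group
        _ = n * (c * (n⁻¹ * q * n)) * n⁻¹ := by rw [h2]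
        _ = n * c * n⁻¹ * q := by group
  exact hmap ⟨x, hx, rfl⟩

end Ext

end Cfsg.Agent.Lib.Block
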