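import Cfsg.Agent.Lib.Block.Principal

/-!
# The principal 2-block of a group with Klein four Sylow 2-subgroups
-/

set_option autoImplicit false
set_option linter.unusedSectionVars false
set_option linter.unusedSimpArgs false
set_option linter.unusedVariables false

open scoped ComplexConjugate
open Cfsg MonoidAlgebra Cfsg.Agent.Lib.Char

namespace Cfsg.Agent.Lib.Block

section Burnside

variable {X : Type*} [Group X] [Finite X] {p : ℕ} [hp : Fact p.Prime]

theorem exists_complement_of_burnside (Q : Sylow p X)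
    (h : Subgroup.normalizer ((Q : Subgroup X) : Set X) ≤ Subgroup.centralizer ((Q : Subgroup X) : Set X)) :
    ∃ K : Subgroup X, K.Normal ∧ ¬ p ∣ Nat.card K ∧ ∃ k, K.index = p ^ k := by
  have hc := MonoidHom.ker_transferSylow_isComplement' Q h
  refine ⟨(MonoidHom.transferSylow Q h).ker, inferInstance, MonoidHom.not_dvd_card_ker_transferSylow Q h, ?_⟩
  have h1 := hc.symm.index_eq_card
  obtain ⟨k, hk⟩ := IsPGroup.iff_card.1 Q.isPGroup'
  exact ⟨k, by rw [h1, hk]⟩

theorem mem_sylow_of_normalizes (P : Sylow p X) {c : X} (hc : ∃ k, orderOf c = p ^ k)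
    (hn : c ∈ Subgroup.normalizer ((P : Subgroup X) : Set X)) : c ∈ (P : Subgroup X) := by
  have h1 : IsPGroup p (Subgroup.zpowers c) := by
    obtain ⟨k, hk⟩ := hc
    apply IsPGroup.of_card (n := k)
    rw [Nat.card_zpowers, hk]
  have h2 : Subgroup.zpowers c ≤ Subgroup.normalizer ((P : Subgroup X) : Set X) := by
    rw [Subgroup.zpowers_le]
    exact hn
  have h3 := h1.to_sup_of_normal_right' P.isPGroup' h2
  have h4 := P.is_maximal' h3 le_sup_right
  rw [← SetLike.mem_coe]
  have h5 : (P : Subgroup X) = Subgroup.zpowers c ⊔ (P : Subgroup X) := h4.symm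
  rw [h5]
  exact (le_sup_left : Subgroup.zpowers c ≤ _) (Subgroup.mem_zpowers c)

end Burnside

section Signs

theorem three_signs {ι : Type*} (S : Finset ι) (a : ι → ℤ) (hne : ∀ i ∈ S, a i ≠ 0)
    (hsum : ∑ i ∈ S, (a i) ^ 2 = 3) : S.card = 3 ∧ ∀ i ∈ S, a i = 1 ∨ a i = -1 := by
  have h1 : ∀ i ∈ S, (a i) ^ 2 = 1 := by
    intro i hi
    have h2 : (a i) ^ 2 ≤ 3 := by
      rw [← hsum]
      exact Finset.single_le_sum (f := fun i => (a i) ^ 2) (fun j _ => sq_nonneg _) hi
    have h3 : a i ≠ 0 := hne i hi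
    have h4 : |a i| < 2 := by
      by_contra hc
      push Not at hc
      have : (2 : ℤ) ^ 2 ≤ |a i| ^ 2 := pow_le_pow_left₀ (by norm_num) hc 2
      rw [sq_abs] at this
      omega
    have h5 : -2 < a i ∧ a i < 2 := abs_lt.1 h4
    have h6 : a i = 1 ∨ a i = -1 := by omega
    rcases h6 with h6 | h6 <;> rw [h6] <;> norm_num
  constructor
  · rw [Finset.sum_congr rfl h1] at hsum
    simp only [Finset.sum_const, nsmul_eq_mul, mul_one] at hsum
    exact_mod_cast hsum
  · intro i hi
    have := h1 i hi
    have h2 : (a i - 1) * (a i + 1) = 0 := by ring_nf; omega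
    rcases mul_eq_zero.1 h2 with h3 | h3
    · left; omega
    · right; omega

theorem sign_exists {ι : Type*} (S : Finset ι) (a d : ι → ℤ) (hd : ∀ i ∈ S, 1 ≤ d i)
    (hsign : ∀ i ∈ S, a i = 1 ∨ a i = -1) (hcard : S.card = 3) (horth : 1 + ∑ i ∈ S, d i * a i = 0) :
    (∃ i ∈ S, a i = 1) ∧ ∃ i ∈ S, a i = -1 := by
  have hsumd : (3 : ℤ) ≤ ∑ i ∈ S, d i := by
    have := Finset.card_nsmul_le_sum S d (n := 1) (fun i hi => hd i hi)
    rw [hcard] at this
    simpa using this
  constructor
  · by_contra hc
    push Not at hc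
    have h1 : ∀ i ∈ S, d i * a i = - d i := by
      intro i hi
      rcases hsign i hi with h | h
      · exact absurd h (hc i hi)
      · rw [h]; ring
    have h2 : ∑ i ∈ S, d i * a i = ∑ i ∈ S, - d i := Finset.sum_congr rfl h1
    rw [h2, Finset.sum_neg_distrib] at horth
    linarith
  · by_contra hc
    push Not at hc
    have h1 : ∀ i ∈ S, d i * a i = d i := by
      intro i hi
      rcases hsign i hi with h | h
      · rw [h]; ring
      · exact absurd h (hc i hi)
    have h2 : ∑ i ∈ S, d i * a i = ∑ i ∈ S, d i := Finset.sum_congr rfl h1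
    rw [h2] at horth
    linarith

end Signs

section Klein

variable {G : Type*} [Group G] [Fintype G]

/-- Character values at involutions are integers. -/
theorem char_involution_int (χ : IrrCharacter G) {z : G} (hz : orderOf z = 2) :
    ∃ n : ℤ, (χ : G → ℂ) z = n := by
  classical
  obtain ⟨_, m, ρ, hρ, rfl⟩ := χ
  obtain ⟨ζ, hζ, h⟩ := character_eq_sum_roots ρ z (isOfFinOrder_of_finite z)
  have h1 := h 1
  rw [zpow_one] at h1
  have h2 : ∀ i, ∃ c : ℤ, ζ i = c := by
    intro i
    have h3 := hζ i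
    rw [hz] at h3
    have h4 : (ζ i - 1) * (ζ i + 1) = 0 := by ring_nf; rw [h3]; ring
    rcases mul_eq_zero.1 h4 with h5 | h5
    · exact ⟨1, by push_cast; linear_combination h5⟩
    · exact ⟨-1, by push_cast; linear_combination h5⟩
  choose c hc using h2
  refine ⟨∑ i, c i, ?_⟩
  simp only
  rw [h1]
  push_cast
  refine Finset.sum_congr rfl fun i _ => ?_
  rw [zpow_one, hc]

variable {P : Sylow 2 G}

/-- Odd automorphisms fixing an involution of a four-group are trivial. -/
theorem odd_fix_klein (hsq : ∀ x ∈ (P : Subgroup G), x * x = 1)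
    (hcomm : ∀ a ∈ (P : Subgroup G), ∀ b ∈ (P : Subgroup G), a * b = b * a)
    (hcard : Nat.card (P : Subgroup G) = 4) {z : G} (hzP : z ∈ (P : Subgroup G)) (hz1 : z ≠ 1) {g : G}
    (hg : ¬ 2 ∣ orderOf g) (hgP : ∀ y ∈ (P : Subgroup G), g * y * g⁻¹ ∈ (P : Subgroup G)) (hgz : g * z * g⁻¹ = z)
    {y : G} (hy : y ∈ (P : Subgroup G)) : g * y * g⁻¹ = y := by
  classical
  by_cases hy1 : y = 1
  · subst hy1; simp
  by_cases hyz : y = z
  · subst hyz; exact hgz
  have hτ : ∀ w : G, (g * w * g⁻¹ = 1 ↔ w = 1) := by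
    intro w
    constructor
    · intro h
      have : w = g⁻¹ * (g * w * g⁻¹) * g := by group
      rw [this, h]
      simp
    · rintro rfl
      simp
  have hzy : z * y ∈ (P : Subgroup G) := (P : Subgroup G).mul_mem hzP hy
  have hzz : z * z = 1 := hsq z hzP
  -- the four elements
  have hne1 : z * y ≠ 1 := by
    intro h
    apply hyz
    have : y = z * z * y := by rw [hzz, one_mul]
    rw [this, mul_assoc, h, mul_one]
  have hne2 : z * y ≠ z := by
    intro h
    exact hy1 (by simpa using h)
  have hne3 : z * y ≠ y := by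
    intro h
    exact hz1 (by simpa using h)
  have hFin : ((P : Subgroup G) : Set G).toFinset = {1, z, y, z * y} := by
    symm
    apply Finset.eq_of_subset_of_card_le
    · intro w hw
      simp only [Finset.mem_insert, Finset.mem_singleton] at hw
      rw [Set.mem_toFinset]
      rcases hw with rfl | rfl | rfl | rfl
      · exact (P : Subgroup G).one_mem
      · exact hzP
      · exact hy
      · exact hzy
    · have h1 : ((P : Subgroup G) : Set G).toFinset.card = 4 := by
        rw [Set.toFinset_card, ← hcard, Nat.card_eq_fintype_card]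
        rfl
      rw [h1, Finset.card_insert_of_notMem, Finset.card_insert_of_notMem, Finset.card_insert_of_notMem,
        Finset.card_singleton]
      · simpa using hne3.symm
      · simp only [Finset.mem_insert, Finset.mem_singleton, not_or]
        exact ⟨Ne.symm hyz, Ne.symm hne2⟩
      · simp only [Finset.mem_insert, Finset.mem_singleton, not_or]
        exact ⟨Ne.symm hz1, Ne.symm hy1, Ne.symm hne1⟩
  have hmem : ∀ w ∈ (P : Subgroup G), w = 1 ∨ w = z ∨ w = y ∨ w = z * y := by
    intro w hw
    have : w ∈ ((P : Subgroup G) : Set G).toFinset := by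
      rw [Set.mem_toFinset]
      exact hw
    rw [hFin] at this
    simpa using this
  -- `τ y` is `y` or `z y`
  have hτy : g * y * g⁻¹ = y ∨ g * y * g⁻¹ = z * y := by
    rcases hmem _ (hgP y hy) with h | h | h | h
    · exact absurd ((hτ y).1 h) hy1
    · exfalso
      apply hyz
      have : g * y * g⁻¹ = g * z * g⁻¹ := by rw [h, hgz]
      exact mul_left_cancel (mul_right_cancel this)
    · exact Or.inl h
    · exact Or.inr h
  have hτmul : g * (z * y) * g⁻¹ = z * (g * y * g⁻¹) := by
    calc g * (z * y) * g⁻¹ = (g * z * g⁻¹) * (g * y * g⁻¹) := by group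
      _ = z * (g * y * g⁻¹) := by rw [hgz]
  have hτ2 : g * (g * y * g⁻¹) * g⁻¹ = y := by
    rcases hτy with h | h
    · rw [h, h]
    · rw [h, hτmul, h, ← mul_assoc, hzz, one_mul]
  have hpow : ∀ j : ℕ, g ^ (2 * j) * y * (g ^ (2 * j))⁻¹ = y := by
    intro j
    induction j with
    | zero => simp
    | succ j ih =>
      have e : g ^ (2 * (j + 1)) = g * g * g ^ (2 * j) := by
        rw [show 2 * (j + 1) = 2 + 2 * j by ring, pow_add, pow_two]
      rw [e]
      calc g * g * g ^ (2 * j) * y * (g * g * g ^ (2 * j))⁻¹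
          = g * (g * (g ^ (2 * j) * y * (g ^ (2 * j))⁻¹) * g⁻¹) * g⁻¹ := by group
        _ = y := by rw [ih, hτ2]
  have hodd : Odd (orderOf g) := by
    rw [← Nat.not_even_iff_odd, even_iff_two_dvd]
    exact hg
  obtain ⟨j, hj⟩ := hodd
  have h1 := hpow j
  have h2 : g ^ (2 * j + 1) = 1 := by rw [← hj, pow_orderOf_eq_one]
  have h3 : g ^ (2 * j) = g⁻¹ := by
    rw [pow_succ] at h2
    exact eq_inv_of_mul_eq_one_left h2
  rw [h3, inv_inv] at h1
  have h4 : g * y * g⁻¹ = g * (g⁻¹ * y * g) * g⁻¹ := by rw [h1]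
  rw [h4]
  group

/-- The Sylow subgroup of the centralizer of an involution of a four-group. -/
theorem normalizer_le_centralizer_klein (hsq : ∀ x ∈ (P : Subgroup G), x * x = 1)
    (hcomm : ∀ a ∈ (P : Subgroup G), ∀ b ∈ (P : Subgroup G), a * b = b * a)
    (hcard : Nat.card (P : Subgroup G) = 4) {z : G} (hzP : z ∈ (P : Subgroup G)) (hz1 : z ≠ 1)
    (hPH : (P : Subgroup G) ≤ Subgroup.centralizer ({z} : Set G)) :
    Subgroup.normalizer (((P.subtype hPH : Sylow 2 (Subgroup.centralizer ({z} : Set G))) :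
        Subgroup (Subgroup.centralizer ({z} : Set G))) : Set (Subgroup.centralizer ({z} : Set G))) ≤
      Subgroup.centralizer (((P.subtype hPH : Sylow 2 (Subgroup.centralizer ({z} : Set G))) :
        Subgroup (Subgroup.centralizer ({z} : Set G))) : Set (Subgroup.centralizer ({z} : Set G))) := by
  classical
  intro x hx
  set g : G := (x : G) with hg
  have hgz : g * z * g⁻¹ = z := by
    have := mem_centralizer_singleton.1 x.2
    rw [← hg] at this
    rw [this]
    group
  have hgP : ∀ k : ℤ, ∀ y ∈ (P : Subgroup G), g ^ k * y * (g ^ k)⁻¹ ∈ (P : Subgroup G) := by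
    intro k y hy
    have hxk : x ^ k ∈ Subgroup.normalizer (((P.subtype hPH : Sylow 2 (Subgroup.centralizer ({z} : Set G))) :
        Subgroup (Subgroup.centralizer ({z} : Set G))) : Set (Subgroup.centralizer ({z} : Set G))) :=
      Subgroup.zpow_mem _ hx k
    have h1 := (Subgroup.mem_normalizer_iff.1 hxk ⟨y, hPH hy⟩).1 (by
      rw [Sylow.coe_subtype, Subgroup.mem_subgroupOf]
      exact hy)
    rw [Sylow.coe_subtype, Subgroup.mem_subgroupOf] at h1
    simpa [hg] using h1
  obtain ⟨u, v, huv, hc, hu2, hv, hu_z, hv_z⟩ := exists_jordan (p := 2) g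
  obtain ⟨i, hi⟩ := Subgroup.mem_zpowers_iff.1 hu_z
  obtain ⟨l, hl⟩ := Subgroup.mem_zpowers_iff.1 hv_z
  have hvP : ∀ y ∈ (P : Subgroup G), v * y * v⁻¹ ∈ (P : Subgroup G) := by
    intro y hy
    rw [← hl]
    exact hgP l y hy
  have hvz : v * z * v⁻¹ = z := by
    have h1 : Commute g z := by
      rw [commute_iff_eq]
      exact mem_centralizer_singleton.1 x.2
    rw [← hl]
    have h2 : Commute (g ^ l) z := h1.zpow_left l
    rw [h2.eq]
    group
  have huP : u ∈ (P : Subgroup G) := by
    apply mem_sylow_of_normalizes P hu2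
    rw [Subgroup.mem_normalizer_iff]
    intro y
    constructor
    · intro hy
      rw [← hi]
      exact hgP i y hy
    · intro hy
      rw [← hi] at hy
      have h1 := hgP (-i) _ hy
      have e : g ^ (-i) * (g ^ i * y * (g ^ i)⁻¹) * (g ^ (-i))⁻¹ = y := by
        rw [zpow_neg]
        group
      rwa [e] at h1
  rw [Subgroup.mem_centralizer_iff]
  rintro y hy
  have hy' : (y : G) ∈ (P : Subgroup G) := by
    rw [Sylow.coe_subtype, SetLike.mem_coe, Subgroup.mem_subgroupOf] at hy
    exact hy
  apply Subtype.ext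
  show (y : G) * g = g * (y : G)
  have h1 := odd_fix_klein hsq hcomm hcard hzP hz1 hv hvP hvz hy'
  have h2 : v * (y : G) = (y : G) * v := by
    rw [← mul_inv_eq_iff_eq_mul]
    exact h1
  have h3 := hcomm u huP _ hy'
  rw [← huv]
  calc (y : G) * (u * v) = ((y : G) * u) * v := by group
    _ = (u * (y : G)) * v := by rw [h3]
    _ = u * ((y : G) * v) := by group
    _ = u * (v * (y : G)) := by rw [h2]
    _ = u * v * (y : G) := by group

/-- The two-part of the order of the centralizer of an involution of the Sylow subgroup. -/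
theorem two_pow_factorization_centralizer (hcard : Nat.card (P : Subgroup G) = 4) {z : G}
    (hPH : (P : Subgroup G) ≤ Subgroup.centralizer ({z} : Set G)) :
    2 ^ (Nat.card (Subgroup.centralizer ({z} : Set G))).factorization 2 = 4 := by
  have h1 : 2 ^ (Nat.card G).factorization 2 = 4 := by
    rw [← Sylow.card_eq_multiplicity P, hcard]
  have hfac : (Nat.card G).factorization 2 = 2 := by
    have : (2 : ℕ) ^ (Nat.card G).factorization 2 = 2 ^ 2 := by rw [h1]; norm_num
    exact Nat.pow_right_injective (le_refl 2) this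
  have h2 : Nat.card (P : Subgroup G) ∣ Nat.card (Subgroup.centralizer ({z} : Set G)) := Subgroup.card_dvd_of_le hPH
  have h3 : Nat.card (Subgroup.centralizer ({z} : Set G)) ∣ Nat.card G := Subgroup.card_subgroup_dvd_card _
  have h4 : 2 ^ 2 ∣ Nat.card (Subgroup.centralizer ({z} : Set G)) := by
    rw [hcard] at h2
    simpa using h2
  have h5 := (Nat.prime_two.pow_dvd_iff_le_factorization Nat.card_pos.ne').1 h4
  have h6 := (Nat.factorization_le_iff_dvd Nat.card_pos.ne' Nat.card_pos.ne').2 h3 2
  have h7 : (Nat.card (Subgroup.centralizer ({z} : Set G))).factorization 2 = 2 := by omega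
  rw [h7]
  norm_num

end Klein

end Cfsg.Agent.Lib.Block
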