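import Cfsg.Agent.Lib.Block.Klein

/-!
# The principal 2-block of a group with Klein four Sylow 2-subgroups, main theorem
-/

set_option autoImplicit false
set_option linter.unusedSectionVars false
set_option linter.unusedSimpArgs false
set_option linter.unusedVariables false

open scoped ComplexConjugate
open Cfsg MonoidAlgebra Cfsg.Agent.Lib.Char

namespace Cfsg.Agent.Lib.Block

section Split

variable {G : Type*} [Group G] [Fintype G]

open Classical in
theorem sum_block_split {R : Type*} [AddCommMonoid R] (B : Set (IrrCharacter G)) (o : IrrCharacter G) (ho : o ∈ B)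
    (f : IrrCharacter G → R) :
    ∑ χ : IrrCharacter G, (if χ ∈ B then f χ else 0) =
      f o + ∑ χ ∈ Finset.univ.filter (fun χ : IrrCharacter G => χ ∈ B ∧ χ ≠ o), f χ := by
  rw [← Finset.sum_filter]
  have h : Finset.univ.filter (fun χ : IrrCharacter G => χ ∈ B) =
      insert o (Finset.univ.filter (fun χ : IrrCharacter G => χ ∈ B ∧ χ ≠ o)) := by
    ext χ
    simp only [Finset.mem_filter, Finset.mem_univ, true_and, Finset.mem_insert]
    constructor
    · intro h
      by_cases hc : χ = o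
      · exact Or.inl hc
      · exact Or.inr ⟨h, hc⟩
    · rintro (rfl | ⟨h, _⟩)
      · exact ho
      · exact h
  rw [h, Finset.sum_insert (by simp)]

end Split

section Main

variable {G : Type*} [Group G] [Fintype G] {M : Ideal AlgInt}

/-- Degrees modulo four. -/
theorem degree_mod_four (P : Sylow 2 G) (hcard : Nat.card (P : Subgroup G) = 4)
    (hsq : ∀ x ∈ (P : Subgroup G), x * x = 1) {z : G} (hz : orderOf z = 2)
    (hone : ∀ s t : G, orderOf s = 2 → orderOf t = 2 → IsConj s t)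
    (χ : IrrCharacter G) {n : ℤ} (hn : (χ : G → ℂ) z = n) :
    (4 : ℤ) ∣ (charDegree (χ : G → ℂ) : ℤ) + 3 * n := by
  classical
  have hχc := IsIrrCharacter.isCharacter χ.2
  haveI : Fintype (P : Subgroup G) := Fintype.ofFinite _
  obtain ⟨k, hk⟩ := classInner_isCharacter_nat (IsCharacter.restrict (P : Subgroup G) hχc)
    (IsCharacter.one (G := (P : Subgroup G)))
  have hval : ∀ s : (P : Subgroup G), s ≠ 1 → (χ : G → ℂ) s = n := by
    intro s hs
    have hs1 : (s : G) ≠ 1 := fun h => hs (Subtype.ext h)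
    have hs2 : (s : G) ^ 2 = 1 := by
      rw [pow_two]
      exact hsq s s.2
    have hs3 : orderOf (s : G) = 2 := orderOf_eq_prime hs2 hs1
    obtain ⟨c, hc⟩ := isConj_iff.1 (hone z s hz hs3)
    rw [← hc, IsCharacter.isClassFunction hχc, hn]
  have hsum : ∑ s : (P : Subgroup G), (χ : G → ℂ) s = (χ : G → ℂ) 1 + 3 * n := by
    rw [← Finset.add_sum_erase _ _ (Finset.mem_univ (1 : (P : Subgroup G)))]
    have h1 : ∑ s ∈ Finset.univ.erase (1 : (P : Subgroup G)), (χ : G → ℂ) s =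
        ∑ s ∈ Finset.univ.erase (1 : (P : Subgroup G)), (n : ℂ) := by
      refine Finset.sum_congr rfl fun s hs => ?_
      exact hval s (Finset.ne_of_mem_erase hs)
    rw [h1, Finset.sum_const, Finset.card_erase_of_mem (Finset.mem_univ _), Finset.card_univ,
      Fintype.card_eq_nat_card, hcard]
    simp
  have h2 : (4 : ℂ) * k = charDegree (χ : G → ℂ) + 3 * n := by
    rw [charDegree_cast hχc, ← hsum, ← hk]
    unfold classInner
    simp only [map_one, mul_one, hcard]
    push_cast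
    field_simp
  have h3 : (4 : ℤ) * k = charDegree (χ : G → ℂ) + 3 * n := by exact_mod_cast h2
  exact ⟨k, h3.symm⟩

/-- In a group with four-group Sylow subgroups and one class of involutions, no character of the principal block
vanishes at an involution. -/
theorem principal_ne_zero_klein (hM : IsPModular 2 M) (P : Sylow 2 G)
    (hsq : ∀ x ∈ (P : Subgroup G), x * x = 1) (hone : ∀ s t : G, orderOf s = 2 → orderOf t = 2 → IsConj s t)
    {z : G} (hz : orderOf z = 2)
    [Fintype (Subgroup.centralizer ({z} : Set G))]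
    {K : Subgroup (Subgroup.centralizer ({z} : Set G))} [K.Normal]
    (hK : ¬ 2 ∣ Nat.card K) (hidx : ∃ k, K.index = 2 ^ k) {ζ : IrrCharacter G} (hζ : ζ ∈ principalBlock M G) :
    (ζ : G → ℂ) z ≠ 0 := by
  classical
  have := isPModular_isPrime hM
  intro h0
  have hζc := IsIrrCharacter.isCharacter ζ.2
  have hKle : K ≤ pPrimeCore 2 (Subgroup.centralizer ({z} : Set G)) := by
    apply Cfsg.Agent.Lib.Core.le_pPrimeCore inferInstance
    exact ((Nat.Prime.coprime_iff_not_dvd Nat.prime_two).2 hK).symm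
  have hvan : ∀ y : G, 2 ∣ orderOf y → (ζ : G → ℂ) y = 0 := by
    intro y hy
    obtain ⟨u, v, huv, hc, hu2, hv, _, _⟩ := exists_jordan (p := 2) y
    have hu1 : u ≠ 1 := by
      rintro rfl
      rw [one_mul] at huv
      rw [huv] at hv
      exact hv hy
    -- `u` is an involution
    have hu3 : u * u = 1 := by
      have h1 : IsPGroup 2 (Subgroup.zpowers u) := isPGroup_zpowers_of_orderOf hu2
      obtain ⟨Q, hQ⟩ := h1.exists_le_sylow
      obtain ⟨c, hc'⟩ := MulAction.exists_smul_eq G Q P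
      have h2 : c * u * c⁻¹ ∈ (P : Subgroup G) := by
        rw [← hc']
        refine ⟨u, hQ (Subgroup.mem_zpowers u), ?_⟩
        simp [MulAut.smul_def]
      have h3 := hsq _ h2
      have h4 : u * u = c⁻¹ * ((c * u * c⁻¹) * (c * u * c⁻¹)) * c := by group
      rw [h4, h3]
      simp
    have hu4 : orderOf u = 2 := orderOf_eq_prime (by rw [pow_two]; exact hu3) hu1
    obtain ⟨c, hc'⟩ := isConj_iff.1 (hone u z hu4 hz)
    -- conjugate into the centralizer of `z`
    have e1 : (ζ : G → ℂ) y = (ζ : G → ℂ) (c * y * c⁻¹) :=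
      (IsCharacter.isClassFunction hζc y c).symm
    have e2 : c * y * c⁻¹ = z * (c * v * c⁻¹) := by
      rw [← huv, ← hc']
      group
    have hvH : c * v * c⁻¹ ∈ Subgroup.centralizer ({z} : Set G) := by
      rw [mem_centralizer_singleton, ← hc']
      have hc2 := hc.eq
      calc c * v * c⁻¹ * (c * u * c⁻¹) = c * (v * u) * c⁻¹ := by group
        _ = c * (u * v) * c⁻¹ := by rw [hc2]
        _ = c * u * c⁻¹ * (c * v * c⁻¹) := by group
    have hvreg : ¬ 2 ∣ orderOf (⟨c * v * c⁻¹, hvH⟩ : Subgroup.centralizer ({z} : Set G)) := by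
      rw [Subgroup.orderOf_mk, orderOf_conj]
      exact hv
    have hvK := mem_of_regular_of_index K hidx hvreg
    have hvmem : c * v * c⁻¹ ∈ centralizerPPrimeCore 2 z := ⟨⟨c * v * c⁻¹, hvH⟩, hKle hvK, rfl⟩
    have hz2 : ∃ k, orderOf z = 2 ^ k := ⟨1, by simpa using hz⟩
    have e3 := irr_mul_of_principal hM hz2 hvmem ζ hζ
    rw [e1, e2, e3, h0]
  have h1 := pow_dvd_degree_of_vanish hζc hvan
  have h2 := (not_dvd_card_div_iff Nat.prime_two (charDegree_dvd_card ζ.2)).2 h1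
  have h3 := blockOf_eq_singleton_of_not_dvd hM ζ h2
  have h4 : oneIrr G ∈ blockOf M (ζ : G → ℂ) := sameBlock_symm hζ
  rw [h3] at h4
  have h5 : oneIrr G = ζ := h4
  rw [← h5] at h0
  exact one_ne_zero h0

/-- **The principal block of a group with four-group Sylow 2-subgroups and one class of involutions.** -/
theorem principal_klein (hM : IsPModular 2 M) (P : Sylow 2 G) (hP : IsKleinFour (P : Subgroup G))
    (hone : ∀ s t : G, orderOf s = 2 → orderOf t = 2 → IsConj s t) :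
    ∃ ζ₂ ζ₃ ζ₄ : IrrCharacter G, ∃ ε : ℤ, (ε = 1 ∨ ε = -1) ∧ (ζ₂ : G → ℂ) ≠ (fun _ => 1) ∧
      (ζ₃ : G → ℂ) ≠ (fun _ => 1) ∧ ζ₂ ≠ ζ₃ ∧ ζ₂ ≠ ζ₄ ∧ ζ₃ ≠ ζ₄ ∧
      principalBlock M G = {χ : IrrCharacter G | (χ : G → ℂ) = (fun _ => 1) ∨ χ = ζ₂ ∨ χ = ζ₃ ∨ χ = ζ₄} ∧
      (∀ z : G, orderOf z = 2 → (ζ₂ : G → ℂ) z = 1 ∧ (ζ₃ : G → ℂ) z = (ε : ℂ) ∧ (ζ₄ : G → ℂ) z = -1) ∧
      (4 : ℤ) ∣ (charDegree (ζ₂ : G → ℂ) : ℤ) - 1 ∧ (4 : ℤ) ∣ (charDegree (ζ₃ : G → ℂ) : ℤ) - ε ∧
      (4 : ℤ) ∣ (charDegree (ζ₄ : G → ℂ) : ℤ) + 1 ∧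
      ∀ y : G, Odd (orderOf y) → 1 + (ζ₂ : G → ℂ) y + (ε : ℂ) * (ζ₃ : G → ℂ) y - (ζ₄ : G → ℂ) y = 0 := by
  classical
  have := isPModular_isPrime hM
  have hcard : Nat.card (P : Subgroup G) = 4 := IsKleinFour.card_four
  have hsq : ∀ x ∈ (P : Subgroup G), x * x = 1 := by
    intro x hx
    have h1 := Monoid.pow_exponent_eq_one (⟨x, hx⟩ : (P : Subgroup G))
    rw [IsKleinFour.exponent_two, pow_two] at h1
    exact congrArg Subtype.val h1
  have hcomm : ∀ a ∈ (P : Subgroup G), ∀ b ∈ (P : Subgroup G), a * b = b * a := by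
    intro a ha b hb
    have h1 := hsq a ha
    have h2 := hsq b hb
    have h3 := hsq _ ((P : Subgroup G).mul_mem ha hb)
    have ha' : a⁻¹ = a := inv_eq_of_mul_eq_one_left h1
    have hb' : b⁻¹ = b := inv_eq_of_mul_eq_one_left h2
    have h4 : (a * b)⁻¹ = a * b := inv_eq_of_mul_eq_one_left h3
    rw [mul_inv_rev, ha', hb'] at h4
    exact h4.symm
  have hex : ∃ z ∈ (P : Subgroup G), z ≠ 1 := by
    rcases Subgroup.bot_or_exists_ne_one (P : Subgroup G) with h | h
    · rw [h] at hcard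
      simp at hcard
    · obtain ⟨x, hx, hx1⟩ := h
      exact ⟨x, hx, hx1⟩
  obtain ⟨z, hzP, hz1⟩ := hex
  have hz : orderOf z = 2 := orderOf_eq_prime (by rw [pow_two]; exact hsq z hzP) hz1
  have hz2 : ∃ k, orderOf z = 2 ^ k := ⟨1, by simpa using hz⟩
  have hPH : (P : Subgroup G) ≤ Subgroup.centralizer ({z} : Set G) := by
    intro y hy
    rw [mem_centralizer_singleton]
    exact hcomm y hy z hzP
  haveI : Fintype (Subgroup.centralizer ({z} : Set G)) := Fintype.ofFinite _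
  obtain ⟨K, hKn, hK, hidx⟩ := exists_complement_of_burnside (P.subtype hPH)
    (normalizer_le_centralizer_klein hsq hcomm hcard hzP hz1 hPH)
  haveI : Fintype K := Fintype.ofFinite _
  -- the sum of squares
  have hreg1 : ∀ {X : Type _} [Group X], ¬ 2 ∣ orderOf (1 : X) := by
    intro X _
    simp
  have e1 := sum_principal_section hM hz2 (1 : Subgroup.centralizer ({z} : Set G)) hreg1
  have e2 := sum_principal_pNilpotent hM K hK hidx (1 : Subgroup.centralizer ({z} : Set G)) hreg1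
  rw [e2, two_pow_factorization_centralizer hcard hPH] at e1
  simp only [Subgroup.coe_one, mul_one] at e1
  choose a ha using fun χ : IrrCharacter G => char_involution_int χ hz
  set B₀ := principalBlock M G with hB₀
  have hoB : oneIrr G ∈ B₀ := mem_blockOf_self (oneIrr G)
  set S := Finset.univ.filter (fun χ : IrrCharacter G => χ ∈ B₀ ∧ χ ≠ oneIrr G) with hS
  have ha1 : a (oneIrr G) = 1 := by
    have h : (1 : ℂ) = a (oneIrr G) := ha (oneIrr G)
    exact_mod_cast h.symm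
  have hsumS : ∑ χ ∈ S, (a χ) ^ 2 = 3 := by
    rw [sum_block_split B₀ (oneIrr G) hoB] at e1
    have h2 : ∀ χ : IrrCharacter G, conj ((χ : G → ℂ) z) * (χ : G → ℂ) z = ((a χ ^ 2 : ℤ) : ℂ) := by
      intro χ
      rw [ha χ]
      simp [pow_two]
    simp only [h2] at e1
    have h3 : ((a (oneIrr G) ^ 2 : ℤ) + ∑ χ ∈ S, a χ ^ 2 : ℤ) = 4 := by
      exact_mod_cast e1
    rw [ha1] at h3
    linarith
  have hne : ∀ χ ∈ S, a χ ≠ 0 := by
    intro χ hχ h0
    have hχB : χ ∈ B₀ := (Finset.mem_filter.1 hχ).2.1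
    apply principal_ne_zero_klein hM P hsq hone hz hK hidx hχB
    rw [ha χ, h0]
    simp
  obtain ⟨hS3, hsign⟩ := three_signs S a hne hsumS
  have hU : IsBlockUnion M B₀ := isBlockUnion_of_isPBlock (isPBlock_blockOf (oneIrr G))
  have hzsing : 2 ∣ orderOf z := by rw [hz]
  -- orthogonality with the degrees
  have horth : 1 + ∑ χ ∈ S, (charDegree (χ : G → ℂ) : ℤ) * a χ = 0 := by
    have h1 := sum_degree_mul_eq_zero hM hU hzsing
    rw [sum_block_split B₀ (oneIrr G) hoB] at h1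
    have h2 : ∀ χ : IrrCharacter G, (χ : G → ℂ) 1 * (χ : G → ℂ) z = (((charDegree (χ : G → ℂ) : ℤ) * a χ : ℤ) : ℂ) := by
      intro χ
      rw [ha χ]
      push_cast
      rw [charDegree_cast (IsIrrCharacter.isCharacter χ.2)]
    simp only [h2] at h1
    have h3 : ((charDegree ((oneIrr G : IrrCharacter G) : G → ℂ) : ℤ) * a (oneIrr G) +
        ∑ χ ∈ S, (charDegree (χ : G → ℂ) : ℤ) * a χ : ℤ) = 0 := by
      exact_mod_cast h1
    have h4 : charDegree ((oneIrr G : IrrCharacter G) : G → ℂ) = 1 := charDegree_natCast (by simp [oneIrr_coe])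
    rw [h4, ha1] at h3
    simpa using h3
  obtain ⟨⟨s₂, hs₂, hs₂a⟩, ⟨s₄, hs₄, hs₄a⟩⟩ := sign_exists S a (fun χ => (charDegree (χ : G → ℂ) : ℤ))
    (fun χ _ => by exact_mod_cast charDegree_pos_of_irr χ.2) hsign hS3 horth
  have hs₂₄ : s₂ ≠ s₄ := by
    intro h
    rw [h, hs₄a] at hs₂a
    norm_num at hs₂a
  have hcard1 : ((S.erase s₂).erase s₄).card = 1 := by
    rw [Finset.card_erase_of_mem (Finset.mem_erase.2 ⟨Ne.symm hs₂₄, hs₄⟩), Finset.card_erase_of_mem hs₂, hS3]
  obtain ⟨s₃, hs₃e⟩ := Finset.card_eq_one.1 hcard1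
  have hs₃m : s₃ ∈ (S.erase s₂).erase s₄ := by rw [hs₃e]; simp
  have hs₃4 : s₃ ≠ s₄ := Finset.ne_of_mem_erase hs₃m
  have hs₃2 : s₃ ≠ s₂ := Finset.ne_of_mem_erase (Finset.mem_of_mem_erase hs₃m)
  have hs₃ : s₃ ∈ S := Finset.mem_of_mem_erase (Finset.mem_of_mem_erase hs₃m)
  have hSeq : S = {s₂, s₃, s₄} := by
    ext χ
    simp only [Finset.mem_insert, Finset.mem_singleton]
    constructor
    · intro hχ
      by_cases h2 : χ = s₂
      · exact Or.inl h2
      by_cases h4 : χ = s₄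
      · exact Or.inr (Or.inr h4)
      have : χ ∈ (S.erase s₂).erase s₄ := Finset.mem_erase.2 ⟨h4, Finset.mem_erase.2 ⟨h2, hχ⟩⟩
      rw [hs₃e] at this
      exact Or.inr (Or.inl (by simpa using this))
    · rintro (rfl | rfl | rfl)
      · exact hs₂
      · exact hs₃
      · exact hs₄
  have hval : ∀ (χ : IrrCharacter G) (w : G), orderOf w = 2 → (χ : G → ℂ) w = a χ := by
    intro χ w hw
    obtain ⟨c, hc⟩ := isConj_iff.1 (hone z w hz hw)
    rw [← hc, IsCharacter.isClassFunction (IsIrrCharacter.isCharacter χ.2), ha χ]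
  have hmod : ∀ χ : IrrCharacter G, (4 : ℤ) ∣ (charDegree (χ : G → ℂ) : ℤ) + 3 * a χ := fun χ =>
    degree_mod_four P hcard hsq hz hone χ (ha χ)
  have hnotone : ∀ χ ∈ S, (χ : G → ℂ) ≠ (fun _ => 1) := by
    intro χ hχ h
    exact (Finset.mem_filter.1 hχ).2.2 (Subtype.ext h)
  have hε := hsign s₃ hs₃
  refine ⟨s₂, s₃, s₄, a s₃, hε, hnotone s₂ hs₂, hnotone s₃ hs₃, Ne.symm hs₃2, hs₂₄, hs₃4, ?_, ?_, ?_, ?_, ?_, ?_⟩
  · ext χ
    simp only [Set.mem_ofPred_eq]
    constructor
    · intro hχ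
      by_cases h1 : χ = oneIrr G
      · left
        rw [h1]
        rfl
      · right
        have : χ ∈ S := Finset.mem_filter.2 ⟨Finset.mem_univ _, hχ, h1⟩
        rw [hSeq] at this
        simpa using this
    · have hSB : ∀ χ ∈ S, χ ∈ B₀ := fun χ hχ => (Finset.mem_filter.1 hχ).2.1
      rintro (h | rfl | rfl | rfl)
      · have : χ = oneIrr G := Subtype.ext h
        rw [this]
        exact hoB
      · exact hSB _ hs₂
      · exact hSB _ hs₃
      · exact hSB _ hs₄
  · intro w hw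
    refine ⟨?_, ?_, ?_⟩
    · rw [hval s₂ w hw, hs₂a]
      simp
    · rw [hval s₃ w hw]
    · rw [hval s₄ w hw, hs₄a]
      simp
  · have := hmod s₂
    rw [hs₂a] at this
    have e : (charDegree (s₂ : G → ℂ) : ℤ) - 1 = (charDegree (s₂ : G → ℂ) : ℤ) + 3 * 1 - 4 := by ring
    rw [e]
    exact Int.dvd_sub this (dvd_refl 4)
  · have := hmod s₃
    have e : (charDegree (s₃ : G → ℂ) : ℤ) - a s₃ = (charDegree (s₃ : G → ℂ) : ℤ) + 3 * a s₃ - 4 * a s₃ := by ring
    rw [e]
    exact Int.dvd_sub this (dvd_mul_right 4 _)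
  · have := hmod s₄
    rw [hs₄a] at this
    have e : (charDegree (s₄ : G → ℂ) : ℤ) + 1 = (charDegree (s₄ : G → ℂ) : ℤ) + 3 * (-1) + 4 := by ring
    rw [e]
    exact dvd_add this (dvd_refl 4)
  · intro y hy
    have hyreg : ¬ 2 ∣ orderOf y := by
      rw [← even_iff_two_dvd, Nat.not_even_iff_odd]
      exact hy
    have h1 := sum_block_eq_zero hM hU hyreg hzsing
    rw [sum_block_split B₀ (oneIrr G) hoB, ← hS, hSeq, Finset.sum_insert, Finset.sum_insert, Finset.sum_singleton] at h1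
    · simp only [oneIrr_coe, ha s₂, ha s₃, ha s₄, hs₂a, hs₄a, map_one, one_mul] at h1
      have hc3 : conj ((a s₃ : ℤ) : ℂ) = ((a s₃ : ℤ) : ℂ) := by simp
      rw [hc3] at h1
      simp only [Int.cast_one, Int.cast_neg, map_one, map_neg, one_mul, neg_mul] at h1
      linear_combination h1
    · simpa using hs₃4
    · simp only [Finset.mem_insert, Finset.mem_singleton, not_or]
      exact ⟨Ne.symm hs₃2, hs₂₄⟩

end Main

end Cfsg.Agent.Lib.Block
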