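import Cfsg.Agent.Lib.BPair.GalFix2
import Cfsg.Agent.Lib.BPair.NormalCase
import Cfsg.Agent.Lib.Block.CentralDefect3
import Cfsg.Agent.Lib.Block.Kernel
import Cfsg.Agent.Lib.Block.DefectZero

/-!
# Blocks with a normal defect group

If `D` is a normal defect group of the block `B`, the coefficient of `1` in the idempotent of `B` has exact `p`-part
`p^(a-d)`.
-/

set_option autoImplicit false
set_option linter.unusedSectionVars false
set_option linter.unusedSimpArgs false
set_option linter.unusedVariables false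
set_option linter.style.haveILetI false

open scoped ComplexConjugate
open Cfsg MonoidAlgebra
open Cfsg.Agent.Lib.Char

namespace Cfsg.Agent.Lib.Block

section ND

variable {G : Type*} [Group G] [Fintype G] {p : ℕ} [hp : Fact p.Prime] {M : Ideal AlgInt}

open Classical in
/-- The sum of the elements of a subgroup. -/
noncomputable def normSum (D : Subgroup G) : MonoidAlgebra ℂ G := ofFun (fun g => if g ∈ D then 1 else 0)

open Classical in
theorem coeff_normSum (D : Subgroup G) (g : G) : (normSum D).coeff g = if g ∈ D then 1 else 0 := coeff_ofFun _ _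

theorem isCentralElt_normSum (D : Subgroup G) [hD : D.Normal] : IsCentralElt (normSum D) := by
  classical
  intro x g
  rw [coeff_normSum, coeff_normSum]
  by_cases h : g ∈ D
  · rw [if_pos h, if_pos (hD.conj_mem g h x)]
  · rw [if_neg h, if_neg]
    intro h1
    apply h
    have := hD.conj_mem _ h1 x⁻¹
    simpa [mul_assoc] using this

/-- The trace on the sum of a subgroup. -/
theorem tr_normSum (D : Subgroup G) [Fintype D] (φ : G → ℂ) : tr φ (normSum D) = ∑ u : D, φ u := by
  classical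
  unfold tr
  simp only [coeff_normSum, ite_mul, one_mul, zero_mul]
  rw [← Finset.sum_filter]
  exact Finset.sum_subtype (p := (· ∈ D)) (Finset.univ.filter (· ∈ D)) (by simp) φ

theorem om_normSum_of_ker (D : Subgroup G) [Fintype D] (χ : IrrCharacter G) (h : ∀ u ∈ D, (χ : G → ℂ) u = (χ : G → ℂ) 1) :
    om (χ : G → ℂ) (normSum D) = (Nat.card D : ℂ) := by
  classical
  unfold om
  rw [tr_normSum]
  have h1 : ∀ u : D, (χ : G → ℂ) u = (χ : G → ℂ) 1 := fun u => h u u.2
  simp only [h1]
  rw [Finset.sum_const, Finset.card_univ, nsmul_eq_mul, Nat.card_eq_fintype_card, mul_div_assoc,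
    div_self (isIrr_one_ne_zero χ.2), mul_one]

theorem sum_eq_zero_of_not_ker (D : Subgroup G) [hD : D.Normal] [Fintype D] (χ : IrrCharacter G)
    (h : ¬ ∀ u ∈ D, (χ : G → ℂ) u = (χ : G → ℂ) 1) : ∑ u : D, (χ : G → ℂ) u = 0 := by
  classical
  have h1 := (not_iff_not.2 (classInner_one_iff D χ)).2 h
  rw [not_not, classInner_def] at h1
  have h2 : (Nat.card D : ℂ)⁻¹ ≠ 0 := inv_ne_zero (Nat.cast_ne_zero.2 Nat.card_pos.ne')
  have h3 := (mul_eq_zero.1 h1).resolve_left h2
  simpa [oneIrr_coe] using h3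

theorem om_normSum_of_not_ker (D : Subgroup G) [hD : D.Normal] [Fintype D] (χ : IrrCharacter G)
    (h : ¬ ∀ u ∈ D, (χ : G → ℂ) u = (χ : G → ℂ) 1) : om (χ : G → ℂ) (normSum D) = 0 := by
  unfold om
  rw [tr_normSum, sum_eq_zero_of_not_ker D χ h, zero_div]

/-- `incl` of the sum of a subgroup of `H`. -/
theorem incl_normSum {H : Subgroup G} [Fintype H] {D : Subgroup G} (hDH : D ≤ H) :
    incl H (normSum (D.subgroupOf H)) = normSum D := by
  classical
  apply ext_coeff
  intro g
  by_cases hg : g ∈ H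
  · have h1 := coeff_incl_coe H (normSum (D.subgroupOf H)) ⟨g, hg⟩
    change (incl H (normSum (D.subgroupOf H))).coeff g = _ at h1
    rw [h1, coeff_normSum, coeff_normSum]
    simp only [Subgroup.mem_subgroupOf]
  · rw [coeff_incl_of_notMem H _ hg, coeff_normSum, if_neg fun h => hg (hDH h)]

/-- A constituent has `D` in its kernel if and only if the character has. -/
theorem ker_iff_of_constituent {H : Subgroup G} [H.Normal] [Fintype H] {D : Subgroup G} [hD : D.Normal] [Fintype D]
    (hDH : D ≤ H) (χ : IrrCharacter G) (θ : IrrCharacter H)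
    (hc : classInner (fun n : H => (χ : G → ℂ) n) (θ : H → ℂ) ≠ 0) :
    (∀ u ∈ D, (χ : G → ℂ) u = (χ : G → ℂ) 1) ↔ ∀ u ∈ D.subgroupOf H, (θ : H → ℂ) u = (θ : H → ℂ) 1 := by
  classical
  haveI : (D.subgroupOf H).Normal := Subgroup.Normal.subgroupOf hD H
  haveI : Fintype (D.subgroupOf H) := Fintype.ofFinite _
  have hz : IsCentralElt (incl H (normSum (D.subgroupOf H))) := by
    rw [incl_normSum hDH]
    exact isCentralElt_normSum D
  have e := om_incl_of_constituent H χ θ hc hz
  rw [incl_normSum hDH] at e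
  have hD0 : (Nat.card D : ℂ) ≠ 0 := Nat.cast_ne_zero.2 Nat.card_pos.ne'
  have hD0' : (Nat.card (D.subgroupOf H) : ℂ) ≠ 0 := Nat.cast_ne_zero.2 Nat.card_pos.ne'
  constructor
  · intro h
    by_contra hcon
    rw [om_normSum_of_ker D χ h, om_normSum_of_not_ker _ θ hcon] at e
    exact hD0 e
  · intro h
    by_contra hcon
    rw [om_normSum_of_not_ker D χ hcon, om_normSum_of_ker _ θ h] at e
    exact hD0' e.symm

theorem incl_resAlg_eq_of_support' {T : Subgroup G} [Fintype T] {z : MonoidAlgebra ℂ G} (h : ∀ g, g ∉ T → z.coeff g = 0) :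
    incl T (resAlg T z) = z := by
  apply ext_coeff
  intro g
  by_cases hg : g ∈ T
  · have := coeff_incl_coe T (resAlg T z) ⟨g, hg⟩
    simp only at this
    rw [this, coeff_resAlg]
  · rw [coeff_incl_of_notMem _ _ hg, h g hg]

/-- Characters over the same character of a normal subgroup containing `C_G(D)` lie in the same block. -/
theorem sameBlock_of_common_constituent (hM : IsPModular p M) {D : Subgroup G} [hDn : D.Normal] (hDp : IsPGroup p D)
    {H : Subgroup G} [hHn : H.Normal] [Fintype H] (hCH : Subgroup.centralizer (D : Set G) ≤ H) {θ : IrrCharacter H}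
    {χ χ' : IrrCharacter G} (h : classInner (fun n : H => (χ : G → ℂ) n) (θ : H → ℂ) ≠ 0)
    (h' : classInner (fun n : H => (χ' : G → ℂ) n) (θ : H → ℂ) ≠ 0) : SameBlock M (χ : G → ℂ) (χ' : G → ℂ) := by
  classical
  have := isPModular_isPrime hM
  apply Cfsg.Agent.Lib.BPair.sameBlock_of_regular hM
  intro x hx
  by_cases hxC : x ∈ Subgroup.centralizer (D : Set G)
  · have hsup : ∀ g, g ∉ H → (classSum x).coeff g = 0 := by
      intro g hg
      rw [coeff_classSum, if_neg]
      intro hc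
      obtain ⟨t, rfl⟩ := isConj_iff.1 hc
      exact hg (hCH (Subgroup.Normal.conj_mem inferInstance _ hxC t))
    have hw : incl H (resAlg H (classSum x)) = classSum x := incl_resAlg_eq_of_support' hsup
    have hz : IsCentralElt (incl H (resAlg H (classSum x))) := by
      rw [hw]
      exact isCentralElt_classSum x
    have e1 := om_incl_of_constituent H χ θ h hz
    have e2 := om_incl_of_constituent H χ' θ h' hz
    rw [hw, om_classSum (IsCharacter.isClassFunction (IsIrrCharacter.isCharacter χ.2))] at e1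
    rw [hw, om_classSum (IsCharacter.isClassFunction (IsIrrCharacter.isCharacter χ'.2))] at e2
    rw [e1, e2, sub_self]
    exact memLocalIdeal_zero
  · have h1 : MemLocalIdeal M (centralChar (χ : G → ℂ) x) := by
      by_contra hc
      exact hxC (mem_centralizer_of_not_memLocalIdeal hM D hDp χ.2 hc)
    have h2 : MemLocalIdeal M (centralChar (χ' : G → ℂ) x) := by
      by_contra hc
      exact hxC (mem_centralizer_of_not_memLocalIdeal hM D hDp χ'.2 hc)
    exact memLocalIdeal_sub h1 h2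

/-- Frobenius reciprocity at `1`. -/
theorem sum_mult_deg (H : Subgroup G) [Fintype H] (θ : IrrCharacter H) (e : IrrCharacter G → ℕ)
    (he : ∀ χ : IrrCharacter G, classInner (fun n : H => (χ : G → ℂ) n) (θ : H → ℂ) = e χ) :
    ∑ χ : IrrCharacter G, e χ * charDegree (χ : G → ℂ) = H.index * charDegree (θ : H → ℂ) := by
  classical
  have h1 := congrFun (classFunction_eq_sum (indFun H (θ : H → ℂ)) (indFun_isClassFunction H _)) 1
  rw [Finset.sum_apply] at h1
  have h2 : ∀ χ : IrrCharacter G, classInner (indFun H (θ : H → ℂ)) (χ : G → ℂ) = e χ := by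
    intro χ
    rw [frobenius_reciprocity H _ _ (IsCharacter.isClassFunction (IsIrrCharacter.isCharacter χ.2)),
      ← conj_classInner, he, Complex.conj_natCast]
  have h3 : indFun H (θ : H → ℂ) 1 = (H.index : ℂ) * (charDegree (θ : H → ℂ) : ℂ) := by
    rw [indFun_apply]
    have h4 : ∀ x : G, extendByZero H (θ : H → ℂ) (x⁻¹ * 1 * x) = (θ : H → ℂ) 1 := by
      intro x
      have h5 : x⁻¹ * 1 * x = 1 := by group
      rw [h5, extendByZero_of_mem _ _ H.one_mem]
      rfl
    simp only [h4]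
    rw [Finset.sum_const, Finset.card_univ, nsmul_eq_mul, map_one_eq_charDegree (IsIrrCharacter.isCharacter θ.2),
      ← Nat.card_eq_fintype_card]
    have h6 : (Nat.card G : ℂ) = (H.index : ℂ) * (Nat.card H : ℂ) := by
      have := H.index_mul_card
      exact_mod_cast this.symm
    have h7 : (Nat.card H : ℂ) ≠ 0 := Nat.cast_ne_zero.2 Nat.card_pos.ne'
    rw [h6]
    field_simp
  rw [h3] at h1
  have h4 : ((∑ χ : IrrCharacter G, e χ * charDegree (χ : G → ℂ) : ℕ) : ℂ) = ((H.index * charDegree (θ : H → ℂ) : ℕ) : ℂ) := by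
    push_cast
    rw [h1]
    refine Finset.sum_congr rfl fun χ _ => ?_
    rw [Pi.smul_apply, h2, smul_eq_mul, map_one_eq_charDegree (IsIrrCharacter.isCharacter χ.2)]
  exact_mod_cast h4

/-- The arithmetic behind the exact `p`-part. -/
theorem numerics_aux {ι : Type*} (O : Finset ι) (e : ι → ℕ) {m dθ I A : ℕ} (hO : O.Nonempty) (he : ∀ i ∈ O, e i ≠ 0)
    (hm0 : m ≠ 0) (hsum : m * ∑ i ∈ O, e i ^ 2 = I) (hI : I ≠ 0)
    (hA : ∀ i ∈ O, (e i).factorization p + m.factorization p + dθ.factorization p = A)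
    (hθ : dθ.factorization p + I.factorization p ≤ A) :
    ¬ p ∣ ∑ i ∈ O, e i ^ 2 ∧ m.factorization p = I.factorization p ∧ dθ.factorization p + I.factorization p = A := by
  classical
  obtain ⟨i₀, hi₀⟩ := hO
  obtain ⟨s, hs⟩ : ∃ s, s = (e i₀).factorization p := ⟨_, rfl⟩
  have hes : ∀ i ∈ O, (e i).factorization p = s := by
    intro i hi
    have h1 := hA i hi
    have h2 := hA i₀ hi₀
    omega
  have hS0 : ∑ i ∈ O, e i ^ 2 ≠ 0 := by
    intro h
    rw [h, mul_zero] at hsum
    exact hI hsum.symm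
  have hdvd : p ^ (2 * s) ∣ ∑ i ∈ O, e i ^ 2 := by
    refine Finset.dvd_sum fun i hi => ?_
    have h1 : p ^ s ∣ e i := by
      rw [← hes i hi]
      exact Nat.ordProj_dvd _ _
    rw [mul_comm, pow_mul]
    exact pow_dvd_pow_of_dvd h1 2
  have hle : 2 * s ≤ (∑ i ∈ O, e i ^ 2).factorization p := (hp.out.pow_dvd_iff_le_factorization hS0).1 hdvd
  have hI' : I.factorization p = m.factorization p + (∑ i ∈ O, e i ^ 2).factorization p := by
    rw [← hsum, Nat.factorization_mul hm0 hS0, Finsupp.add_apply]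
  have h1 := hA i₀ hi₀
  rw [← hs] at h1
  have hs0 : s = 0 := by omega
  have hv0 : (∑ i ∈ O, e i ^ 2).factorization p = 0 := by omega
  refine ⟨?_, by omega, by omega⟩
  intro h
  have := hp.out.factorization_pos_of_dvd hS0 h
  omega

/-- Uniqueness of a character with `P` in the kernel in a block when its degree is large. -/
theorem eq_of_sameBlock_of_ker {L : Type*} [Group L] [Fintype L] {P : Subgroup L} [hPn : P.Normal] [Fintype (L ⧸ P)]
    (hM : IsPModular p M) (hP : IsPGroup p P)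
    (hC : ∀ g : L, ¬ p ∣ orderOf g → g ∈ Subgroup.centralizer (P : Set L)) {θ θ' : IrrCharacter L}
    (hk : ∀ u ∈ P, (θ : L → ℂ) u = (θ : L → ℂ) 1) (hk' : ∀ u ∈ P, (θ' : L → ℂ) u = (θ' : L → ℂ) 1)
    (hs : SameBlock M (θ : L → ℂ) (θ' : L → ℂ))
    (hdeg : (charDegree (θ : L → ℂ)).factorization p = P.index.factorization p) : θ = θ' := by
  classical
  obtain ⟨ψ, rfl⟩ := Cfsg.Agent.Lib.Degree.exists_inflate P hk
  obtain ⟨ψ', rfl⟩ := Cfsg.Agent.Lib.Degree.exists_inflate P hk'
  have h2 : SameBlock M (ψ : L ⧸ P → ℂ) (ψ' : L ⧸ P → ℂ) := sameBlock_of_sameBlock_inflate_reg hM hP hC hs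
  have h3 : blockOf M (ψ : L ⧸ P → ℂ) = {ψ} := by
    apply blockOf_eq_singleton_of_not_dvd hM
    rw [not_dvd_card_div_iff hp.out (charDegree_dvd_card ψ.2),
      hp.out.pow_dvd_iff_le_factorization (charDegree_pos_of_irr ψ.2).ne']
    have h4 : charDegree ((Cfsg.Agent.Lib.Degree.inflate P ψ : IrrCharacter L) : L → ℂ) =
        charDegree (ψ : L ⧸ P → ℂ) := rfl
    rw [h4] at hdeg
    rw [hdeg, Subgroup.index_eq_card]
  have h4 : ψ' ∈ blockOf M (ψ : L ⧸ P → ℂ) := h2
  rw [h3, Set.mem_singleton_iff] at h4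
  rw [h4]

/-- The numerics for a character of `D ⊔ C_G(D)` below a member of the block. -/
theorem numerics_main (hM : IsPModular p M) {D : Subgroup G} [hDn : D.Normal] [Fintype D] (hDp : IsPGroup p D)
    {B : Set (IrrCharacter G)} (hB : IsPBlock M B) (hD : IsDefectGroup p M B D)
    {H : Subgroup G} [hHn : H.Normal] [Fintype H] (hDH : D ≤ H) (hCH : Subgroup.centralizer (D : Set G) ≤ H)
    (θ : IrrCharacter H) {χ₁ : IrrCharacter G} (hχ₁ : χ₁ ∈ B) (hk : ∀ u ∈ D, (χ₁ : G → ℂ) u = (χ₁ : G → ℂ) 1)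
    (hc : classInner (fun n : H => (χ₁ : G → ℂ) n) (θ : H → ℂ) ≠ 0)
    (e : IrrCharacter G → ℕ) (he : ∀ χ : IrrCharacter G, classInner (fun n : H => (χ : G → ℂ) n) (θ : H → ℂ) = e χ) :
    (∀ χ : IrrCharacter G, e χ ≠ 0 → χ ∈ B ∧ ∀ u ∈ D, (χ : G → ℂ) u = (χ : G → ℂ) 1) ∧
    (∀ χ : IrrCharacter G, e χ ≠ 0 → charDegree (χ : G → ℂ) = e χ * (inertia hHn (θ : H → ℂ)).index * charDegree (θ : H → ℂ)) ∧
    ¬ p ∣ ∑ χ ∈ Finset.univ.filter (fun χ : IrrCharacter G => e χ ≠ 0), e χ ^ 2 ∧
    (inertia hHn (θ : H → ℂ)).index.factorization p = H.index.factorization p ∧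
    (charDegree (θ : H → ℂ)).factorization p + H.index.factorization p = D.index.factorization p := by
  classical
  have := isPModular_isPrime hM
  have hθk : ∀ u ∈ D.subgroupOf H, (θ : H → ℂ) u = (θ : H → ℂ) 1 := (ker_iff_of_constituent hDH χ₁ θ hc).1 hk
  have hmem : ∀ χ : IrrCharacter G, e χ ≠ 0 → χ ∈ B ∧ ∀ u ∈ D, (χ : G → ℂ) u = (χ : G → ℂ) 1 := by
    intro χ hχ
    have hcχ : classInner (fun n : H => (χ : G → ℂ) n) (θ : H → ℂ) ≠ 0 := by
      rw [he]
      exact_mod_cast hχ
    constructor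
    · by_contra hcon
      exact isBlockUnion_of_isPBlock hB χ₁ hχ₁ χ hcon (sameBlock_of_common_constituent hM hDp hCH hc hcχ)
    · exact (ker_iff_of_constituent hDH χ θ hcχ).2 hθk
  have hdeg : ∀ χ : IrrCharacter G, e χ ≠ 0 →
      charDegree (χ : G → ℂ) = e χ * (inertia hHn (θ : H → ℂ)).index * charDegree (θ : H → ℂ) := fun χ hχ =>
    clifford_degree hHn χ.2 θ.2 (he χ) hχ
  refine ⟨hmem, hdeg, ?_⟩
  obtain ⟨O, hO⟩ : ∃ O, O = Finset.univ.filter (fun χ : IrrCharacter G => e χ ≠ 0) := ⟨_, rfl⟩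
  rw [← hO]
  obtain ⟨m, hm⟩ : ∃ m, m = (inertia hHn (θ : H → ℂ)).index := ⟨_, rfl⟩
  rw [← hm] at hdeg ⊢
  have hm0 : m ≠ 0 := by
    rw [hm]
    exact Subgroup.index_ne_zero_of_finite
  have hd0 : charDegree (θ : H → ℂ) ≠ 0 := (charDegree_pos_of_irr θ.2).ne'
  have hI0 : H.index ≠ 0 := Subgroup.index_ne_zero_of_finite
  have hmemO : ∀ χ, χ ∈ O ↔ e χ ≠ 0 := by
    intro χ
    rw [hO]
    simp
  have hsum : m * ∑ χ ∈ O, e χ ^ 2 = H.index := by
    have h1 := sum_mult_deg H θ e he
    have h2 : ∑ χ : IrrCharacter G, e χ * charDegree (χ : G → ℂ) =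
        ∑ χ ∈ O, e χ * (e χ * m * charDegree (θ : H → ℂ)) := by
      rw [hO, Finset.sum_filter]
      refine Finset.sum_congr rfl fun χ _ => ?_
      by_cases hχ : e χ = 0
      · simp [hχ]
      · rw [if_pos hχ, hdeg χ hχ]
    rw [h2] at h1
    have h3 : ∑ χ ∈ O, e χ * (e χ * m * charDegree (θ : H → ℂ)) =
        (m * ∑ χ ∈ O, e χ ^ 2) * charDegree (θ : H → ℂ) := by
      rw [Finset.mul_sum, Finset.sum_mul]
      refine Finset.sum_congr rfl fun χ _ => ?_
      ring
    rw [h3] at h1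
    exact Nat.eq_of_mul_eq_mul_right (Nat.pos_of_ne_zero hd0) h1
  have hA : ∀ χ ∈ O, (e χ).factorization p + m.factorization p + (charDegree (θ : H → ℂ)).factorization p =
      D.index.factorization p := by
    intro χ hχ
    have hχ' := (hmemO χ).1 hχ
    obtain ⟨h1, h2⟩ := hmem χ hχ'
    have h3 := factorization_degree_eq hM hD h1 h2
    rw [hdeg χ hχ', Nat.factorization_mul (mul_ne_zero hχ' hm0) hd0, Nat.factorization_mul hχ' hm0,
      Finsupp.add_apply, Finsupp.add_apply] at h3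
    exact h3
  have hθbound : (charDegree (θ : H → ℂ)).factorization p + H.index.factorization p ≤ D.index.factorization p := by
    haveI : (D.subgroupOf H).Normal := Subgroup.Normal.subgroupOf hDn H
    obtain ⟨ψ, hψ⟩ := Cfsg.Agent.Lib.Degree.exists_inflate (D.subgroupOf H) (χ := θ) hθk
    have h1 : charDegree (θ : H → ℂ) = charDegree (ψ : H ⧸ D.subgroupOf H → ℂ) := by
      rw [← hψ]
      rfl
    have h2 : charDegree (ψ : H ⧸ D.subgroupOf H → ℂ) ∣ Nat.card (H ⧸ D.subgroupOf H) := by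
      haveI : Fintype (H ⧸ D.subgroupOf H) := Fintype.ofFinite _
      exact charDegree_dvd_card ψ.2
    have h3 : (D.subgroupOf H).index = Nat.card (H ⧸ D.subgroupOf H) := Subgroup.index_eq_card _
    have h4 : D.relIndex H * H.index = D.index := Subgroup.relIndex_mul_index hDH
    have h5 : (D.subgroupOf H).index ≠ 0 := Subgroup.index_ne_zero_of_finite
    have h6 : (charDegree (θ : H → ℂ)).factorization p ≤ (D.subgroupOf H).index.factorization p := by
      rw [h1, h3]
      exact (Nat.factorization_le_iff_dvd (charDegree_pos_of_irr ψ.2).ne' (by rw [← h3]; exact h5)).2 h2 p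
    have h5' : D.relIndex H ≠ 0 := h5
    rw [← h4, Nat.factorization_mul h5' hI0, Finsupp.add_apply]
    change _ ≤ (D.subgroupOf H).index.factorization p + _
    omega
  exact numerics_aux O e ⟨χ₁, (hmemO χ₁).2 (by
    intro h0
    apply hc
    rw [he, h0]
    simp)⟩ (fun χ hχ => (hmemO χ).1 hχ) hm0 hsum hI0 hA hθbound

/-- Blocks with a normal defect group: the coefficient of `1` of the block idempotent has exact `p`-part. -/
theorem blockCoeff_one_unit (hM : IsPModular p M) {D : Subgroup G} [hDn : D.Normal] (hDp : IsPGroup p D)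
    {B : Set (IrrCharacter G)} (hB : IsPBlock M B) (hD : IsDefectGroup p M B D) :
    MemLocalRing M (blockCoeff B 1 / ((p ^ D.index.factorization p : ℕ) : ℂ)) ∧
      ¬ MemLocalIdeal M (blockCoeff B 1 / ((p ^ D.index.factorization p : ℕ) : ℂ)) := by
  classical
  have := isPModular_isPrime hM
  haveI : Fintype D := Fintype.ofFinite _
  obtain ⟨H, hH⟩ : ∃ H : Subgroup G, H = D ⊔ Subgroup.centralizer (D : Set G) := ⟨_, rfl⟩
  haveI hHn : H.Normal := by
    rw [hH]
    infer_instance
  haveI : Fintype H := Fintype.ofFinite _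
  have hDH : D ≤ H := by
    rw [hH]
    exact le_sup_left
  have hCH : Subgroup.centralizer (D : Set G) ≤ H := by
    rw [hH]
    exact le_sup_right
  haveI hPn : (D.subgroupOf H).Normal := Subgroup.Normal.subgroupOf hDn H
  haveI : Fintype (H ⧸ D.subgroupOf H) := Fintype.ofFinite _
  have hPp : IsPGroup p (D.subgroupOf H) := hDp.comap_of_injective _ (Subgroup.subtype_injective _)
  have hCn : (Subgroup.centralizer (D : Set G)).Normal := inferInstance
  -- regular elements centralize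
  have hC : ∀ g : H, ¬ p ∣ orderOf g → g ∈ Subgroup.centralizer ((D.subgroupOf H : Subgroup H) : Set H) := by
    intro g hg
    haveI : ((Subgroup.centralizer (D : Set G)).subgroupOf H).Normal := Subgroup.Normal.subgroupOf hCn H
    have hidx : ∃ k : ℕ, ((Subgroup.centralizer (D : Set G)).subgroupOf H).index = p ^ k := by
      obtain ⟨n, hn⟩ := IsPGroup.iff_card.1 hDp
      have h1 : ((Subgroup.centralizer (D : Set G)).subgroupOf H).index = (Subgroup.centralizer (D : Set G)).relIndex D := by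
        change (Subgroup.centralizer (D : Set G)).relIndex H = _
        rw [hH]
        exact Subgroup.relIndex_sup_right _ _
      have h2 : (Subgroup.centralizer (D : Set G)).relIndex D ∣ p ^ n := by
        rw [← hn]
        exact Subgroup.relIndex_dvd_card _ _
      obtain ⟨k, -, hk⟩ := (Nat.dvd_prime_pow hp.out).1 h2
      exact ⟨k, by rw [h1, hk]⟩
    have h3 := mem_of_regular_of_index _ hidx hg
    rw [Subgroup.mem_subgroupOf] at h3
    rw [Subgroup.mem_centralizer_iff]
    intro u hu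
    apply Subtype.ext
    exact (Subgroup.mem_centralizer_iff.1 h3) _ hu
  -- the coefficient
  have hC1 : blockCoeff B 1 = (Nat.card G : ℂ)⁻¹ * ∑ χ : IrrCharacter G,
      if χ ∈ B ∧ ∀ u ∈ D, (χ : G → ℂ) u = (χ : G → ℂ) 1 then (Nat.card D : ℂ) * ((χ : G → ℂ) 1 * (χ : G → ℂ) 1) else 0 := by
    have hU := isBlockUnion_of_isPBlock hB
    have h1 : ∑ u : D, blockCoeff B ((u : G)⁻¹) = blockCoeff B 1 := by
      rw [Finset.sum_eq_single (1 : D)]
      · simp
      · intro u _ hu
        by_contra hne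
        have h2 := regular_of_blockCoeff_ne_zero hM hU hne
        rw [orderOf_inv] at h2
        obtain ⟨k, hk⟩ := IsPGroup.iff_orderOf.1 hDp u
        have hk0 : k ≠ 0 := by
          rintro rfl
          rw [pow_zero, orderOf_eq_one_iff] at hk
          exact hu hk
        apply h2
        rw [Subgroup.orderOf_coe, hk]
        exact dvd_pow_self p hk0
      · intro h
        exact absurd (Finset.mem_univ _) h
    rw [← h1]
    simp only [blockCoeff_eq_sum_inv, inv_inv]
    rw [← Finset.mul_sum, Finset.sum_comm]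
    congr 1
    refine Finset.sum_congr rfl fun χ _ => ?_
    by_cases hχ : χ ∈ B
    · simp only [hχ, if_true, true_and]
      rw [← Finset.mul_sum]
      by_cases hk : ∀ u ∈ D, (χ : G → ℂ) u = (χ : G → ℂ) 1
      · rw [if_pos hk]
        have h2 : ∀ u : D, (χ : G → ℂ) u = (χ : G → ℂ) 1 := fun u => hk u u.2
        simp only [h2]
        rw [Finset.sum_const, Finset.card_univ, nsmul_eq_mul, Nat.card_eq_fintype_card]
        ring
      · rw [if_neg hk, sum_eq_zero_of_not_ker D χ hk, mul_zero]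
    · simp [hχ]
  -- existence of a member with `D` in its kernel
  have hχdeg : ∀ χ : IrrCharacter G, (χ : G → ℂ) 1 = (charDegree (χ : G → ℂ) : ℂ) := fun χ =>
    map_one_eq_charDegree (IsIrrCharacter.isCharacter χ.2)
  have hexk : ∃ χ₀ ∈ B, ∀ u ∈ D, (χ₀ : G → ℂ) u = (χ₀ : G → ℂ) 1 := by
    by_contra hcon
    push Not at hcon
    have h1 : blockCoeff B 1 = 0 := by
      rw [hC1]
      convert mul_zero _
      apply Finset.sum_eq_zero
      intro χ _
      rw [if_neg]
      rintro ⟨h2, h3⟩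
      obtain ⟨u, hu, hu'⟩ := hcon χ h2
      exact hu' (h3 u hu)
    rw [blockCoeff_eq_sum_inv] at h1
    have h2 : (Nat.card G : ℂ)⁻¹ ≠ 0 := inv_ne_zero (Nat.cast_ne_zero.2 Nat.card_pos.ne')
    have h3 := (mul_eq_zero.1 h1).resolve_left h2
    have h4 : ((∑ χ : IrrCharacter G, if χ ∈ B then charDegree (χ : G → ℂ) * charDegree (χ : G → ℂ) else 0 : ℕ) : ℂ) = 0 := by
      rw [← h3]
      push_cast
      refine Finset.sum_congr rfl fun χ _ => ?_
      by_cases hχ : χ ∈ B
      · simp only [hχ, if_true, inv_one, hχdeg]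
      · simp [hχ]
    have h5 : (∑ χ : IrrCharacter G, if χ ∈ B then charDegree (χ : G → ℂ) * charDegree (χ : G → ℂ) else 0) = 0 := by
      exact_mod_cast h4
    obtain ⟨χ, hχ⟩ := IsPBlock_nonempty hB
    have h6 := (Finset.sum_eq_zero_iff.1 h5) χ (Finset.mem_univ _)
    rw [if_pos hχ] at h6
    have h7 := charDegree_pos_of_irr χ.2
    exact (Nat.mul_pos h7 h7).ne' h6
  obtain ⟨χ₀, hχ₀, hk₀⟩ := hexk
  obtain ⟨θ, hθ⟩ := exists_constituent H χ₀
  -- the multiplicities
  have hnat : ∀ (θ : IrrCharacter H) (χ : IrrCharacter G), ∃ n : ℕ, classInner (fun n : H => (χ : G → ℂ) n) (θ : H → ℂ) = n :=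
    fun θ χ => classInner_isCharacter_nat (IsCharacter.restrict H (IsIrrCharacter.isCharacter χ.2))
      (IsIrrCharacter.isCharacter θ.2)
  choose e he using hnat
  obtain ⟨hmem, hdeg, hS, hm, hdθ⟩ := numerics_main hM hDp hB hD hDH hCH θ hχ₀ hk₀ hθ (e θ) (he θ)
  have hDi0 : D.index ≠ 0 := Subgroup.index_ne_zero_of_finite
  -- the members of the block with `D` in the kernel are exactly the characters over `θ`
  have hover : ∀ χ : IrrCharacter G, χ ∈ B → (∀ u ∈ D, (χ : G → ℂ) u = (χ : G → ℂ) 1) → e θ χ ≠ 0 := by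
    intro χ hχ hk h0
    obtain ⟨θ₁, hθ₁⟩ := exists_constituent H χ
    have hU : IsBlockUnion M (sat H (blockOf M (θ : H → ℂ))) := isBlockUnion_sat H (isBlockUnion_of_isPBlock (isPBlock_blockOf θ))
    have hov : χ₀ ∈ overSet H (sat H (blockOf M (θ : H → ℂ))) :=
      ⟨θ, subset_sat H _ (mem_blockOf_self θ), hθ⟩
    have h1 := constituent_mem_of_sameBlock H (isStable_sat H _) hU (sameBlock_of_mem hB hχ₀ hχ) hov hθ₁
    obtain ⟨g, θ₂, hθ₂, rfl⟩ := h1
    rw [classInner_conjIrr] at hθ₁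
    have hkθ₂ := (ker_iff_of_constituent hDH χ θ₂ hθ₁).1 hk
    have hkθ := (ker_iff_of_constituent hDH χ₀ θ hθ).1 hk₀
    obtain ⟨-, -, -, -, hd2⟩ := numerics_main hM hDp hB hD hDH hCH θ₂ hχ hk hθ₁ (e θ₂) (he θ₂)
    have h4 : D.relIndex H * H.index = D.index := Subgroup.relIndex_mul_index hDH
    have h5 : (D.subgroupOf H).index ≠ 0 := Subgroup.index_ne_zero_of_finite
    have hI0 : H.index ≠ 0 := Subgroup.index_ne_zero_of_finite
    have h6 : (charDegree (θ₂ : H → ℂ)).factorization p = (D.subgroupOf H).index.factorization p := by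
      have h5' : D.relIndex H ≠ 0 := h5
      rw [← h4, Nat.factorization_mul h5' hI0, Finsupp.add_apply] at hd2
      change _ = (D.subgroupOf H).index.factorization p + _ at hd2
      omega
    have h7 : θ₂ = θ := eq_of_sameBlock_of_ker hM hPp hC hkθ₂ hkθ (sameBlock_symm hθ₂) h6
    subst h7
    apply hθ₁
    rw [he, h0]
    simp
  -- the final computation
  obtain ⟨O, hO⟩ : ∃ O, O = Finset.univ.filter (fun χ : IrrCharacter G => e θ χ ≠ 0) := ⟨_, rfl⟩
  rw [← hO] at hS
  obtain ⟨m, hmdef⟩ : ∃ m, m = (inertia hHn (θ : H → ℂ)).index := ⟨_, rfl⟩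
  rw [← hmdef] at hm
  simp only [← hmdef] at hdeg
  have hm0 : m ≠ 0 := by
    rw [hmdef]
    exact Subgroup.index_ne_zero_of_finite
  obtain ⟨dθ, hdθdef⟩ : ∃ dθ, dθ = charDegree (θ : H → ℂ) := ⟨_, rfl⟩
  rw [← hdθdef] at hdθ
  simp only [← hdθdef] at hdeg
  have hd0 : dθ ≠ 0 := by
    rw [hdθdef]
    exact (charDegree_pos_of_irr θ.2).ne'
  obtain ⟨S, hSdef⟩ : ∃ S, S = ∑ χ ∈ O, e θ χ ^ 2 := ⟨_, rfl⟩
  rw [← hSdef] at hS
  have hS0 : S ≠ 0 := by
    intro h
    apply hS
    rw [h]
    exact dvd_zero _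
  have hsumval : ∑ χ : IrrCharacter G, (if χ ∈ B ∧ ∀ u ∈ D, (χ : G → ℂ) u = (χ : G → ℂ) 1 then
      (Nat.card D : ℂ) * ((χ : G → ℂ) 1 * (χ : G → ℂ) 1) else 0) =
      ((Nat.card D * m ^ 2 * dθ ^ 2 * S : ℕ) : ℂ) := by
    have h1 : ∀ χ : IrrCharacter G, (if χ ∈ B ∧ ∀ u ∈ D, (χ : G → ℂ) u = (χ : G → ℂ) 1 then
        (Nat.card D : ℂ) * ((χ : G → ℂ) 1 * (χ : G → ℂ) 1) else 0) =
        if e θ χ ≠ 0 then ((Nat.card D * m ^ 2 * dθ ^ 2 * e θ χ ^ 2 : ℕ) : ℂ) else 0 := by
      intro χ
      by_cases hχ : e θ χ ≠ 0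
      · rw [if_pos (hmem χ hχ), if_pos hχ, hχdeg, hdeg χ hχ]
        push_cast
        ring
      · rw [if_neg hχ, if_neg]
        rintro ⟨h2, h3⟩
        exact hχ (hover χ h2 h3)
    simp only [h1]
    rw [← Finset.sum_filter, ← hO, hSdef, Finset.mul_sum]
    push_cast
    rfl
  have hvalue : blockCoeff B 1 / ((p ^ D.index.factorization p : ℕ) : ℂ) =
      ((Nat.card D * m ^ 2 * dθ ^ 2 * S : ℕ) : ℂ) / ((Nat.card G * p ^ D.index.factorization p : ℕ) : ℂ) := by
    rw [hC1, hsumval]
    have hG0 : (Nat.card G : ℂ) ≠ 0 := Nat.cast_ne_zero.2 Nat.card_pos.ne'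
    have hp0 : ((p ^ D.index.factorization p : ℕ) : ℂ) ≠ 0 := Nat.cast_ne_zero.2 (pow_ne_zero _ hp.out.ne_zero)
    rw [Nat.cast_mul (Nat.card G), div_eq_div_iff hp0 (mul_ne_zero hG0 hp0)]
    field_simp
  rw [hvalue]
  apply localUnit_natCast_div hM
  · exact mul_ne_zero (mul_ne_zero (mul_ne_zero Nat.card_pos.ne' (pow_ne_zero _ hm0)) (pow_ne_zero _ hd0)) hS0
  · exact mul_ne_zero Nat.card_pos.ne' (pow_ne_zero _ hp.out.ne_zero)
  · have hcard : (Nat.card G).factorization p = (Nat.card D).factorization p + D.index.factorization p := by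
      rw [← D.card_mul_index, Nat.factorization_mul Nat.card_pos.ne' hDi0, Finsupp.add_apply]
    rw [Nat.factorization_mul (mul_ne_zero (mul_ne_zero Nat.card_pos.ne' (pow_ne_zero _ hm0)) (pow_ne_zero _ hd0)) hS0,
      Nat.factorization_mul (mul_ne_zero Nat.card_pos.ne' (pow_ne_zero _ hm0)) (pow_ne_zero _ hd0),
      Nat.factorization_mul Nat.card_pos.ne' (pow_ne_zero _ hm0),
      Nat.factorization_mul Nat.card_pos.ne' (pow_ne_zero _ hp.out.ne_zero)]
    simp only [Finsupp.add_apply, Nat.factorization_pow, Finsupp.smul_apply, smul_eq_mul, hp.out.factorization_self,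
      Nat.factorization_eq_zero_of_not_dvd hS]
    rw [hcard, hm]
    omega


end ND

end Cfsg.Agent.Lib.Block
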