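import Cfsg.Agent.Lib.Degree.NCompl
import Cfsg.Agent.Lib.Coprime.TwoDegrees
import Cfsg.Agent.Lib.Char.Induced

/-!
# The sum of the squares of the odd degrees

Restriction multiplicities to a subgroup of odd index, and the comparison of the sums of squares of
odd degrees of a group and of a subgroup of odd index.
-/

set_option autoImplicit false
set_option linter.unusedSectionVars false
set_option linter.unusedVariables false

open scoped ComplexConjugate commutatorElement

namespace Cfsg.Agent.Lib.Block.OddSum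

open Cfsg Cfsg.Agent.Lib.Char Cfsg.Agent.Lib.Degree Cfsg.Agent.Lib.Block

section Degree

variable {N : Type*} [Group N] [Finite N] {p : ℕ} [hp : Fact p.Prime]

/-- The characters of degree prime to `p` of a group with a normal Sylow `p`-subgroup `A` are those
with `A′` in the kernel. -/
theorem not_dvd_iff_ker (A : Subgroup N) [hA : A.Normal] (hAp : IsPGroup p A) (hidx : ¬ p ∣ A.index)
    (θ : IrrCharacter N) :
    ¬ p ∣ charDegree (θ : N → ℂ) ↔ KerContains ⁅A, A⁆ (θ : N → ℂ) := by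
  constructor
  · intro h x hx
    rw [← A.map_subtype_commutator] at hx
    obtain ⟨y, hy, rfl⟩ := hx
    exact char_commutator_of_not_dvd A hAp θ h hy
  · intro h hd
    obtain ⟨ψ, rfl⟩ := exists_inflate _ h
    have h1 : charDegree ((inflate ⁅A, A⁆ ψ : IrrCharacter N) : N → ℂ) = charDegree (ψ : N ⧸ ⁅A, A⁆ → ℂ) := by
      unfold charDegree
      simp
    rw [h1] at hd
    let π : N →* N ⧸ ⁅A, A⁆ := QuotientGroup.mk' ⁅A, A⁆
    have hπ : Function.Surjective π := QuotientGroup.mk'_surjective _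
    haveI hn : (A.map π).Normal := hA.map π hπ
    have hcomm : ∀ a ∈ A.map π, ∀ b ∈ A.map π, a * b = b * a := by
      rintro _ ⟨u, hu, rfl⟩ _ ⟨v, hv, rfl⟩
      have h2 : (⁅u, v⁆ : N) ∈ ⁅A, A⁆ := Subgroup.commutator_mem_commutator hu hv
      have h3 : π (⁅u, v⁆ : N) = 1 := (QuotientGroup.eq_one_iff _).mpr h2
      rw [map_commutatorElement, commutatorElement_eq_one_iff_mul_comm] at h3
      exact h3
    have h4 := Cfsg.Agent.Lib.Coprime.charDegree_dvd_index_of_abelian ψ.2 (A.map π) hcomm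
    have h5 : (A.map π).index = A.index := by
      refine Subgroup.index_map_eq A hπ ?_
      have h6 : π.ker = ⁅A, A⁆ := QuotientGroup.ker_mk' _
      rw [h6]
      exact Subgroup.commutator_le_left A A
    rw [h5] at h4
    exact hidx (hd.trans h4)

/-- The sum of the squares of the degrees prime to `p`. -/
theorem sum_not_dvd_degree_sq [Fintype N] (A : Subgroup N) [hA : A.Normal] (hAp : IsPGroup p A)
    (hidx : ¬ p ∣ A.index) [DecidablePred (fun θ : IrrCharacter N => ¬ p ∣ charDegree (θ : N → ℂ))] :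
    ∑ θ ∈ Finset.univ.filter (fun θ : IrrCharacter N => ¬ p ∣ charDegree (θ : N → ℂ)),
      charDegree (θ : N → ℂ) ^ 2 = (⁅A, A⁆ : Subgroup N).index := by
  classical
  have h1 := sum_kerContains_degree_sq (G := N) ⁅A, A⁆
  have h2 : Finset.univ.filter (fun θ : IrrCharacter N => ¬ p ∣ charDegree (θ : N → ℂ)) =
      Finset.univ.filter (fun χ : IrrCharacter N => KerContains ⁅A, A⁆ (χ : N → ℂ)) := by
    ext θ
    simp only [Finset.mem_filter, Finset.mem_univ, true_and]
    exact not_dvd_iff_ker A hAp hidx θ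
  rw [h2]
  have h3 : ((∑ θ ∈ Finset.univ.filter (fun χ : IrrCharacter N => KerContains ⁅A, A⁆ (χ : N → ℂ)),
      charDegree (θ : N → ℂ) ^ 2 : ℕ) : ℂ) = ((⁅A, A⁆ : Subgroup N).index : ℂ) := by
    rw [← h1]
    push_cast
    refine Finset.sum_congr rfl fun θ _ => ?_
    rw [map_one_eq_charDegree (IsIrrCharacter.isCharacter θ.2)]
  exact_mod_cast h3

end Degree

section Mult

variable {G : Type*} [Group G] [Fintype G] (H : Subgroup G) [Fintype H]

/-- The multiplicity of an irreducible character of `H` in the restriction of one of `G`. -/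
noncomputable def mult (χ : IrrCharacter G) (γ : IrrCharacter H) : ℕ :=
  Classical.choose (classInner_isCharacter_nat (IsCharacter.restrict H (IsIrrCharacter.isCharacter χ.2))
    (IsIrrCharacter.isCharacter γ.2))

theorem mult_spec (χ : IrrCharacter G) (γ : IrrCharacter H) :
    classInner (fun h : H => (χ : G → ℂ) h) (γ : H → ℂ) = (mult H χ γ : ℂ) :=
  Classical.choose_spec (classInner_isCharacter_nat (IsCharacter.restrict H (IsIrrCharacter.isCharacter χ.2))
    (IsIrrCharacter.isCharacter γ.2))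

theorem restrict_eq_sum (χ : IrrCharacter G) :
    (fun h : H => (χ : G → ℂ) h) = ∑ γ : IrrCharacter H, (mult H χ γ : ℂ) • (γ : H → ℂ) := by
  classical
  conv_lhs => rw [classFunction_eq_sum (fun h : H => (χ : G → ℂ) h)
    (IsCharacter.isClassFunction (IsCharacter.restrict H (IsIrrCharacter.isCharacter χ.2)))]
  exact Finset.sum_congr rfl fun γ _ => by rw [mult_spec]

theorem degree_eq_sum (χ : IrrCharacter G) :
    charDegree (χ : G → ℂ) = ∑ γ : IrrCharacter H, mult H χ γ * charDegree (γ : H → ℂ) := by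
  classical
  have h1 := congrFun (restrict_eq_sum H χ) 1
  simp only [Finset.sum_apply, Pi.smul_apply, smul_eq_mul] at h1
  have h2 : ((charDegree (χ : G → ℂ) : ℕ) : ℂ) =
      ((∑ γ : IrrCharacter H, mult H χ γ * charDegree (γ : H → ℂ) : ℕ) : ℂ) := by
    rw [← map_one_eq_charDegree (IsIrrCharacter.isCharacter χ.2)]
    push_cast
    rw [show (χ : G → ℂ) 1 = (χ : G → ℂ) ((1 : H) : G) from rfl, h1]
    refine Finset.sum_congr rfl fun γ _ => ?_
    rw [map_one_eq_charDegree (IsIrrCharacter.isCharacter γ.2)]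
  exact_mod_cast h2

theorem sum_mult_degree (γ : IrrCharacter H) :
    ∑ χ : IrrCharacter G, mult H χ γ * charDegree (χ : G → ℂ) = H.index * charDegree (γ : H → ℂ) := by
  classical
  have hind := indFun_isClassFunction H (γ : H → ℂ)
  have h1 := congrFun (classFunction_eq_sum (indFun H (γ : H → ℂ)) hind) 1
  rw [indFun_one] at h1
  simp only [Finset.sum_apply, Pi.smul_apply, smul_eq_mul] at h1
  have h2 : ∀ χ : IrrCharacter G, classInner (indFun H (γ : H → ℂ)) (χ : G → ℂ) = (mult H χ γ : ℂ) := by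
    intro χ
    rw [frobenius_reciprocity H (γ : H → ℂ) (χ : G → ℂ)
      (IsCharacter.isClassFunction (IsIrrCharacter.isCharacter χ.2)), ← conj_classInner, mult_spec]
    simp
  have h3 : ((∑ χ : IrrCharacter G, mult H χ γ * charDegree (χ : G → ℂ) : ℕ) : ℂ) =
      ((H.index * charDegree (γ : H → ℂ) : ℕ) : ℂ) := by
    push_cast
    rw [← map_one_eq_charDegree (IsIrrCharacter.isCharacter γ.2), h1]
    refine Finset.sum_congr rfl fun χ _ => ?_
    rw [h2, map_one_eq_charDegree (IsIrrCharacter.isCharacter χ.2)]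
  exact_mod_cast h3

end Mult

section Compare

variable {G : Type*} [Group G] [Fintype G] (H : Subgroup G) [Fintype H]

open Classical in
/-- The odd-degree characters of `H` occurring with odd multiplicity in `χ`. -/
noncomputable def oddSet (χ : IrrCharacter G) : Finset (IrrCharacter H) :=
  Finset.univ.filter (fun γ => ¬ 2 ∣ charDegree (γ : H → ℂ) ∧ ¬ 2 ∣ mult H χ γ)

theorem sum_oddSet_le (χ : IrrCharacter G) :
    ∑ γ ∈ oddSet H χ, charDegree (γ : H → ℂ) ≤ charDegree (χ : G → ℂ) := by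
  classical
  rw [degree_eq_sum H χ]
  calc ∑ γ ∈ oddSet H χ, charDegree (γ : H → ℂ)
      ≤ ∑ γ ∈ oddSet H χ, mult H χ γ * charDegree (γ : H → ℂ) := by
        refine Finset.sum_le_sum fun γ hγ => ?_
        have h1 : ¬ 2 ∣ mult H χ γ := (Finset.mem_filter.mp hγ).2.2
        have h2 : 1 ≤ mult H χ γ := by
          rcases Nat.eq_zero_or_pos (mult H χ γ) with h | h
          · exact absurd (by simp [h]) h1
          · exact h
        exact Nat.le_mul_of_pos_left _ h2
    _ ≤ _ := Finset.sum_le_sum_of_subset (Finset.subset_univ _)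

theorem degree_le_of_mem_oddSet {χ : IrrCharacter G} {γ : IrrCharacter H} (hγ : γ ∈ oddSet H χ) :
    charDegree (γ : H → ℂ) ≤ charDegree (χ : G → ℂ) :=
  (Finset.single_le_sum (f := fun γ : IrrCharacter H => charDegree (γ : H → ℂ)) (fun _ _ => Nat.zero_le _) hγ).trans
    (sum_oddSet_le H χ)

theorem sum_oddSet_sq_le (χ : IrrCharacter G) :
    ∑ γ ∈ oddSet H χ, charDegree (γ : H → ℂ) ^ 2 ≤ charDegree (χ : G → ℂ) ^ 2 := by
  calc ∑ γ ∈ oddSet H χ, charDegree (γ : H → ℂ) ^ 2
      ≤ ∑ γ ∈ oddSet H χ, charDegree (γ : H → ℂ) * charDegree (χ : G → ℂ) := by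
        refine Finset.sum_le_sum fun γ hγ => ?_
        rw [pow_two]
        exact Nat.mul_le_mul_left _ (degree_le_of_mem_oddSet H hγ)
    _ = (∑ γ ∈ oddSet H χ, charDegree (γ : H → ℂ)) * charDegree (χ : G → ℂ) := by
        rw [Finset.sum_mul]
    _ ≤ charDegree (χ : G → ℂ) * charDegree (χ : G → ℂ) := Nat.mul_le_mul_right _ (sum_oddSet_le H χ)
    _ = _ := (pow_two _).symm

theorem degree_eq_of_sum_eq {χ : IrrCharacter G} {γ : IrrCharacter H}
    (h : ∑ γ ∈ oddSet H χ, charDegree (γ : H → ℂ) ^ 2 = charDegree (χ : G → ℂ) ^ 2)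
    (hγ : γ ∈ oddSet H χ) : charDegree (γ : H → ℂ) = charDegree (χ : G → ℂ) := by
  by_contra hne
  have hlt : charDegree (γ : H → ℂ) < charDegree (χ : G → ℂ) :=
    lt_of_le_of_ne (degree_le_of_mem_oddSet H hγ) hne
  have hpos : 0 < charDegree (γ : H → ℂ) := charDegree_pos_of_irr γ.2
  have h1 : ∑ γ ∈ oddSet H χ, charDegree (γ : H → ℂ) ^ 2 <
      ∑ γ ∈ oddSet H χ, charDegree (γ : H → ℂ) * charDegree (χ : G → ℂ) := by
    refine Finset.sum_lt_sum (fun δ hδ => ?_) ⟨γ, hγ, ?_⟩
    · rw [pow_two]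
      exact Nat.mul_le_mul_left _ (degree_le_of_mem_oddSet H hδ)
    · rw [pow_two]
      exact Nat.mul_lt_mul_of_pos_left hlt hpos
  have h2 : ∑ γ ∈ oddSet H χ, charDegree (γ : H → ℂ) * charDegree (χ : G → ℂ) ≤
      charDegree (χ : G → ℂ) ^ 2 := by
    rw [← Finset.sum_mul, pow_two]
    exact Nat.mul_le_mul_right _ (sum_oddSet_le H χ)
  omega

/-- A character of `H` occurring in the restriction of `χ` and of the same degree is the restriction. -/
theorem restrict_eq_of_degree_eq {χ : IrrCharacter G} {γ : IrrCharacter H} (hm : mult H χ γ ≠ 0)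
    (hd : charDegree (γ : H → ℂ) = charDegree (χ : G → ℂ)) (x : H) :
    (χ : G → ℂ) x = (γ : H → ℂ) x := by
  classical
  have h1 := degree_eq_sum H χ
  rw [← Finset.add_sum_erase _ _ (Finset.mem_univ γ), ← hd] at h1
  have hpos : 0 < charDegree (γ : H → ℂ) := charDegree_pos_of_irr γ.2
  have h2 : mult H χ γ = 1 ∧ ∑ δ ∈ Finset.univ.erase γ, mult H χ δ * charDegree (δ : H → ℂ) = 0 := by
    have hm1 : 1 ≤ mult H χ γ := Nat.one_le_iff_ne_zero.mpr hm
    have h3 : charDegree (γ : H → ℂ) ≤ mult H χ γ * charDegree (γ : H → ℂ) := Nat.le_mul_of_pos_left _ hm1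
    have h4 : mult H χ γ * charDegree (γ : H → ℂ) = charDegree (γ : H → ℂ) := by omega
    have h5 : mult H χ γ = 1 := by
      have := Nat.eq_of_mul_eq_mul_right hpos (h4.trans (one_mul _).symm)
      exact this
    exact ⟨h5, by omega⟩
  have h3 : ∀ δ ≠ γ, mult H χ δ = 0 := by
    intro δ hδ
    have h4 := (Finset.sum_eq_zero_iff.mp h2.2) δ (Finset.mem_erase.mpr ⟨hδ, Finset.mem_univ _⟩)
    have hposδ : 0 < charDegree (δ : H → ℂ) := charDegree_pos_of_irr δ.2
    rcases Nat.mul_eq_zero.mp h4 with h5 | h5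
    · exact h5
    · omega
  have h4 := congrFun (restrict_eq_sum H χ) x
  simp only [Finset.sum_apply, Pi.smul_apply, smul_eq_mul] at h4
  rw [h4, Finset.sum_eq_single γ]
  · rw [h2.1]
    simp
  · intro δ _ hδ
    rw [h3 δ hδ]
    simp
  · simp

open Classical in
/-- For an odd index subgroup, each odd-degree character of `H` occurs with odd multiplicity in an
odd-degree character of `G`. -/
theorem exists_odd_constituent (hH : ¬ 2 ∣ H.index) (γ : IrrCharacter H) (hγ : ¬ 2 ∣ charDegree (γ : H → ℂ)) :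
    ∃ χ : IrrCharacter G, ¬ 2 ∣ charDegree (χ : G → ℂ) ∧ γ ∈ oddSet H χ := by
  by_contra hcon
  push Not at hcon
  have h1 : 2 ∣ ∑ χ : IrrCharacter G, mult H χ γ * charDegree (χ : G → ℂ) := by
    refine Finset.dvd_sum fun χ _ => ?_
    by_cases h2 : 2 ∣ charDegree (χ : G → ℂ)
    · exact h2.mul_left _
    · have h3 := hcon χ h2
      have h4 : 2 ∣ mult H χ γ := by
        by_contra h5
        exact h3 (Finset.mem_filter.mpr ⟨Finset.mem_univ _, hγ, h5⟩)
      exact h4.mul_right _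
  rw [sum_mult_degree] at h1
  exact (Nat.Prime.dvd_mul Nat.prime_two).mp h1 |>.elim hH hγ

open Classical in
/-- The inequality for the sums of squares. -/
theorem sum_sq_le (hH : ¬ 2 ∣ H.index) :
    ∑ γ ∈ Finset.univ.filter (fun γ : IrrCharacter H => ¬ 2 ∣ charDegree (γ : H → ℂ)), charDegree (γ : H → ℂ) ^ 2 ≤
      ∑ χ ∈ Finset.univ.filter (fun χ : IrrCharacter G => ¬ 2 ∣ charDegree (χ : G → ℂ)),
        ∑ γ ∈ oddSet H χ, charDegree (γ : H → ℂ) ^ 2 := by
  have h1 : ∀ χ : IrrCharacter G, ∑ γ ∈ oddSet H χ, charDegree (γ : H → ℂ) ^ 2 =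
      ∑ γ ∈ Finset.univ.filter (fun γ : IrrCharacter H => ¬ 2 ∣ charDegree (γ : H → ℂ)),
        if γ ∈ oddSet H χ then charDegree (γ : H → ℂ) ^ 2 else 0 := by
    intro χ
    rw [← Finset.sum_filter]
    refine Finset.sum_congr ?_ fun _ _ => rfl
    ext γ
    simp only [oddSet, Finset.mem_filter, Finset.mem_univ, true_and]
    tauto
  simp only [h1]
  rw [Finset.sum_comm]
  refine Finset.sum_le_sum fun γ hγ => ?_
  obtain ⟨χ, hχ, hγχ⟩ := exists_odd_constituent H hH γ (Finset.mem_filter.mp hγ).2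
  have h2 := Finset.single_le_sum (f := fun χ : IrrCharacter G => if γ ∈ oddSet H χ then charDegree (γ : H → ℂ) ^ 2 else 0)
    (s := Finset.univ.filter (fun χ : IrrCharacter G => ¬ 2 ∣ charDegree (χ : G → ℂ)))
    (fun _ _ => Nat.zero_le _) (Finset.mem_filter.mpr ⟨Finset.mem_univ χ, hχ⟩)
  simp only [if_pos hγχ] at h2
  exact h2

open Classical in
theorem sum_sq_le' (hH : ¬ 2 ∣ H.index) :
    ∑ γ ∈ Finset.univ.filter (fun γ : IrrCharacter H => ¬ 2 ∣ charDegree (γ : H → ℂ)), charDegree (γ : H → ℂ) ^ 2 ≤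
      ∑ χ ∈ Finset.univ.filter (fun χ : IrrCharacter G => ¬ 2 ∣ charDegree (χ : G → ℂ)), charDegree (χ : G → ℂ) ^ 2 :=
  (sum_sq_le H hH).trans (Finset.sum_le_sum fun χ _ => sum_oddSet_sq_le H χ)

open Classical in
/-- In case of equality every odd-degree character of `H` is the restriction of an irreducible character. -/
theorem exists_extension_of_eq (hH : ¬ 2 ∣ H.index)
    (heq : ∑ γ ∈ Finset.univ.filter (fun γ : IrrCharacter H => ¬ 2 ∣ charDegree (γ : H → ℂ)), charDegree (γ : H → ℂ) ^ 2 =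
      ∑ χ ∈ Finset.univ.filter (fun χ : IrrCharacter G => ¬ 2 ∣ charDegree (χ : G → ℂ)), charDegree (χ : G → ℂ) ^ 2)
    (γ : IrrCharacter H) (hγ : ¬ 2 ∣ charDegree (γ : H → ℂ)) :
    ∃ χ : IrrCharacter G, ∀ x : H, (χ : G → ℂ) x = (γ : H → ℂ) x := by
  have h1 := sum_sq_le H hH
  have h2 : ∑ χ ∈ Finset.univ.filter (fun χ : IrrCharacter G => ¬ 2 ∣ charDegree (χ : G → ℂ)),
        ∑ γ ∈ oddSet H χ, charDegree (γ : H → ℂ) ^ 2 =
      ∑ χ ∈ Finset.univ.filter (fun χ : IrrCharacter G => ¬ 2 ∣ charDegree (χ : G → ℂ)), charDegree (χ : G → ℂ) ^ 2 :=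
    le_antisymm (Finset.sum_le_sum fun χ _ => sum_oddSet_sq_le H χ) (heq ▸ h1)
  have h3 := (Finset.sum_eq_sum_iff_of_le (fun χ _ => sum_oddSet_sq_le H χ)).mp h2
  obtain ⟨χ, hχ, hγχ⟩ := exists_odd_constituent H hH γ hγ
  have h4 := h3 χ (Finset.mem_filter.mpr ⟨Finset.mem_univ χ, hχ⟩)
  have h5 := degree_eq_of_sum_eq H h4 hγχ
  have hm : mult H χ γ ≠ 0 := by
    intro h0
    exact (Finset.mem_filter.mp hγχ).2.2 (by simp [h0])
  exact ⟨χ, fun x => restrict_eq_of_degree_eq H hm h5 x⟩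

end Compare

end Cfsg.Agent.Lib.Block.OddSum
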