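import Mathlib

/-!
# Rank of a matrix under a field homomorphism, and rank from a factorisation
-/

set_option autoImplicit false
set_option linter.unusedSectionVars false

namespace Cfsg.Agent.Lib.Block

open Matrix

variable {K k : Type*} [Field K] [Field k]

/-- A rank factorisation with one-sided inverses. -/
theorem exists_rank_factor {m n : Type*} [Fintype m] [Fintype n] [DecidableEq m] [DecidableEq n]
    (A : Matrix m n K) :
    ∃ (r : ℕ) (U : Matrix m (Fin r) K) (V : Matrix (Fin r) n K)
      (L : Matrix (Fin r) m K) (R : Matrix n (Fin r) K),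
      r = A.rank ∧ A = U * V ∧ L * U = 1 ∧ V * R = 1 := by
  classical
  let φ : (n → K) →ₗ[K] (m → K) := A.mulVecLin
  let W := LinearMap.range φ
  have hr : Module.finrank K W = A.rank := rfl
  have hr' : Module.finrank K W = Module.finrank K (Fin A.rank → K) := by
    rw [hr, Module.finrank_fin_fun]
  let e : W ≃ₗ[K] (Fin A.rank → K) := LinearEquiv.ofFinrankEq _ _ hr'
  let u : (Fin A.rank → K) →ₗ[K] (m → K) := W.subtype ∘ₗ e.symm.toLinearMap
  let v : (n → K) →ₗ[K] (Fin A.rank → K) := e.toLinearMap ∘ₗ φ.rangeRestrict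
  have huv : u ∘ₗ v = φ := by
    ext x
    simp [u, v]
  have hu : Function.Injective u := by
    intro a b hab
    simp only [u, LinearMap.comp_apply] at hab
    exact e.symm.injective (W.subtype_injective hab)
  have hv : Function.Surjective v := by
    intro a
    obtain ⟨x, hx⟩ := LinearMap.range_rangeRestrict φ ▸ (Submodule.mem_top : e.symm a ∈ (⊤ : Submodule K W))
    refine ⟨x, ?_⟩
    simp only [v, LinearMap.comp_apply]
    rw [hx]
    simp
  obtain ⟨g, hg⟩ := LinearMap.exists_leftInverse_of_injective u (LinearMap.ker_eq_bot.2 hu)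
  obtain ⟨h, hh⟩ := LinearMap.exists_rightInverse_of_surjective v (LinearMap.range_eq_top.2 hv)
  refine ⟨A.rank, LinearMap.toMatrix' u, LinearMap.toMatrix' v, LinearMap.toMatrix' g, LinearMap.toMatrix' h, rfl, ?_, ?_, ?_⟩
  · rw [← LinearMap.toMatrix'_comp, huv]
    change A = LinearMap.toMatrix' (A.mulVecLin)
    rw [← Matrix.toLin'_apply', LinearMap.toMatrix'_toLin']
  · rw [← LinearMap.toMatrix'_comp, hg, LinearMap.toMatrix'_id]
  · rw [← LinearMap.toMatrix'_comp, hh, LinearMap.toMatrix'_id]

/-- A factorisation through `β` and a two-sided sandwich computes the rank. -/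
theorem rank_eq_of_factor {ι β : Type*} [Fintype ι] [Fintype β] [DecidableEq ι] [DecidableEq β]
    (N : Matrix ι ι k) (U : Matrix ι β k) (V : Matrix β ι k) (L : Matrix β ι k) (R : Matrix ι β k)
    (h : N = U * V) (hL : L * U = 1) (hR : V * R = 1) : N.rank = Fintype.card β := by
  apply le_antisymm
  · rw [h]
    refine (Matrix.rank_mul_le_right U V).trans ?_
    exact Matrix.rank_le_card_height V
  · have h1 : L * N * R = 1 := by
      rw [h, Matrix.mul_assoc, Matrix.mul_assoc, hR, Matrix.mul_one, hL]
    have h2 : (1 : Matrix β β k).rank = Fintype.card β := Matrix.rank_one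
    rw [← h2, ← h1]
    refine (Matrix.rank_mul_le_left _ _).trans ?_
    exact Matrix.rank_mul_le_right _ _

/-- The rank of a matrix is unchanged by a homomorphism of fields. -/
theorem rank_map_field {m n : Type*} [Fintype m] [Fintype n] [DecidableEq m] [DecidableEq n]
    (f : K →+* k) (A : Matrix m n K) : (A.map f).rank = A.rank := by
  classical
  obtain ⟨r, U, V, L, R, hr, h, hL, hR⟩ := exists_rank_factor A
  rw [← hr]
  apply le_antisymm
  · have h1 : A.map f = U.map f * V.map f := by
      rw [h, Matrix.map_mul]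
    rw [h1]
    refine (Matrix.rank_mul_le_right _ _).trans ?_
    exact (Matrix.rank_le_card_height _).trans (by simp)
  · have h1 : (L.map f) * (A.map f) * (R.map f) = 1 := by
      rw [← Matrix.map_mul, ← Matrix.map_mul, h, Matrix.mul_assoc, Matrix.mul_assoc, hR, Matrix.mul_one, hL]
      simp
    have h2 : (1 : Matrix (Fin r) (Fin r) k).rank = r := by
      rw [Matrix.rank_one]; simp
    rw [← h2, ← h1]
    refine (Matrix.rank_mul_le_left _ _).trans ?_
    exact Matrix.rank_mul_le_right _ _

end Cfsg.Agent.Lib.Block
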