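import Cfsg.Agent.Lib.CharExtra.DefectCount
import Cfsg.Agent.Lib.Block.RankMap

/-!
# The residue field of the local ring, and ranks modulo `p` computed there
-/

set_option autoImplicit false
set_option linter.unusedSectionVars false
set_option linter.unusedSimpArgs false

open Cfsg Cfsg.Agent.Lib.CharExtra

namespace Cfsg.Agent.Lib.Block

section Res

variable {M : Ideal AlgInt} [hMp : M.IsPrime]

instance localIdealSub_isMaximal : (localIdealSub M).IsMaximal := by
  rw [Ideal.isMaximal_iff]
  refine ⟨fun h => not_memLocalIdeal_one h, ?_⟩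
  intro J x hIJ hxI hxJ
  have hx0 : (x : ℂ) ≠ 0 := ne_zero_of_not_memLocalIdeal hxI
  have hinv : MemLocalRing M ((x : ℂ)⁻¹) := memLocalRing_inv x.2 hxI
  have h1 : (⟨(x : ℂ)⁻¹, hinv⟩ : localRing M) * x = 1 := by
    apply Subtype.ext
    change (x : ℂ)⁻¹ * (x : ℂ) = 1
    exact inv_mul_cancel₀ hx0
  rw [← h1]
  exact J.mul_mem_left _ hxJ

/-- The residue field of the local ring. -/
abbrev ResField (M : Ideal AlgInt) [M.IsPrime] : Type := localRing M ⧸ localIdealSub M

noncomputable instance resFieldField : Field (ResField M) := Ideal.Quotient.field _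

open Classical in
/-- Reduction of a complex number modulo the local ideal (junk value outside the local ring). -/
noncomputable def red (M : Ideal AlgInt) [M.IsPrime] (x : ℂ) : ResField M :=
  if h : MemLocalRing M x then Ideal.Quotient.mk _ ⟨x, h⟩ else 0

theorem red_of_mem {x : ℂ} (h : MemLocalRing M x) : red M x = Ideal.Quotient.mk _ ⟨x, h⟩ := dif_pos h

theorem red_add {x y : ℂ} (hx : MemLocalRing M x) (hy : MemLocalRing M y) : red M (x + y) = red M x + red M y := by
  rw [red_of_mem hx, red_of_mem hy, red_of_mem (memLocalRing_add hx hy), ← map_add]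
  rfl

theorem red_mul {x y : ℂ} (hx : MemLocalRing M x) (hy : MemLocalRing M y) : red M (x * y) = red M x * red M y := by
  rw [red_of_mem hx, red_of_mem hy, red_of_mem (memLocalRing_mul hx hy), ← map_mul]
  rfl

theorem red_zero : red M 0 = 0 := by
  rw [red_of_mem memLocalRing_zero]
  exact map_zero (Ideal.Quotient.mk (localIdealSub M))

theorem red_one : red M 1 = 1 := by
  rw [red_of_mem memLocalRing_one]
  exact map_one (Ideal.Quotient.mk (localIdealSub M))

theorem red_natCast (n : ℕ) : red M (n : ℂ) = (n : ResField M) := by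
  rw [red_of_mem (memLocalRing_natCast n)]
  have : (⟨(n : ℂ), memLocalRing_natCast n⟩ : localRing M) = (n : localRing M) := by
    apply Subtype.ext
    simp
  rw [this, map_natCast]

theorem red_sum {α : Type*} (s : Finset α) (f : α → ℂ) (h : ∀ a ∈ s, MemLocalRing M (f a)) :
    red M (∑ a ∈ s, f a) = ∑ a ∈ s, red M (f a) := by
  classical
  induction s using Finset.induction_on with
  | empty => simpa using red_zero
  | insert a s ha ih =>
    rw [Finset.sum_insert ha, Finset.sum_insert ha, red_add (h a (Finset.mem_insert_self _ _))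
      (memLocalRing_sum _ _ fun b hb => h b (Finset.mem_insert_of_mem hb)),
      ih fun b hb => h b (Finset.mem_insert_of_mem hb)]

theorem red_eq_zero {x : ℂ} (h : MemLocalIdeal M x) : red M x = 0 := by
  rw [red_of_mem (memLocalRing_of_memLocalIdeal h)]
  exact Ideal.Quotient.eq_zero_iff_mem.2 h

theorem red_eq_of_sub {x y : ℂ} (hx : MemLocalRing M x) (hy : MemLocalRing M y) (h : MemLocalIdeal M (x - y)) :
    red M x = red M y := by
  rw [red_of_mem hx, red_of_mem hy, Ideal.Quotient.eq]
  exact h

end Res

section Rank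

variable {p : ℕ} [hp : Fact p.Prime] {M : Ideal AlgInt}

/-- **Transfer**: a rank modulo `p` read off from congruences in the local ring. -/
theorem rank_zmod_of_local (hM : IsPModular p M) {ι β : Type*} [Fintype ι] [DecidableEq ι] [Fintype β]
    [DecidableEq β] (N : ι → ι → ℕ) (U : ι → β → ℂ) (V : β → ι → ℂ) (L : β → ι → ℂ) (R : ι → β → ℂ)
    (hU : ∀ i b, MemLocalRing M (U i b)) (hV : ∀ b i, MemLocalRing M (V b i))
    (hLl : ∀ b i, MemLocalRing M (L b i)) (hRl : ∀ i b, MemLocalRing M (R i b))
    (hN : ∀ i j, MemLocalIdeal M ((N i j : ℂ) - ∑ b, U i b * V b j))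
    (hL : ∀ b b', MemLocalIdeal M (∑ i, L b i * U i b' - if b = b' then 1 else 0))
    (hR : ∀ b b', MemLocalIdeal M (∑ j, V b j * R j b' - if b = b' then 1 else 0)) :
    (Matrix.of fun i j : ι => ((N i j : ℕ) : ZMod p)).rank = Fintype.card β := by
  classical
  haveI := isPModular_isPrime hM
  haveI : CharP (ResField M) p := by
    rw [CharP.charP_iff_prime_eq_zero hp.out, ← red_natCast]
    exact red_eq_zero (memLocalIdeal_p hM)
  let f : ZMod p →+* ResField M := ZMod.castHom (dvd_refl p) (ResField M)
  rw [← rank_map_field f]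
  have hif : ∀ {α : Type} (P : Prop) [Decidable P], red M (if P then (1 : ℂ) else 0) = if P then (1 : ResField M) else 0 := by
    intro α P _
    split_ifs
    · exact red_one
    · exact red_zero
  refine rank_eq_of_factor _ (Matrix.of fun i b => red M (U i b)) (Matrix.of fun b i => red M (V b i))
    (Matrix.of fun b i => red M (L b i)) (Matrix.of fun i b => red M (R i b)) ?_ ?_ ?_
  · ext i j
    simp only [Matrix.map_apply, Matrix.of_apply, Matrix.mul_apply]
    rw [map_natCast, ← red_natCast]
    rw [red_eq_of_sub (memLocalRing_natCast _) (memLocalRing_sum _ _ fun b _ => memLocalRing_mul (hU i b) (hV b j)) (hN i j)]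
    rw [red_sum _ _ fun b _ => memLocalRing_mul (hU i b) (hV b j)]
    exact Finset.sum_congr rfl fun b _ => red_mul (hU i b) (hV b j)
  · ext b b'
    simp only [Matrix.of_apply, Matrix.mul_apply, Matrix.one_apply]
    have h1 := red_eq_of_sub (memLocalRing_sum _ _ fun i _ => memLocalRing_mul (hLl b i) (hU i b'))
      (by split_ifs <;> first | exact memLocalRing_one | exact memLocalRing_zero) (hL b b')
    rw [red_sum _ _ fun i _ => memLocalRing_mul (hLl b i) (hU i b')] at h1
    have h2 : ∀ i ∈ Finset.univ, red M (L b i * U i b') = red M (L b i) * red M (U i b') :=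
      fun i _ => red_mul (hLl b i) (hU i b')
    rw [Finset.sum_congr rfl h2] at h1
    rw [h1]
    exact hif (α := Unit) _
  · ext b b'
    simp only [Matrix.of_apply, Matrix.mul_apply, Matrix.one_apply]
    have h1 := red_eq_of_sub (memLocalRing_sum _ _ fun j _ => memLocalRing_mul (hV b j) (hRl j b'))
      (by split_ifs <;> first | exact memLocalRing_one | exact memLocalRing_zero) (hR b b')
    rw [red_sum _ _ fun j _ => memLocalRing_mul (hV b j) (hRl j b')] at h1
    have h2 : ∀ j ∈ Finset.univ, red M (V b j * R j b') = red M (V b j) * red M (R j b') :=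
      fun j _ => red_mul (hV b j) (hRl j b')
    rw [Finset.sum_congr rfl h2] at h1
    rw [h1]
    exact hif (α := Unit) _

end Rank

end Cfsg.Agent.Lib.Block
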