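import Cfsg.Agent.Lib.Block.NormalDefect
import Cfsg.Agent.Lib.Block.ResField
import Cfsg.Agent.Lib.Block.CentralType

/-!
# The number of blocks with a given normal defect group as a rank modulo `p`
-/

set_option autoImplicit false
set_option linter.unusedSectionVars false
set_option linter.unusedSimpArgs false
set_option linter.unusedVariables false
set_option linter.style.haveILetI false

open scoped ComplexConjugate
open Cfsg MonoidAlgebra
open Cfsg.Agent.Lib.Char Cfsg.Agent.Lib.CharExtra

namespace Cfsg.Agent.Lib.Block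

section OR

variable {G : Type*} [Group G] [Fintype G] {p : ℕ} [hp : Fact p.Prime] {M : Ideal AlgInt}

theorem isConj_inv_of_isConj {a y : G} (h : IsConj a y) : IsConj a⁻¹ y⁻¹ := by
  rw [isConj_iff] at h ⊢
  obtain ⟨c, rfl⟩ := h
  exact ⟨c, by group⟩

theorem isConj_inv_inv_iff' (a y : G) : IsConj a⁻¹ y⁻¹ ↔ IsConj a y :=
  ⟨fun h => by simpa using isConj_inv_of_isConj h, isConj_inv_of_isConj⟩

open Classical in
/-- The count of pairs as a trace. -/
theorem count_eq_tr (S : Subgroup G) (a b : G) :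
    (Nat.card {yz : G × G // yz.1 ∈ (ConjClasses.mk a).carrier ∧ yz.2 ∈ (ConjClasses.mk b).carrier ∧
      yz.2 * yz.1⁻¹ ∈ S} : ℂ) = tr (fun g => if g ∈ S then 1 else 0) (classSum b * classSum a⁻¹) := by
  rw [tr_mul_eq_sum]
  simp only [coeff_classSum]
  have hinv : ∀ x : G, (∑ k : G, ((if IsConj b x then (1 : ℂ) else 0) * if IsConj a⁻¹ k then 1 else 0) * if x * k ∈ S then 1 else 0)
      = ∑ y : G, ((if IsConj b x then (1 : ℂ) else 0) * if IsConj a⁻¹ y⁻¹ then 1 else 0) * if x * y⁻¹ ∈ S then 1 else 0 := by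
    intro x
    exact (Equiv.sum_comp (Equiv.inv G) (fun k : G => ((if IsConj b x then (1 : ℂ) else 0) * if IsConj a⁻¹ k then 1 else 0) * if x * k ∈ S then 1 else 0)).symm
  rw [Finset.sum_congr rfl fun x _ => hinv x]
  rw [Finset.sum_comm]
  rw [Nat.card_eq_fintype_card, Fintype.card_subtype, Finset.card_filter]
  push_cast
  rw [Fintype.sum_prod_type]
  refine Finset.sum_congr rfl fun y _ => Finset.sum_congr rfl fun z _ => ?_
  have h1 : IsConj a⁻¹ y⁻¹ ↔ y ∈ (ConjClasses.mk a).carrier := by
    rw [isConj_inv_inv_iff', ConjClasses.mem_carrier_iff_mk_eq, ConjClasses.mk_eq_mk_iff_isConj]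
    exact isConj_comm
  have h2 : IsConj b z ↔ z ∈ (ConjClasses.mk b).carrier := by
    rw [ConjClasses.mem_carrier_iff_mk_eq, ConjClasses.mk_eq_mk_iff_isConj]
    exact isConj_comm
  simp only [h1, h2]
  by_cases h3 : y ∈ (ConjClasses.mk a).carrier <;> by_cases h4 : z ∈ (ConjClasses.mk b).carrier <;>
    by_cases h5 : z * y⁻¹ ∈ S <;> simp [h3, h4, h5]

/-- The trace of a central element along an arbitrary function, through the characters. -/
theorem tr_central_eq (φ : G → ℂ) {z : MonoidAlgebra ℂ G} (hz : IsCentralElt z) :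
    tr φ z = ∑ χ : IrrCharacter G, om (χ : G → ℂ) z * tr φ (blockElt {χ}) := by
  classical
  have h : z = ∑ χ : IrrCharacter G, om (χ : G → ℂ) z • blockElt {χ} := by
    refine central_ext_om hz (isCentralElt_sum _ _ fun χ _ => isCentralElt_smul _ (isCentralElt_blockElt _)) fun ψ => ?_
    rw [om_sum, Finset.sum_eq_single ψ]
    · rw [om_smul, om_blockElt, if_pos (Set.mem_singleton ψ), mul_one]
    · intro χ _ hne
      rw [om_smul, om_blockElt, if_neg (by simpa using hne.symm), mul_zero]
    · intro h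
      exact absurd (Finset.mem_univ _) h
  conv_lhs => rw [h]
  rw [tr_sum]
  exact Finset.sum_congr rfl fun χ _ => tr_smul _ _ _

/-- The average of `χ` over the inverses of a subgroup. -/
noncomputable def mS (S : Subgroup G) [Fintype S] (χ : G → ℂ) : ℂ :=
  (Nat.card S : ℂ)⁻¹ * ∑ s : S, χ (s : G)⁻¹

theorem mS_local [M.IsPrime] (S : Subgroup G) [Fintype S] (χ : IrrCharacter G) : MemLocalRing M (mS S (χ : G → ℂ)) := by
  classical
  have h1 := classInner_isCharacter_nat (IsCharacter.restrict S (IsIrrCharacter.isCharacter χ.2))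
    (IsIrrCharacter.isCharacter (oneIrr S).2)
  obtain ⟨n, hn⟩ := h1
  have h2 : mS S (χ : G → ℂ) = n := by
    rw [← hn, classInner_def, mS]
    congr 1
    rw [← Equiv.sum_comp (Equiv.inv S) (fun s : S => ((χ : G → ℂ) (s : G)) * conj (((oneIrr S : IrrCharacter S) : S → ℂ) s))]
    refine Finset.sum_congr rfl fun s _ => ?_
    simp [oneIrr_coe]
  rw [h2]
  exact memLocalRing_natCast n

open Classical in
theorem tr_indicator_blockElt (S : Subgroup G) [Fintype S] (χ : IrrCharacter G) :
    tr (fun g => if g ∈ S then 1 else 0) (blockElt {χ}) =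
      (Nat.card G : ℂ)⁻¹ * (Nat.card S : ℂ) * (mS S (χ : G → ℂ) * (χ : G → ℂ) 1) := by
  have h1 : ∀ g : G, blockCoeff {χ} g = (Nat.card G : ℂ)⁻¹ * ((χ : G → ℂ) 1 * (χ : G → ℂ) g⁻¹) := by
    intro g
    rw [blockCoeff_eq_sum_inv, Finset.sum_eq_single χ]
    · rw [if_pos (Set.mem_singleton χ)]
    · intro ψ _ hne
      rw [if_neg (by simpa using hne)]
    · intro h
      exact absurd (Finset.mem_univ _) h
  have hS0 : (Nat.card S : ℂ) ≠ 0 := Nat.cast_ne_zero.2 Nat.card_pos.ne'
  unfold tr mS
  simp only [coeff_blockElt, h1, mul_ite, mul_one, mul_zero]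
  rw [← Finset.sum_filter]
  have h2 : ∑ x ∈ Finset.filter (fun x => x ∈ S) Finset.univ,
      (Nat.card G : ℂ)⁻¹ * ((χ : G → ℂ) 1 * (χ : G → ℂ) x⁻¹) =
      ∑ s : S, (Nat.card G : ℂ)⁻¹ * ((χ : G → ℂ) 1 * (χ : G → ℂ) (s : G)⁻¹) :=
    (Finset.sum_subtype _ (by simp) _)
  rw [h2, ← Finset.mul_sum, ← Finset.mul_sum]
  field_simp

/-- The pair count in terms of the characters. -/
theorem tr_formula (S : Subgroup G) [Fintype S] (a b : G) [DecidablePred (· ∈ S)] :
    tr (fun g => if g ∈ S then 1 else 0) (classSum b * classSum a) =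
      (S.index : ℂ)⁻¹ * ∑ χ : IrrCharacter G, mS S (χ : G → ℂ) *
        (((Subgroup.centralizer ({a} : Set G)).index : ℂ) * (χ : G → ℂ) a) * centralChar (χ : G → ℂ) b := by
  classical
  have hc : IsCentralElt (classSum b * classSum a) := isCentralElt_mul (isCentralElt_classSum b) (isCentralElt_classSum a)
  have hidx : (Nat.card G : ℂ)⁻¹ * (Nat.card S : ℂ) = (S.index : ℂ)⁻¹ := by
    have h1 : (Nat.card G : ℂ) = (Nat.card S : ℂ) * (S.index : ℂ) := by
      rw [← Nat.cast_mul, S.card_mul_index]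
    have hS0 : (Nat.card S : ℂ) ≠ 0 := Nat.cast_ne_zero.2 Nat.card_pos.ne'
    have hI0 : (S.index : ℂ) ≠ 0 := Nat.cast_ne_zero.2 S.index_ne_zero_of_finite
    rw [h1]
    field_simp
  have h0 : (fun g => if g ∈ S then (1 : ℂ) else 0) = fun g => @ite _ (g ∈ S) (Classical.propDecidable _) 1 0 := by
    funext g
    split_ifs <;> rfl
  rw [h0, tr_central_eq _ hc, Finset.mul_sum]
  refine Finset.sum_congr rfl fun χ _ => ?_
  rw [tr_indicator_blockElt, om_mul χ.2 (isCentralElt_classSum b), om_classSum (IsCharacter.isClassFunction (IsIrrCharacter.isCharacter χ.2)) b,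
    om_classSum (IsCharacter.isClassFunction (IsIrrCharacter.isCharacter χ.2)) a,
    hidx]
  have h10 : (χ : G → ℂ) 1 ≠ 0 := isIrr_one_ne_zero χ.2
  unfold centralChar
  field_simp

open Classical in
/-- The sum of `mS χ * χ 1` over a union of blocks. -/
theorem sum_mS (hM : IsPModular p M) (S : Subgroup G) [Fintype S] (hS : IsPGroup p S) {B : Set (IrrCharacter G)}
    (hB : IsBlockUnion M B) :
    ∑ χ : IrrCharacter G, (if χ ∈ B then mS S (χ : G → ℂ) * (χ : G → ℂ) 1 else 0) = (S.index : ℂ) * blockCoeff B 1 := by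
  have hG0 : (Nat.card G : ℂ) ≠ 0 := Nat.cast_ne_zero.2 Nat.card_pos.ne'
  have hS0 : (Nat.card S : ℂ) ≠ 0 := Nat.cast_ne_zero.2 Nat.card_pos.ne'
  have h1 : (Nat.card G : ℂ) = (Nat.card S : ℂ) * (S.index : ℂ) := by
    rw [← Nat.cast_mul, S.card_mul_index]
  have h2 : ∑ s : S, blockCoeff B ((s : G)) = blockCoeff B 1 := by
    rw [Finset.sum_eq_single (1 : S)]
    · simp
    · intro u _ hu
      by_contra hne
      have h2 := regular_of_blockCoeff_ne_zero hM hB hne
      obtain ⟨k, hk⟩ := IsPGroup.iff_orderOf.1 hS u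
      have hk0 : k ≠ 0 := by
        rintro rfl
        rw [pow_zero, orderOf_eq_one_iff] at hk
        exact hu hk
      apply h2
      rw [Subgroup.orderOf_coe, hk]
      exact dvd_pow_self p hk0
    · intro h
      exact absurd (Finset.mem_univ _) h
  have h3 : ∀ s : S, blockCoeff B (s : G) = (Nat.card G : ℂ)⁻¹ *
      ∑ χ : IrrCharacter G, if χ ∈ B then (χ : G → ℂ) 1 * (χ : G → ℂ) (s : G)⁻¹ else 0 :=
    fun s => blockCoeff_eq_sum_inv B _
  rw [← h2]
  simp only [h3]
  rw [← Finset.mul_sum, Finset.sum_comm]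
  have h4 : ∀ χ : IrrCharacter G, (if χ ∈ B then mS S (χ : G → ℂ) * (χ : G → ℂ) 1 else 0) =
      (Nat.card S : ℂ)⁻¹ * ∑ s : S, if χ ∈ B then (χ : G → ℂ) 1 * (χ : G → ℂ) (s : G)⁻¹ else 0 := by
    intro χ
    by_cases hχ : χ ∈ B
    · simp only [if_pos hχ, mS, ← Finset.mul_sum]
      ring
    · simp [hχ]
  simp only [h4]
  rw [← Finset.mul_sum, h1]
  have hI0 : (S.index : ℂ) ≠ 0 := Nat.cast_ne_zero.2 S.index_ne_zero_of_finite
  field_simp

theorem factorization_add_index (D : Subgroup G) :
    (Nat.card D).factorization p + D.index.factorization p = (Nat.card G).factorization p := by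
  have h1 := D.card_mul_index
  have h2 : Nat.card D ≠ 0 := Nat.card_pos.ne'
  have h3 : D.index ≠ 0 := D.index_ne_zero_of_finite
  rw [← h1, Nat.factorization_mul h2 h3, Finsupp.add_apply]

theorem isDefectGroup_card_fact (hM : IsPModular p M) {B : Set (IrrCharacter G)} (hB : IsPBlock M B)
    {D : Subgroup G} (hD : IsDefectGroup p M B D) : (Nat.card D).factorization p = blockDefect p B := by
  rw [card_defect_group hM hB hD, Nat.factorization_pow]
  simp [hp.out.factorization_self]

/-- The degrees in a block with defect group `D` are divisible by `p^(a-d)`. -/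
theorem pow_dvd_degree_of_defect (hM : IsPModular p M) {D : Subgroup G} {B : Set (IrrCharacter G)} (hB : IsPBlock M B)
    (hD : IsDefectGroup p M B D) {χ : IrrCharacter G} (hχ : χ ∈ B) :
    p ^ D.index.factorization p ∣ charDegree (χ : G → ℂ) := by
  haveI := isPModular_isPrime hM
  have h0 : charDegree (χ : G → ℂ) ≠ 0 := (charDegree_pos_of_irr χ.2).ne'
  rw [hp.out.pow_dvd_iff_le_factorization h0]
  have h1 := isDefectGroup_card_fact hM hB hD
  have h2 := factorization_add_index (p := p) D
  have h3 := minExp_le (p := p) hχ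
  have h4 : blockDefect p B = (Nat.card G).factorization p - minExp p B := rfl
  have h5 := minExp_le_factorization_card (p := p) (IsPBlock_nonempty hB)
  omega

theorem cc_mem_ideal_of_not_block (hM : IsPModular p M) {D : Subgroup G} [hDn : D.Normal] (hDp : IsPGroup p D)
    {χ : IrrCharacter G} (hχ : ∀ B, IsPBlock M B → IsDefectGroup p M B D → χ ∉ B) {b : G}
    (hb : (Nat.card (Subgroup.centralizer ({b} : Set G))).factorization p ≤ (Nat.card D).factorization p) :
    MemLocalIdeal M (centralChar (χ : G → ℂ) b) := by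
  classical
  haveI := isPModular_isPrime hM
  by_contra h
  have hB : IsPBlock M (blockOf M (χ : G → ℂ)) := isPBlock_blockOf χ
  obtain ⟨D', hD'⟩ := exists_isDefectGroup hM hB
  have hle : D ≤ D' := normal_le_defect hM hDp hB hD'
  have h1 := blockDefect_le_of_centralChar hM h
  have h2 := card_defect_group hM hB hD'
  obtain ⟨n, hn⟩ := IsPGroup.iff_card.1 hDp
  have h3 : (Nat.card D).factorization p = n := by
    rw [hn, Nat.factorization_pow]
    simp [hp.out.factorization_self]
  have h4 : Nat.card D' ≤ Nat.card D := by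
    rw [h2, hn]
    exact Nat.pow_le_pow_right hp.out.pos (by omega)
  have h5 : D = D' := Subgroup.eq_of_le_of_card_ge hle h4
  exact hχ _ hB (h5 ▸ hD') (mem_blockOf_self χ)

theorem self_div_local (hM : IsPModular p M) {D : Subgroup G} {B : Set (IrrCharacter G)} (hB : IsPBlock M B)
    (hD : IsDefectGroup p M B D) {χ : IrrCharacter G} (hχ : χ ∈ B) :
    MemLocalRing M ((χ : G → ℂ) 1 / ((p ^ D.index.factorization p : ℕ) : ℂ)) := by
  haveI := isPModular_isPrime hM
  obtain ⟨m, hm⟩ := pow_dvd_degree_of_defect hM hB hD hχ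
  have hP0 : ((p ^ D.index.factorization p : ℕ) : ℂ) ≠ 0 :=
    Nat.cast_ne_zero.2 (pow_ne_zero _ hp.out.ne_zero)
  have h1 : (χ : G → ℂ) 1 / ((p ^ D.index.factorization p : ℕ) : ℂ) = m := by
    rw [map_one_eq_charDegree (IsIrrCharacter.isCharacter χ.2), hm, Nat.cast_mul]
    field_simp
  rw [h1]
  exact memLocalRing_natCast m

open Classical in
/-- **The pair count modulo the local ideal.** -/
theorem omega_cong (hM : IsPModular p M) {D : Subgroup G} [hDn : D.Normal] (hDp : IsPGroup p D) (S : Subgroup G)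
    [Fintype S] (hS : IsPGroup p S) (hSi : ¬ p ∣ S.index) (a b : G)
    (ha : (Nat.card (Subgroup.centralizer ({a} : Set G))).factorization p = (Nat.card D).factorization p)
    (hb : (Nat.card (Subgroup.centralizer ({b} : Set G))).factorization p ≤ (Nat.card D).factorization p)
    [Fintype {B : Set (IrrCharacter G) // IsPBlock M B ∧ IsDefectGroup p M B D}]
    (chi : {B : Set (IrrCharacter G) // IsPBlock M B ∧ IsDefectGroup p M B D} → IrrCharacter G)
    (hchi : ∀ t, chi t ∈ t.1) :
    MemLocalRing M (tr (fun g => if g ∈ S then 1 else 0) (classSum b * classSum a) / ((p ^ D.index.factorization p : ℕ) : ℂ)) ∧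
    MemLocalIdeal M (tr (fun g => if g ∈ S then 1 else 0) (classSum b * classSum a) / ((p ^ D.index.factorization p : ℕ) : ℂ) -
      ∑ t : {B : Set (IrrCharacter G) // IsPBlock M B ∧ IsDefectGroup p M B D},
        (blockCoeff t.1 1 / ((p ^ D.index.factorization p : ℕ) : ℂ)) *
          (centralChar (chi t : G → ℂ) a * centralChar (chi t : G → ℂ) b)) := by
  haveI := isPModular_isPrime hM
  obtain ⟨P, hP⟩ : ∃ P : ℂ, P = ((p ^ D.index.factorization p : ℕ) : ℂ) := ⟨_, rfl⟩
  rw [← hP]
  have hP0 : P ≠ 0 := by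
    rw [hP]
    exact Nat.cast_ne_zero.2 (pow_ne_zero _ hp.out.ne_zero)
  have hidx : MemLocalRing M (((Subgroup.centralizer ({a} : Set G)).index : ℂ) / P) := by
    rw [hP]
    refine (localUnit_natCast_div hM (Subgroup.index_ne_zero_of_finite) (pow_ne_zero _ hp.out.ne_zero) ?_).1
    rw [Nat.factorization_pow]
    have h1 := factorization_add_index (p := p) (Subgroup.centralizer ({a} : Set G))
    have h2 := factorization_add_index (p := p) D
    simp only [Finsupp.smul_apply, smul_eq_mul, hp.out.factorization_self, mul_one]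
    omega
  have hS1 : MemLocalRing M ((S.index : ℂ)⁻¹) := memLocalRing_natCast_inv hM hSi
  have hI0 : (S.index : ℂ) ≠ 0 := Nat.cast_ne_zero.2 S.index_ne_zero_of_finite
  obtain ⟨T, hTdef⟩ : ∃ T : IrrCharacter G → ℂ, T = fun χ : IrrCharacter G => mS S (χ : G → ℂ) *
      ((((Subgroup.centralizer ({a} : Set G)).index : ℂ) / P) * (χ : G → ℂ) a) * centralChar (χ : G → ℂ) b := ⟨_, rfl⟩
  have hW : tr (fun g => if g ∈ S then 1 else 0) (classSum b * classSum a) / P = (S.index : ℂ)⁻¹ * ∑ χ, T χ := by
    rw [tr_formula, mul_div_assoc, Finset.sum_div]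
    congr 1
    refine Finset.sum_congr rfl fun χ _ => ?_
    rw [hTdef]
    ring
  have hTl : ∀ χ, MemLocalRing M (T χ) := by
    intro χ
    rw [hTdef]
    refine memLocalRing_mul (memLocalRing_mul (mS_local S χ) (memLocalRing_mul hidx ?_)) (memLocalRing_centralChar χ.2 b)
    exact memLocalRing_of_isIntegral (IsCharacter.isIntegral' (IsIrrCharacter.isCharacter χ.2) _)
  rw [hW]
  refine ⟨memLocalRing_mul hS1 (memLocalRing_sum _ _ fun χ _ => hTl χ), ?_⟩
  obtain ⟨T', hT'def⟩ : ∃ T' : IrrCharacter G → ℂ, T' = fun χ : IrrCharacter G =>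
      ∑ t : {B : Set (IrrCharacter G) // IsPBlock M B ∧ IsDefectGroup p M B D},
        if χ ∈ t.1 then mS S (χ : G → ℂ) * ((χ : G → ℂ) 1 / P) *
          (centralChar (chi t : G → ℂ) a * centralChar (chi t : G → ℂ) b) else 0 := ⟨_, rfl⟩
  have hTT : ∀ χ, MemLocalIdeal M (T χ - T' χ) := by
    intro χ
    by_cases hχ : ∃ t : {B : Set (IrrCharacter G) // IsPBlock M B ∧ IsDefectGroup p M B D}, χ ∈ t.1
    · obtain ⟨t₀, ht₀⟩ := hχ
      have h1 : T' χ = mS S (χ : G → ℂ) * ((χ : G → ℂ) 1 / P) *
          (centralChar (chi t₀ : G → ℂ) a * centralChar (chi t₀ : G → ℂ) b) := by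
        rw [hT'def]
        simp only
        rw [Finset.sum_eq_single t₀]
        · rw [if_pos ht₀]
        · intro t _ hne
          rw [if_neg]
          intro hmem
          apply hne
          apply Subtype.ext
          rw [blockOf_eq_of_mem t.2.1 hmem, blockOf_eq_of_mem t₀.2.1 ht₀]
        · intro h
          exact absurd (Finset.mem_univ _) h
      have h10 : (χ : G → ℂ) 1 ≠ 0 := isIrr_one_ne_zero χ.2
      have h2 : T χ = mS S (χ : G → ℂ) * ((χ : G → ℂ) 1 / P) *
          (centralChar (χ : G → ℂ) a * centralChar (χ : G → ℂ) b) := by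
        rw [hTdef]
        simp only
        unfold centralChar
        field_simp
      have hsb := sameBlock_of_mem t₀.2.1 ht₀ (hchi t₀)
      have h3 : T χ - T' χ = mS S (χ : G → ℂ) * ((χ : G → ℂ) 1 / P) *
          ((centralChar (χ : G → ℂ) a - centralChar (chi t₀ : G → ℂ) a) * centralChar (χ : G → ℂ) b +
            centralChar (chi t₀ : G → ℂ) a * (centralChar (χ : G → ℂ) b - centralChar (chi t₀ : G → ℂ) b)) := by
        rw [h1, h2]
        ring
      rw [h3]
      refine memLocalIdeal_mul_left (memLocalRing_mul (mS_local S χ) ?_) (memLocalIdeal_add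
        (memLocalIdeal_mul_right (hsb a) (memLocalRing_centralChar χ.2 b))
        (memLocalIdeal_mul_left (memLocalRing_centralChar (chi t₀).2 a) (hsb b)))
      rw [hP]
      exact self_div_local hM t₀.2.1 t₀.2.2 ht₀
    · have h1 : T' χ = 0 := by
        rw [hT'def]
        refine Finset.sum_eq_zero fun t _ => if_neg fun hmem => hχ ⟨t, hmem⟩
      have h2 : MemLocalIdeal M (centralChar (χ : G → ℂ) b) :=
        cc_mem_ideal_of_not_block hM hDp (fun B hB hBD hmem => hχ ⟨⟨B, hB, hBD⟩, hmem⟩) hb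
      rw [h1, sub_zero, hTdef]
      refine memLocalIdeal_mul_left (memLocalRing_mul (mS_local S χ) (memLocalRing_mul hidx ?_)) h2
      exact memLocalRing_of_isIntegral (IsCharacter.isIntegral' (IsIrrCharacter.isCharacter χ.2) _)
  have hsum : (S.index : ℂ)⁻¹ * ∑ χ, T' χ = ∑ t : {B : Set (IrrCharacter G) // IsPBlock M B ∧ IsDefectGroup p M B D},
      (blockCoeff t.1 1 / P) * (centralChar (chi t : G → ℂ) a * centralChar (chi t : G → ℂ) b) := by
    rw [hT'def]
    simp only
    rw [Finset.sum_comm, Finset.mul_sum]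
    refine Finset.sum_congr rfl fun t _ => ?_
    have h1 := sum_mS hM S hS (isBlockUnion_of_isPBlock t.2.1)
    have h2 : ∑ χ : IrrCharacter G, (if χ ∈ t.1 then mS S (χ : G → ℂ) * ((χ : G → ℂ) 1 / P) *
        (centralChar (chi t : G → ℂ) a * centralChar (chi t : G → ℂ) b) else 0) =
        (∑ χ : IrrCharacter G, if χ ∈ t.1 then mS S (χ : G → ℂ) * (χ : G → ℂ) 1 else 0) *
          ((centralChar (chi t : G → ℂ) a * centralChar (chi t : G → ℂ) b) / P) := by
      rw [Finset.sum_mul]
      refine Finset.sum_congr rfl fun χ _ => ?_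
      split_ifs
      · field_simp
      · simp
    rw [h2, h1]
    field_simp
  rw [← hsum, ← mul_sub, ← Finset.sum_sub_distrib]
  exact memLocalIdeal_mul_left hS1 (memLocalIdeal_sum _ _ fun χ _ => hTT χ)

open Classical in
/-- **Dual families**: the idempotent coefficients pair with the central characters modulo the local ideal on the
classes of defect `D`. -/
theorem sum_family (hM : IsPModular p M) {D : Subgroup G} [hDn : D.Normal] (hDp : IsPGroup p D)
    {B : Set (IrrCharacter G)} (hB : IsPBlock M B) (hD : IsDefectGroup p M B D) (χ : IrrCharacter G)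
    {ι : Type*} [Fintype ι] (y : ι → G) (hinj : Function.Injective fun i => ConjClasses.mk (y i))
    (hsurj : ∀ g : G, ¬ p ∣ orderOf g → D ≤ Subgroup.centralizer ({g} : Set G) →
      (Nat.card (Subgroup.centralizer ({g} : Set G))).factorization p ≤ (Nat.card D).factorization p →
      ∃ i, ConjClasses.mk (y i) = ConjClasses.mk g) :
    MemLocalIdeal M (∑ i, blockCoeff B (y i) * centralChar (χ : G → ℂ) (y i) - if χ ∈ B then 1 else 0) := by
  haveI := isPModular_isPrime hM
  haveI : Fintype (ConjClasses G) := Fintype.ofFinite _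
  have hU := isBlockUnion_of_isPBlock hB
  have hcl := IsCharacter.isClassFunction (IsIrrCharacter.isCharacter χ.2)
  obtain ⟨f, hf⟩ : ∃ f : G → ℂ, f = fun g => blockCoeff B g * centralChar (χ : G → ℂ) g := ⟨_, rfl⟩
  have hfl : ∀ g, MemLocalRing M (f g) := fun g => by
    rw [hf]
    exact memLocalRing_mul (memLocalRing_blockCoeff hU g) (memLocalRing_centralChar χ.2 g)
  have hfc : ∀ a g : G, IsConj a g → f a = f g := by
    intro a g h
    obtain ⟨c, rfl⟩ := isConj_iff.1 h
    rw [hf]
    simp only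
    rw [CharExtra.blockCoeff_conj, centralChar_conj hcl]
  have h1 : (if χ ∈ B then (1 : ℂ) else 0) = ∑ c : ConjClasses G, f c.out := by
    have h2 := om_eq_sum_conjClasses (isCentralElt_blockElt B) hcl
    rw [om_blockElt] at h2
    rw [h2, hf]
    simp only [coeff_blockElt]
  have h3 : ∑ i, blockCoeff B (y i) * centralChar (χ : G → ℂ) (y i) =
      ∑ c ∈ Finset.univ.image (fun i => ConjClasses.mk (y i)), f c.out := by
    rw [Finset.sum_image (fun i _ j _ h => hinj h)]
    refine Finset.sum_congr rfl fun i _ => ?_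
    have h4 : f (y i) = f (ConjClasses.mk (y i)).out := by
      apply hfc
      rw [← ConjClasses.mk_eq_mk_iff_isConj]
      exact (Quotient.out_eq _).symm
    rw [← h4, hf]
  have h5 : ∑ i, blockCoeff B (y i) * centralChar (χ : G → ℂ) (y i) - (if χ ∈ B then (1 : ℂ) else 0) =
      - ∑ c ∈ (Finset.univ.image (fun i => ConjClasses.mk (y i)))ᶜ, f c.out := by
    rw [h3, h1, ← Finset.sum_add_sum_compl (Finset.univ.image (fun i => ConjClasses.mk (y i)))]
    ring
  rw [h5]
  refine memLocalIdeal_neg (memLocalIdeal_sum _ _ fun c hc => ?_)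
  by_contra hcon
  rw [hf] at hcon
  simp only at hcon
  have hg1 : ¬ MemLocalIdeal M (blockCoeff B c.out) := fun h =>
    hcon (memLocalIdeal_mul_right h (memLocalRing_centralChar χ.2 _))
  have hg2 : ¬ MemLocalIdeal M (centralChar (χ : G → ℂ) c.out) := fun h =>
    hcon (memLocalIdeal_mul_left (memLocalRing_blockCoeff hU _) h)
  have hreg := regular_of_blockCoeff_ne_zero hM hU (ne_zero_of_not_memLocalIdeal hg1)
  have hcen := mem_centralizer_of_not_memLocalIdeal hM D hDp χ.2 hg2
  have hle : D ≤ Subgroup.centralizer ({c.out} : Set G) := by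
    intro d hd
    rw [Subgroup.mem_centralizer_singleton_iff]
    exact (Subgroup.mem_centralizer_iff.1 hcen) d hd
  have hv := factorization_centralizer_le_of_blockCoeff hM hB hg1
  rw [← isDefectGroup_card_fact hM hB hD] at hv
  obtain ⟨i, hi⟩ := hsurj _ hreg hle hv
  apply (Finset.mem_compl.1 hc)
  rw [Finset.mem_image]
  refine ⟨i, Finset.mem_univ _, ?_⟩
  rw [hi]
  exact Quotient.out_eq _

theorem centralizer_singleton_inv (g : G) :
    Subgroup.centralizer ({g⁻¹} : Set G) = Subgroup.centralizer ({g} : Set G) := by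
  ext z
  rw [Subgroup.mem_centralizer_singleton_iff, Subgroup.mem_centralizer_singleton_iff]
  constructor
  · intro h
    have h1 : Commute g⁻¹ z := h.symm
    exact (Commute.inv_left_iff.1 h1).symm
  · intro h
    have h1 : Commute g z := h.symm
    exact (Commute.inv_left_iff.2 h1).symm

/-- A subgroup of the centralizer with the right order is a Sylow subgroup of it. -/
theorem exists_sylow_of_le {D : Subgroup G} (hDp : IsPGroup p D) {g : G} (hle : D ≤ Subgroup.centralizer ({g} : Set G))
    (hv : (Nat.card (Subgroup.centralizer ({g} : Set G))).factorization p ≤ (Nat.card D).factorization p) :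
    ∃ Q : Sylow p (Subgroup.centralizer ({g} : Set G)),
      (Q : Subgroup (Subgroup.centralizer ({g} : Set G))).map (Subgroup.centralizer ({g} : Set G)).subtype = D := by
  obtain ⟨n, hn⟩ := IsPGroup.iff_card.1 hDp
  have h1 : Nat.card (D.subgroupOf (Subgroup.centralizer ({g} : Set G))) = Nat.card D :=
    Nat.card_congr (Subgroup.subgroupOfEquivOfLe hle).toEquiv
  have h2 : (Nat.card D).factorization p = n := by
    rw [hn, Nat.factorization_pow]
    simp [hp.out.factorization_self]
  have h3 : Nat.card D ∣ Nat.card (Subgroup.centralizer ({g} : Set G)) := by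
    rw [← h1]
    exact Subgroup.card_subgroup_dvd_card _
  have h4 : (Nat.card D).factorization p ≤ (Nat.card (Subgroup.centralizer ({g} : Set G))).factorization p :=
    (Nat.factorization_le_iff_dvd Nat.card_pos.ne' Nat.card_pos.ne').2 h3 p
  have h5 : Nat.card (D.subgroupOf (Subgroup.centralizer ({g} : Set G))) =
      p ^ (Nat.card (Subgroup.centralizer ({g} : Set G))).factorization p := by
    rw [h1, hn]
    congr 1
    omega
  refine ⟨Sylow.ofCard _ h5, ?_⟩
  rw [Sylow.coe_ofCard]
  exact Subgroup.map_subgroupOf_eq_of_le hle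

/-- **The number of blocks with a normal defect group `D` is a rank modulo `p`.** -/
theorem omega_rank (p : ℕ) [hp : Fact p.Prime] (M : Ideal AlgInt) (hM : IsPModular p M) (D : Subgroup G) [hDn : D.Normal]
    (hDp : IsPGroup p D) (S : Sylow p G) {ι : Type*} [Fintype ι] [DecidableEq ι] (K : ι → ConjClasses G)
    (hKinj : Function.Injective K)
    (hK : ∀ C : ConjClasses G, (∃ i, K i = C) ↔ ∃ x ∈ C.carrier, ¬ p ∣ orderOf x ∧
      ∃ Q : Sylow p (Subgroup.centralizer ({x} : Set G)),
        (Q : Subgroup (Subgroup.centralizer ({x} : Set G))).map (Subgroup.centralizer ({x} : Set G)).subtype = D) :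
    Nat.card {B : Set (IrrCharacter G) // IsPBlock M B ∧ IsDefectGroup p M B D} =
      (Matrix.of fun i j : ι => ((Nat.card {yz : G × G // yz.1 ∈ (K i).carrier ∧ yz.2 ∈ (K j).carrier ∧
        yz.2 * yz.1⁻¹ ∈ (S : Subgroup G)} / p ^ ((Nat.card G).factorization p - (Nat.card D).factorization p) : ℕ) : ZMod p)).rank := by
  classical
  haveI := isPModular_isPrime hM
  haveI : Fintype (S : Subgroup G) := Fintype.ofFinite _
  haveI : Fintype {B : Set (IrrCharacter G) // IsPBlock M B ∧ IsDefectGroup p M B D} := Fintype.ofFinite _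
  have hA : (Nat.card G).factorization p - (Nat.card D).factorization p = D.index.factorization p := by
    have := factorization_add_index (p := p) D
    omega
  rw [hA, Nat.card_eq_fintype_card]
  choose x hxC hxreg Q hQ using fun i => (hK (K i)).1 ⟨i, rfl⟩
  have hKx : ∀ i, K i = ConjClasses.mk (x i) := fun i => (ConjClasses.mem_carrier_iff_mk_eq.1 (hxC i)).symm
  have hxv : ∀ i, (Nat.card (Subgroup.centralizer ({x i} : Set G))).factorization p = (Nat.card D).factorization p := by
    intro i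
    have h1 := card_map_sylow (Q i)
    rw [hQ i] at h1
    rw [h1, Nat.factorization_pow]
    simp [hp.out.factorization_self]
  have hsurj : ∀ g : G, ¬ p ∣ orderOf g → D ≤ Subgroup.centralizer ({g} : Set G) →
      (Nat.card (Subgroup.centralizer ({g} : Set G))).factorization p ≤ (Nat.card D).factorization p →
      ∃ i, ConjClasses.mk (x i) = ConjClasses.mk g := by
    intro g hg hle hv
    obtain ⟨Q', hQ'⟩ := exists_sylow_of_le hDp hle hv
    obtain ⟨i, hi⟩ := (hK (ConjClasses.mk g)).2 ⟨g, ConjClasses.mem_carrier_mk, hg, Q', hQ'⟩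
    exact ⟨i, by rw [← hKx, hi]⟩
  have hinj : Function.Injective fun i => ConjClasses.mk (x i) := by
    intro i j h
    apply hKinj
    rw [hKx, hKx]
    exact h
  have hinj' : Function.Injective fun i => ConjClasses.mk (x i)⁻¹ := by
    intro i j h
    apply hinj
    simp only at h ⊢
    rw [ConjClasses.mk_eq_mk_iff_isConj] at h ⊢
    exact (isConj_inv_inv_iff' _ _).1 h
  have hsurj' : ∀ g : G, ¬ p ∣ orderOf g → D ≤ Subgroup.centralizer ({g} : Set G) →
      (Nat.card (Subgroup.centralizer ({g} : Set G))).factorization p ≤ (Nat.card D).factorization p →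
      ∃ i, ConjClasses.mk (x i)⁻¹ = ConjClasses.mk g := by
    intro g hg hle hv
    obtain ⟨i, hi⟩ := hsurj g⁻¹ (by rwa [orderOf_inv]) (by rwa [centralizer_singleton_inv])
      (by rwa [centralizer_singleton_inv])
    refine ⟨i, ?_⟩
    rw [ConjClasses.mk_eq_mk_iff_isConj] at hi ⊢
    have := (isConj_inv_of_isConj hi)
    rwa [inv_inv] at this
  obtain ⟨P, hP⟩ : ∃ P : ℂ, P = ((p ^ D.index.factorization p : ℕ) : ℂ) := ⟨_, rfl⟩
  have hP0 : P ≠ 0 := by
    rw [hP]
    exact Nat.cast_ne_zero.2 (pow_ne_zero _ hp.out.ne_zero)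
  have hS : IsPGroup p (S : Subgroup G) := S.isPGroup'
  have hSi : ¬ p ∣ (S : Subgroup G).index := S.not_dvd_index
  obtain ⟨chi, hchi⟩ : ∃ chi : {B : Set (IrrCharacter G) // IsPBlock M B ∧ IsDefectGroup p M B D} → IrrCharacter G,
      ∀ t, chi t ∈ t.1 := ⟨fun t => (IsPBlock_nonempty t.2.1).some, fun t => (IsPBlock_nonempty t.2.1).some_mem⟩
  have hcong := fun i j => omega_cong hM hDp (S : Subgroup G) hS hSi (x i)⁻¹ (x j)
    (by rw [centralizer_singleton_inv]; exact hxv i) (hxv j).le chi hchi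
  rw [← hP] at hcong
  have hcard : ∀ i j, (Nat.card {yz : G × G // yz.1 ∈ (K i).carrier ∧ yz.2 ∈ (K j).carrier ∧
      yz.2 * yz.1⁻¹ ∈ (S : Subgroup G)} : ℂ) =
      tr (fun g => if g ∈ (S : Subgroup G) then 1 else 0) (classSum (x j) * classSum (x i)⁻¹) := by
    intro i j
    rw [hKx, hKx]
    exact count_eq_tr _ _ _
  have hdvd : ∀ i j, p ^ D.index.factorization p ∣ Nat.card {yz : G × G // yz.1 ∈ (K i).carrier ∧ yz.2 ∈ (K j).carrier ∧
      yz.2 * yz.1⁻¹ ∈ (S : Subgroup G)} := by
    intro i j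
    apply pow_dvd_of_memLocalRing hM
    rw [hcard, ← hP]
    exact (hcong i j).1
  have hN : ∀ i j, ((Nat.card {yz : G × G // yz.1 ∈ (K i).carrier ∧ yz.2 ∈ (K j).carrier ∧
      yz.2 * yz.1⁻¹ ∈ (S : Subgroup G)} / p ^ D.index.factorization p : ℕ) : ℂ) =
      tr (fun g => if g ∈ (S : Subgroup G) then 1 else 0) (classSum (x j) * classSum (x i)⁻¹) / P := by
    intro i j
    rw [Nat.cast_div (hdvd i j) (by rw [← hP]; exact hP0), hcard, hP]
  have hc := fun t : {B : Set (IrrCharacter G) // IsPBlock M B ∧ IsDefectGroup p M B D} =>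
    blockCoeff_one_unit hM hDp t.2.1 t.2.2
  rw [← hP] at hc
  have hcinv : ∀ t : {B : Set (IrrCharacter G) // IsPBlock M B ∧ IsDefectGroup p M B D},
      MemLocalRing M (blockCoeff t.1 1 / P)⁻¹ := fun t => memLocalRing_inv (hc t).1 (hc t).2
  have hc0 : ∀ t : {B : Set (IrrCharacter G) // IsPBlock M B ∧ IsDefectGroup p M B D},
      (blockCoeff t.1 1 / P) ≠ 0 := fun t => ne_zero_of_not_memLocalIdeal (hc t).2
  have hmemblock : ∀ t t' : {B : Set (IrrCharacter G) // IsPBlock M B ∧ IsDefectGroup p M B D},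
      chi t ∈ t'.1 ↔ t = t' := by
    intro t t'
    constructor
    · intro h
      apply Subtype.ext
      rw [blockOf_eq_of_mem t.2.1 (hchi t), blockOf_eq_of_mem t'.2.1 h]
    · rintro rfl
      exact hchi t
  symm
  refine rank_zmod_of_local hM _
    (fun i t => (blockCoeff t.1 1 / P) * centralChar (chi t : G → ℂ) (x i)⁻¹)
    (fun t j => centralChar (chi t : G → ℂ) (x j))
    (fun t i => (blockCoeff t.1 1 / P)⁻¹ * blockCoeff t.1 (x i)⁻¹)
    (fun j t => blockCoeff t.1 (x j)) ?_ ?_ ?_ ?_ ?_ ?_ ?_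
  · exact fun i t => memLocalRing_mul (hc t).1 (memLocalRing_centralChar (chi t).2 _)
  · exact fun t j => memLocalRing_centralChar (chi t).2 _
  · exact fun t i => memLocalRing_mul (hcinv t) (memLocalRing_blockCoeff (isBlockUnion_of_isPBlock t.2.1) _)
  · exact fun j t => memLocalRing_blockCoeff (isBlockUnion_of_isPBlock t.2.1) _
  · intro i j
    rw [hN]
    have h1 := (hcong i j).2
    have h2 : ∑ t : {B : Set (IrrCharacter G) // IsPBlock M B ∧ IsDefectGroup p M B D},
        (blockCoeff t.1 1 / P) * centralChar (chi t : G → ℂ) (x i)⁻¹ * centralChar (chi t : G → ℂ) (x j) =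
        ∑ t : {B : Set (IrrCharacter G) // IsPBlock M B ∧ IsDefectGroup p M B D},
        (blockCoeff t.1 1 / P) * (centralChar (chi t : G → ℂ) (x i)⁻¹ * centralChar (chi t : G → ℂ) (x j)) :=
      Finset.sum_congr rfl fun t _ => mul_assoc _ _ _
    rw [h2]
    exact h1
  · intro t t'
    have h1 := sum_family hM hDp t.2.1 t.2.2 (chi t') (fun i => (x i)⁻¹) hinj' hsurj'
    have h2 : ∑ i, (blockCoeff t.1 1 / P)⁻¹ * blockCoeff t.1 (x i)⁻¹ * ((blockCoeff t'.1 1 / P) * centralChar (chi t' : G → ℂ) (x i)⁻¹) -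
        (if t = t' then 1 else 0) = (blockCoeff t.1 1 / P)⁻¹ * (blockCoeff t'.1 1 / P) *
          (∑ i, blockCoeff t.1 (x i)⁻¹ * centralChar (chi t' : G → ℂ) (x i)⁻¹ - if chi t' ∈ t.1 then 1 else 0) := by
      by_cases h : t = t'
      · subst h
        rw [if_pos rfl, if_pos (hchi t), inv_mul_cancel₀ (hc0 t), one_mul]
        congr 1
        refine Finset.sum_congr rfl fun i _ => ?_
        calc _ = ((blockCoeff t.1 1 / P)⁻¹ * (blockCoeff t.1 1 / P)) *
              (blockCoeff t.1 (x i)⁻¹ * centralChar (chi t : G → ℂ) (x i)⁻¹) := by ring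
          _ = _ := by rw [inv_mul_cancel₀ (hc0 t), one_mul]
      · have h3 : ¬ chi t' ∈ t.1 := fun hh => h ((hmemblock t' t).1 hh).symm
        rw [if_neg h, if_neg h3, sub_zero, sub_zero, Finset.mul_sum]
        refine Finset.sum_congr rfl fun i _ => ?_
        ring
    rw [h2]
    exact memLocalIdeal_mul_left (memLocalRing_mul (hcinv t) (hc t').1) h1
  · intro t t'
    have h1 := sum_family hM hDp t'.2.1 t'.2.2 (chi t) x hinj hsurj
    have h2 : ∑ j, centralChar (chi t : G → ℂ) (x j) * blockCoeff t'.1 (x j) = ∑ j, blockCoeff t'.1 (x j) * centralChar (chi t : G → ℂ) (x j) :=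
      Finset.sum_congr rfl fun j _ => mul_comm _ _
    have h3 : (if t = t' then (1 : ℂ) else 0) = if chi t ∈ t'.1 then 1 else 0 := by
      simp only [hmemblock t t']
    rw [h2, h3]
    exact h1

end OR

end Cfsg.Agent.Lib.Block
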