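import Cfsg.Agent.Lib.Block.CentralDefect3

/-!
# Blocks of `G = P C_G(P)` with defect group `P`: restriction to `P`

For a block `B` with defect group `P` of `G = P C_G(P)` with canonical character `θ`, restriction to `P`
divided by `θ(1)` is a bijection from `B` onto `Irr(P)`.
-/

set_option autoImplicit false
set_option linter.unusedSectionVars false
set_option linter.unusedSimpArgs false
set_option linter.unusedVariables false

open scoped ComplexConjugate
open Cfsg MonoidAlgebra Cfsg.Agent.Lib.Char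

namespace Cfsg.Agent.Lib.Block

section PC

variable {G : Type*} [Group G] [Fintype G] {p : ℕ} [hp : Fact p.Prime] {M : Ideal AlgInt} {P : Subgroup G}

/-- `Σ_g f(g)` as a sum over the sections through `P`. -/
theorem sum_eq_sum_section [Fintype P] (hP : IsPGroup p P)
    (hC : ∀ g : G, ¬ p ∣ orderOf g → g ∈ Subgroup.centralizer (P : Set G)) (f : G → ℂ)
    (hf : ∀ g x, IsPPart p g x → x ∉ P → f g = 0) :
    ∑ g, f g = ∑ x : P, ∑ y : G, if p ∣ orderOf y then 0 else f (x * y) := by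
  classical
  have hpart : ∀ (x : P) (y : G), ¬ p ∣ orderOf y → IsPPart p ((x : G) * y) x := by
    intro x y hy
    obtain ⟨j, hj⟩ := (isPPart_of_pElement hP x.2)
    refine ⟨y, rfl, ?_, hj.2.2.1, hy⟩
    have h0 := (Subgroup.mem_centralizer_iff.1 (hC y hy) x x.2)
    exact h0
  have h1 : ∀ x : P, (∑ y : G, if p ∣ orderOf y then 0 else f (x * y)) =
      ∑ y ∈ Finset.univ.filter (fun y : G => ¬ p ∣ orderOf y), f (x * y) := by
    intro x
    rw [Finset.sum_filter]
    refine Finset.sum_congr rfl fun y _ => ?_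
    by_cases hy : p ∣ orderOf y
    · rw [if_pos hy, if_neg (not_not.2 hy)]
    · rw [if_neg hy, if_pos hy]
  simp only [h1]
  rw [← Finset.sum_product' (Finset.univ : Finset P) (Finset.univ.filter (fun y : G => ¬ p ∣ orderOf y))
    (fun x y => f ((x : G) * y))]
  symm
  refine Finset.sum_of_injOn (fun a : P × G => (a.1 : G) * a.2) ?_ (fun _ _ => Finset.mem_coe.2 (Finset.mem_univ _)) ?_ ?_
  · rintro ⟨x, y⟩ hxy ⟨x', y'⟩ hxy' he
    simp only [Finset.coe_product, Set.mem_prod, Finset.coe_univ, Set.mem_univ, true_and, Finset.coe_filter,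
      Finset.mem_univ, Set.mem_ofPred_eq] at hxy hxy'
    simp only at he
    have h2 := hpart x y hxy
    have h3 := hpart x' y' hxy'
    rw [← he] at h3
    have h4 : (x : G) = x' := IsPPart_eq h2 h3
    have h5 : x = x' := Subtype.ext h4
    subst h5
    have h6 : y = y' := mul_left_cancel he
    rw [h6]
  · intro g _ hg
    obtain ⟨x, hx⟩ := isPPart_exists (p := p) g
    apply hf g x hx
    intro hxP
    apply hg
    obtain ⟨y, rfl, _, _, hy⟩ := hx
    refine ⟨(⟨x, hxP⟩, y), ?_, rfl⟩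
    simp [hy]
  · rintro ⟨x, y⟩ _
    rfl

/-- Regular elements of `G` correspond to regular elements of `G / P`. -/
theorem sum_reg_eq_sum_quot [P.Normal] [Fintype (G ⧸ P)] (hP : IsPGroup p P)
    (hC : ∀ g : G, ¬ p ∣ orderOf g → g ∈ Subgroup.centralizer (P : Set G)) (F : G ⧸ P → ℂ)
    (hF : ∀ k, p ∣ orderOf k → F k = 0) :
    (∑ y : G, if p ∣ orderOf y then 0 else F (y : G ⧸ P)) = ∑ k, F k := by
  classical
  have h1 : (∑ y : G, if p ∣ orderOf y then 0 else F (y : G ⧸ P)) =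
      ∑ y ∈ Finset.univ.filter (fun y : G => ¬ p ∣ orderOf y), F (y : G ⧸ P) := by
    rw [Finset.sum_filter]
    refine Finset.sum_congr rfl fun y _ => ?_
    by_cases hy : p ∣ orderOf y
    · rw [if_pos hy, if_neg (not_not.2 hy)]
    · rw [if_neg hy, if_pos hy]
  rw [h1]
  refine Finset.sum_of_injOn (fun y : G => (y : G ⧸ P)) ?_ (fun _ _ => Finset.mem_coe.2 (Finset.mem_univ _)) ?_ ?_
  · intro y hy y' hy' he
    simp only [Finset.coe_filter, Finset.mem_univ, true_and, Set.mem_ofPred_eq] at hy hy'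
    exact reg_inj hP hy hy' (hC y hy) he
  · intro k _ hk
    apply hF
    by_contra hkk
    obtain ⟨g, hg, rfl⟩ := reg_surj k hkk
    apply hk
    refine ⟨g, ?_, rfl⟩
    simp [hg]
  · intro y _
    rfl

/-- The inner product formula on a block. -/
theorem inner_restrict_eq [hPn : P.Normal] [Fintype (G ⧸ P)] [Fintype P] (hM : IsPModular p M) (hP : IsPGroup p P)
    (hG : P ⊔ Subgroup.centralizer (P : Set G) = ⊤) {B : Set (IrrCharacter G)}
    (hB : IsPBlock M B) (hD : IsDefectGroup p M B P) {ψ : IrrCharacter (G ⧸ P)}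
    (hψ : Cfsg.Agent.Lib.Degree.inflate P ψ ∈ B) {ξ ξ' : IrrCharacter G} (hξ : ξ ∈ B) (hξ' : ξ' ∈ B) :
    classInner (fun x : P => (ξ : G → ℂ) x) (fun x : P => (ξ' : G → ℂ) x) =
      (charDegree (ψ : G ⧸ P → ℂ) : ℂ) ^ 2 * classInner (ξ : G → ℂ) (ξ' : G → ℂ) := by
  classical
  have := isPModular_isPrime hM
  haveI : Fintype (Subgroup.centralizer (P : Set G)) := Fintype.ofFinite _
  have hidx := exists_index_centralizer hG hP
  have hC : ∀ g : G, ¬ p ∣ orderOf g → g ∈ Subgroup.centralizer (P : Set G) := fun g hg =>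
    mem_of_regular_of_index _ hidx hg
  have hc1 : (ψ : G ⧸ P → ℂ) 1 = (charDegree (ψ : G ⧸ P → ℂ) : ℂ) := map_one_eq_charDegree (IsIrrCharacter.isCharacter ψ.2)
  set c : ℂ := (charDegree (ψ : G ⧸ P → ℂ) : ℂ) with hc
  have hc0 : c ≠ 0 := by rw [← hc1]; exact isIrr_one_ne_zero ψ.2
  have hconjc : conj c = c := by rw [hc]; simp
  have hsing := blockOf_quot_singleton hM hD hψ
  -- the basic identity
  have hprod : ∀ (x : P) (y : G), ¬ p ∣ orderOf y →
      c ^ 2 * ((ξ : G → ℂ) (x * y) * conj ((ξ' : G → ℂ) (x * y))) =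
        ((ξ : G → ℂ) x * conj ((ξ' : G → ℂ) x)) * ((ψ : G ⧸ P → ℂ) (y : G ⧸ P) * conj ((ψ : G ⧸ P → ℂ) (y : G ⧸ P))) := by
    intro x y hy
    have h1 := irr_mul_reg hM hP hG hB hD hψ hξ x.2 hy
    have h2 := irr_mul_reg hM hP hG hB hD hψ hξ' x.2 hy
    have h3 := congrArg conj h2
    simp only [map_mul] at h3
    rw [hc1, hconjc] at h3
    rw [hc1] at h1
    linear_combination (c * conj ((ξ' : G → ℂ) (x * y))) * h1 + ((ξ : G → ℂ) x * (ψ : G ⧸ P → ℂ) (y : G ⧸ P)) * h3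
  -- vanishing
  have hvan : ∀ g x, IsPPart p g x → x ∉ P → (ξ : G → ℂ) g * conj ((ξ' : G → ℂ) g) = 0 := by
    intro g x hx hxP
    rw [eq_zero_of_pPart_notMem_defect hM ξ hx, zero_mul]
    intro D hD'
    rw [← blockOf_eq_of_mem hB hξ] at hD'
    rw [eq_of_isDefectGroup_normal hM hB hD hD']
    exact hxP
  have hsum := sum_eq_sum_section hP hC (fun g => (ξ : G → ℂ) g * conj ((ξ' : G → ℂ) g)) hvan
  -- the quotient sum
  have hquot : ∑ k : G ⧸ P, (ψ : G ⧸ P → ℂ) k * conj ((ψ : G ⧸ P → ℂ) k) = (Nat.card (G ⧸ P) : ℂ) := by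
    have h1 := classInner_irr_self ψ.2
    unfold classInner at h1
    have h2 : (Nat.card (G ⧸ P) : ℂ) ≠ 0 := by exact_mod_cast Nat.card_pos.ne'
    field_simp at h1
    exact h1
  have hquot' : (∑ y : G, if p ∣ orderOf y then 0 else
      (ψ : G ⧸ P → ℂ) (y : G ⧸ P) * conj ((ψ : G ⧸ P → ℂ) (y : G ⧸ P))) = (Nat.card (G ⧸ P) : ℂ) := by
    rw [← hquot]
    refine sum_reg_eq_sum_quot hP hC (fun k => (ψ : G ⧸ P → ℂ) k * conj ((ψ : G ⧸ P → ℂ) k)) ?_
    intro k hk
    rw [eq_zero_of_blockOf_eq_singleton hM ψ hsing hk, zero_mul]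
  -- assemble
  have hmain : c ^ 2 * ∑ g, (ξ : G → ℂ) g * conj ((ξ' : G → ℂ) g) =
      (∑ x : P, (ξ : G → ℂ) x * conj ((ξ' : G → ℂ) x)) * (Nat.card (G ⧸ P) : ℂ) := by
    rw [hsum, Finset.mul_sum, Finset.sum_mul]
    refine Finset.sum_congr rfl fun x _ => ?_
    rw [← hquot', Finset.mul_sum, Finset.mul_sum]
    refine Finset.sum_congr rfl fun y _ => ?_
    by_cases hy : p ∣ orderOf y
    · rw [if_pos hy, if_pos hy]
      simp
    · rw [if_neg hy, if_neg hy]
      exact hprod x y hy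
  have hcardG : (Nat.card G : ℂ) = (Nat.card P : ℂ) * (Nat.card (G ⧸ P) : ℂ) := by
    have := Subgroup.card_mul_index P
    rw [← this, Subgroup.index_eq_card]
    push_cast
    ring
  have hP0 : (Nat.card P : ℂ) ≠ 0 := by exact_mod_cast Nat.card_pos.ne'
  have hQ0 : (Nat.card (G ⧸ P) : ℂ) ≠ 0 := by exact_mod_cast Nat.card_pos.ne'
  unfold classInner
  rw [hcardG]
  field_simp
  linear_combination -hmain

/-- Parseval. -/
theorem classInner_eq_sum_irr {H : Type*} [Group H] [Fintype H] (φ φ' : H → ℂ) (hφ : IsClassFunction H φ) :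
    classInner φ φ' = ∑ ζ : IrrCharacter H, classInner φ (ζ : H → ℂ) * conj (classInner φ' (ζ : H → ℂ)) := by
  classical
  conv_lhs => rw [classFunction_eq_sum φ hφ]
  rw [classInner_sum_left]
  refine Finset.sum_congr rfl fun ζ _ => ?_
  rw [classInner_smul_left, conj_classInner]

/-- The restriction of a character of the block to `P` is a multiple of one irreducible character, and all
irreducible characters of `P` occur. -/
theorem restrict_block [hPn : P.Normal] [Fintype (G ⧸ P)] [Fintype P] (hM : IsPModular p M) (hP : IsPGroup p P)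
    (hG : P ⊔ Subgroup.centralizer (P : Set G) = ⊤) {B : Set (IrrCharacter G)}
    (hB : IsPBlock M B) (hD : IsDefectGroup p M B P) {ψ : IrrCharacter (G ⧸ P)}
    (hψ : Cfsg.Agent.Lib.Degree.inflate P ψ ∈ B) :
    (∀ ξ ∈ B, ∃ ζ : IrrCharacter P, ∀ x : P, (ξ : G → ℂ) x = (charDegree (ψ : G ⧸ P → ℂ) : ℂ) * (ζ : P → ℂ) x) ∧
    (∀ ζ : IrrCharacter P, ∃ ξ ∈ B, ∀ x : P, (ξ : G → ℂ) x = (charDegree (ψ : G ⧸ P → ℂ) : ℂ) * (ζ : P → ℂ) x) := by
  classical
  have hmain := central_defect_main hM hP hG hB hD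
  set c : ℂ := (charDegree (ψ : G ⧸ P → ℂ) : ℂ) with hc
  have hc1 : (ψ : G ⧸ P → ℂ) 1 = c := map_one_eq_charDegree (IsIrrCharacter.isCharacter ψ.2)
  have hc0 : c ≠ 0 := by rw [← hc1]; exact isIrr_one_ne_zero ψ.2
  have hres : ∀ ξ : IrrCharacter G, IsCharacter P (fun x : P => (ξ : G → ℂ) x) := fun ξ =>
    IsCharacter.restrict P (IsIrrCharacter.isCharacter ξ.2)
  let a : IrrCharacter G → IrrCharacter P → ℂ := fun ξ ζ => classInner (fun x : P => (ξ : G → ℂ) x) (ζ : P → ℂ)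
  have hnat : ∀ ξ ζ, ∃ n : ℕ, a ξ ζ = n := fun ξ ζ =>
    classInner_isCharacter_nat (hres ξ) (IsIrrCharacter.isCharacter ζ.2)
  have hpars : ∀ ξ ξ' : IrrCharacter G, classInner (fun x : P => (ξ : G → ℂ) x) (fun x : P => (ξ' : G → ℂ) x) =
      ∑ ζ, a ξ ζ * conj (a ξ' ζ) := fun ξ ξ' =>
    classInner_eq_sum_irr _ _ (isClassFunction_restrict P ξ)
  -- orthogonality with nonnegative entries
  have horth : ∀ ξ ∈ B, ∀ ξ' ∈ B, ξ ≠ ξ' → ∀ ζ, a ξ ζ = 0 ∨ a ξ' ζ = 0 := by
    intro ξ hξ ξ' hξ' hne ζ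
    have h1 := inner_restrict_eq hM hP hG hB hD hψ hξ hξ'
    rw [classInner_irr_of_ne ξ.2 ξ'.2 (fun h => hne (Subtype.ext h)), mul_zero, hpars] at h1
    choose n hn using hnat
    simp only [hn, Complex.conj_natCast] at h1
    have h2 : ∑ ζ, n ξ ζ * n ξ' ζ = 0 := by exact_mod_cast h1
    have h3 := (Finset.sum_eq_zero_iff.1 h2) ζ (Finset.mem_univ _)
    rcases Nat.mul_eq_zero.1 h3 with h4 | h4
    · left
      rw [hn, h4]
      simp
    · right
      rw [hn, h4]
      simp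
  -- choice of a constituent
  have hex : ∀ ξ : IrrCharacter G, ∃ ζ, a ξ ζ ≠ 0 := fun ξ => exists_constituent P ξ
  choose f hf using hex
  have hinj : Function.Injective (fun ξ : B => f ξ) := by
    rintro ⟨ξ, hξ⟩ ⟨ξ', hξ'⟩ h
    by_contra hne
    have hne' : ξ ≠ ξ' := fun h' => hne (Subtype.ext h')
    simp only at h
    rcases horth ξ hξ ξ' hξ' hne' (f ξ) with h1 | h1
    · exact hf ξ h1
    · rw [h] at h1
      exact hf ξ' h1
  have hcard : Nat.card B = Nat.card (IrrCharacter P) := by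
    rw [hmain.2.2, card_irr_eq_card_conjClasses]
  have hbij : Function.Bijective (fun ξ : B => f ξ) := by
    refine (Nat.bijective_iff_injective_and_card _).2 ⟨hinj, hcard⟩
  have hsupp : ∀ ξ ∈ B, ∀ ζ, ζ ≠ f ξ → a ξ ζ = 0 := by
    intro ξ hξ ζ hζ
    obtain ⟨⟨ξ', hξ'⟩, rfl⟩ := hbij.2 ζ
    simp only at hζ ⊢
    have hne : ξ ≠ ξ' := by
      rintro rfl
      exact hζ rfl
    rcases horth ξ hξ ξ' hξ' hne (f ξ') with h1 | h1
    · exact h1
    · exact absurd h1 (hf ξ')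
  have hform : ∀ ξ ∈ B, ∀ x : P, (ξ : G → ℂ) x = c * (f ξ : P → ℂ) x := by
    intro ξ hξ x
    -- the coefficient
    have h1 := inner_restrict_eq hM hP hG hB hD hψ hξ hξ
    rw [classInner_irr_self ξ.2, mul_one, hpars, Finset.sum_eq_single (f ξ)] at h1
    · obtain ⟨n, hn⟩ := hnat ξ (f ξ)
      rw [hn, Complex.conj_natCast] at h1
      have h2 : n * n = charDegree (ψ : G ⧸ P → ℂ) ^ 2 := by exact_mod_cast h1
      have h3 : n = charDegree (ψ : G ⧸ P → ℂ) := by nlinarith [Nat.zero_le n, Nat.zero_le (charDegree (ψ : G ⧸ P → ℂ))]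
      have h4 := congrFun (classFunction_eq_sum (fun x : P => (ξ : G → ℂ) x) (isClassFunction_restrict P ξ)) x
      rw [Finset.sum_apply, Finset.sum_eq_single (f ξ)] at h4
      · simp only [Pi.smul_apply, smul_eq_mul] at h4
        have h5 : classInner (fun x : P => (ξ : G → ℂ) x) ((f ξ : IrrCharacter P) : P → ℂ) = c := by
          have : a ξ (f ξ) = n := hn
          rw [h3] at this
          exact this
        rw [h5] at h4
        exact h4
      · intro ζ _ hζ
        have : a ξ ζ = 0 := hsupp ξ hξ ζ hζ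
        simp only [Pi.smul_apply, smul_eq_mul]
        rw [show classInner (fun x : P => (ξ : G → ℂ) x) (ζ : P → ℂ) = 0 from this, zero_mul]
      · simp
    · intro ζ _ hζ
      rw [hsupp ξ hξ ζ hζ, zero_mul]
    · simp
  constructor
  · intro ξ hξ
    exact ⟨f ξ, hform ξ hξ⟩
  · intro ζ
    obtain ⟨⟨ξ, hξ⟩, rfl⟩ := hbij.2 ζ
    exact ⟨ξ, hξ, hform ξ hξ⟩

end PC

end Cfsg.Agent.Lib.Block
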