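import Cfsg.Agent.Lib.Block.Restrict
import Cfsg.Agent.Lib.Block.Extended
import Cfsg.Agent.Lib.CharExtra.Ito

/-!
# Normal defect groups: stabilizers and Reynolds' theorem
-/

set_option autoImplicit false
set_option linter.unusedSectionVars false
set_option linter.unusedSimpArgs false
set_option linter.unusedVariables false

open scoped ComplexConjugate
open Cfsg MonoidAlgebra Cfsg.Agent.Lib.Char

namespace Cfsg.Agent.Lib.Block

section Normal

variable {G : Type*} [Group G] [Fintype G] {p : ℕ} [hp : Fact p.Prime] {M : Ideal AlgInt}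

/-- `p`-elements of the centralizer of a conjugate of a defect class lie in a normal defect group. -/
theorem pElement_mem_of_centralizer {Q : Subgroup G} [hQn : Q.Normal] {y : G}
    (S : Sylow p (Subgroup.centralizer ({y} : Set G)))
    (hS : Q = (S : Subgroup (Subgroup.centralizer ({y} : Set G))).map (Subgroup.centralizer ({y} : Set G)).subtype)
    {g u : G} (hu : u ∈ Subgroup.centralizer ({g * y * g⁻¹} : Set G)) (hup : ∃ k, orderOf u = p ^ k) : u ∈ Q := by
  classical
  have hu' : g⁻¹ * u * g ∈ Subgroup.centralizer ({y} : Set G) := by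
    rw [mem_centralizer_singleton] at hu ⊢
    calc g⁻¹ * u * g * y = g⁻¹ * (u * (g * y * g⁻¹)) * g := by group
      _ = g⁻¹ * ((g * y * g⁻¹) * u) * g := by rw [hu]
      _ = y * (g⁻¹ * u * g) := by group
  let c : Subgroup.centralizer ({y} : Set G) := ⟨g⁻¹ * u * g, hu'⟩
  have hcp : IsPGroup p (Subgroup.zpowers c) := by
    obtain ⟨k, hk⟩ := hup
    apply IsPGroup.of_card (n := k)
    rw [Nat.card_zpowers, ← Subgroup.orderOf_coe]
    have : ((c : Subgroup.centralizer ({y} : Set G)) : G) = u⁻¹ * u * (g⁻¹ * u * g) := by simp [c]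
    have h2 : orderOf (c : G) = orderOf u := by
      have := orderOf_conj g⁻¹ u
      simpa [c] using this
    rw [h2, hk]
  obtain ⟨S', hS'⟩ := hcp.exists_le_sylow
  obtain ⟨d, hd⟩ := MulAction.exists_smul_eq (Subgroup.centralizer ({y} : Set G)) S' S
  have hcS' : c ∈ (S' : Subgroup (Subgroup.centralizer ({y} : Set G))) := hS' (Subgroup.mem_zpowers c)
  have h1 : d * c * d⁻¹ ∈ (S : Subgroup (Subgroup.centralizer ({y} : Set G))) := by
    rw [← hd, Sylow.coe_subgroup_smul]
    exact Subgroup.smul_mem_pointwise_smul _ (MulAut.conj d) _ hcS'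
  have h2 : (d : G) * (c : G) * (d : G)⁻¹ ∈ Q := by
    rw [hS]
    exact ⟨_, h1, rfl⟩
  have h3 : (c : G) ∈ Q := by
    have := hQn.conj_mem _ h2 (d : G)⁻¹
    simpa [mul_assoc] using this
  have h4 := hQn.conj_mem _ h3 g
  have h5 : g * (c : G) * g⁻¹ = u := by simp [c]; group
  rwa [h5] at h4

/-- The central characters of a character of `G` and of a constituent on a normal subgroup containing
`C_G(Q)` are congruent. -/
theorem memLocalIdeal_induced_sub_centralChar {L Q : Subgroup G} [hL : L.Normal] [Fintype L] [M.IsPrime]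
    [Q.Normal] (hM : IsPModular p M) (hQ : IsPGroup p Q) (hCL : Subgroup.centralizer (Q : Set G) ≤ L)
    (χ : IrrCharacter G) (ξ : IrrCharacter L)
    (hc : classInner (fun n : L => (χ : G → ℂ) n) (ξ : L → ℂ) ≠ 0) (g : G) :
    MemLocalIdeal M (inducedCentralChar L (ξ : L → ℂ) g - centralChar (χ : G → ℂ) g) := by
  classical
  by_cases hg : g ∈ L
  · have := (constituent_iff_centralChar L χ ξ).1 hc ⟨g, hg⟩
    simp only at this
    rw [this, sub_self]
    exact memLocalIdeal_zero
  · have h3 : inducedCentralChar L (ξ : L → ℂ) g = 0 := by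
      unfold inducedCentralChar
      apply finsum_mem_eq_zero_of_forall_eq_zero
      intro k hk
      exfalso
      apply hg
      obtain ⟨c, hc'⟩ := isConj_iff.1 (IsConj.symm hk)
      rw [← hc']
      exact hL.conj_mem _ k.2 c
    rw [h3, zero_sub]
    apply memLocalIdeal_neg
    apply memLocalIdeal_centralChar_of_no_centralize hM Q hQ _ χ.2
    intro x hx hxC
    apply hg
    have hxL : x ∈ L := hCL hxC
    obtain ⟨c, hc'⟩ := isConj_iff.1 hx.symm
    rw [← hc']
    exact hL.conj_mem _ hxL c

/-- Constituents of characters over a block inducing `B` lie in `B`. -/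
theorem mem_block_of_constituent {L Q : Subgroup G} [hL : L.Normal] [Fintype L] [M.IsPrime]
    [Q.Normal] (hM : IsPModular p M) (hQ : IsPGroup p Q) (hCL : Subgroup.centralizer (Q : Set G) ≤ L)
    {b : Set (IrrCharacter L)} {B : Set (IrrCharacter G)} (hind : IsInducedBlock M L b B)
    {ξ : IrrCharacter L} (hξ : ξ ∈ b) (χ : IrrCharacter G)
    (hc : classInner (fun n : L => (χ : G → ℂ) n) (ξ : L → ℂ) ≠ 0) : χ ∈ B := by
  classical
  obtain ⟨χ₁, hχ₁⟩ := IsPBlock_nonempty hind.2.1
  rw [blockOf_eq_of_mem hind.2.1 hχ₁]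
  show SameBlock M (χ₁ : G → ℂ) (χ : G → ℂ)
  intro g
  have h1 := hind.2.2 ξ hξ χ₁ hχ₁ g
  have h2 := memLocalIdeal_induced_sub_centralChar hM hQ hCL χ ξ hc g
  rw [memLocalIdeal_sub_comm] at h1
  exact memLocalIdeal_sub_trans h1 h2


/-- Conjugation by `t` on the classes of a normal subgroup. -/
noncomputable def classPerm (L : Subgroup G) (hL : L.Normal) (t : G) : Equiv.Perm (ConjClasses L) where
  toFun := ConjClasses.map (conjEquiv hL t).toMonoidHom
  invFun := ConjClasses.map (conjEquiv hL t⁻¹).toMonoidHom
  left_inv c := by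
    obtain ⟨x, rfl⟩ := ConjClasses.mk_surjective c
    have : conjEquiv hL t⁻¹ (conjEquiv hL t x) = x := by
      apply Subtype.ext
      show t⁻¹ * (t * (x : G) * t⁻¹) * t⁻¹⁻¹ = x
      group
    show ConjClasses.mk (conjEquiv hL t⁻¹ (conjEquiv hL t x)) = ConjClasses.mk x
    rw [this]
  right_inv c := by
    obtain ⟨x, rfl⟩ := ConjClasses.mk_surjective c
    have : conjEquiv hL t (conjEquiv hL t⁻¹ x) = x := by
      apply Subtype.ext
      show t * (t⁻¹ * (x : G) * t⁻¹⁻¹) * t⁻¹ = x
      group
    show ConjClasses.mk (conjEquiv hL t (conjEquiv hL t⁻¹ x)) = ConjClasses.mk x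
    rw [this]

theorem classPerm_mk (L : Subgroup G) (hL : L.Normal) (t : G) (x : L) :
    classPerm L hL t (ConjClasses.mk x) = ConjClasses.mk (conjEquiv hL t x) := rfl

/-- Iterates of `classPerm`. -/
theorem classPerm_iterate (L : Subgroup G) (hL : L.Normal) (t : G) (k : ℕ) (x : L) :
    (classPerm L hL t)^[k] (ConjClasses.mk x) = ConjClasses.mk (conjEquiv hL (t ^ k) x) := by
  induction k with
  | zero =>
    simp only [Function.iterate_zero, id_eq, pow_zero]
    congr 1
    apply Subtype.ext
    show x = 1 * (x : G) * 1⁻¹ 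
    simp
  | succ k ih =>
    rw [Function.iterate_succ_apply', ih, classPerm_mk]
    congr 1
    apply Subtype.ext
    show t * (t ^ k * (x : G) * (t ^ k)⁻¹) * t⁻¹ = t ^ (k + 1) * (x : G) * (t ^ (k + 1))⁻¹
    rw [pow_succ']
    group

/-- **A `p`-element stabilizing a character of a block inducing a block with normal defect group `Q`
lies in `L`.** -/
theorem mem_of_mem_inertia {L Q : Subgroup G} [hLn : L.Normal] [Fintype L] [hQn : Q.Normal] (hM : IsPModular p M)
    (hQL : Q ≤ L) (hCL : Subgroup.centralizer (Q : Set G) ≤ L) {B : Set (IrrCharacter G)} (hB : IsPBlock M B)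
    (hD : IsDefectGroup p M B Q) {b : Set (IrrCharacter L)} (hind : IsInducedBlock M L b B)
    {ξ : IrrCharacter L} (hξ : ξ ∈ b) {t : G} (ht : ∃ k, orderOf t = p ^ k)
    (hti : t ∈ inertia hLn (ξ : L → ℂ)) : t ∈ L := by
  classical
  have := isPModular_isPrime hM
  have : Fintype (ConjClasses L) := Fintype.ofFinite _
  by_contra htL
  obtain ⟨y, hy, S, hS⟩ := id hD
  have hQp : IsPGroup p Q := isPGroup_of_isDefectGroup hD
  have hyC : y ∈ Subgroup.centralizer (Q : Set G) := by
    refine Subgroup.mem_centralizer_iff.mpr fun q hq => ?_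
    rw [hS] at hq
    obtain ⟨a, _, rfl⟩ := hq
    exact (mem_centralizer_singleton.1 a.2)
  obtain ⟨χ, hχ⟩ := IsPBlock_nonempty hB
  have hnot : ¬ MemLocalIdeal M (inducedCentralChar L (ξ : L → ℂ) y) := by
    intro h1
    apply hy.2.2 χ hχ
    have h2 := hind.2.2 ξ hξ χ hχ y
    rw [memLocalIdeal_sub_comm] at h2
    have := memLocalIdeal_add h2 h1
    simpa using this
  apply hnot
  have hcf := IsCharacter.isClassFunction (IsIrrCharacter.isCharacter ξ.2)
  rw [← om_resAlg_classSum, om_eq_sum_conjClasses (isCentralElt_resAlg L (isCentralElt_classSum y)) hcf]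
  set w : ConjClasses L → ℂ := fun c => (resAlg L (classSum y)).coeff c.out * centralChar (ξ : L → ℂ) c.out with hw
  have hinvx : ∀ x : L, centralChar (ξ : L → ℂ) (conjEquiv hLn t x) = centralChar (ξ : L → ℂ) x := by
    intro x
    rw [← centralChar_comp_equiv]
    have : (ξ : L → ℂ) ∘ (conjEquiv hLn t) = ξ := hti
    rw [this]
  have hcfc : ∀ (x c : L), centralChar (ξ : L → ℂ) (c * x * c⁻¹) = centralChar (ξ : L → ℂ) x := by
    intro x c
    unfold centralChar
    rw [hcf, index_centralizer_of_isConj (isConj_iff.2 ⟨c, rfl⟩).symm]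
  have hval : ∀ x : L, w (ConjClasses.mk x) = (resAlg L (classSum y)).coeff x * centralChar (ξ : L → ℂ) x := by
    intro x
    simp only [hw]
    have hconj : IsConj x (Quotient.out (ConjClasses.mk x)) :=
      (ConjClasses.mk_eq_mk_iff_isConj.1 (mk_quot_out _)).symm
    obtain ⟨c, hc⟩ := isConj_iff.1 hconj
    rw [← hc, hcfc]
    congr 1
    rw [coeff_resAlg, coeff_resAlg]
    push_cast
    exact isCentralElt_classSum y (c : G) (x : G)
  have key : ∃ r ∈ localRing M, ∑ c, w c = (p : ℂ) * r := by
    refine exists_sum_eq_mul_of_perm (localRing M) (classPerm L hLn t) p w ?_ ?_ ?_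
    · intro c
      exact memLocalRing_mul ((localCoeff_resAlg L (localCoeff_classSum y)) _) (memLocalRing_centralChar ξ.2 _)
    · intro c
      obtain ⟨x, rfl⟩ := ConjClasses.mk_surjective c
      rw [classPerm_mk, hval, hval, hinvx]
      congr 1
      rw [coeff_resAlg, coeff_resAlg]
      show (classSum y).coeff (t * (x : G) * t⁻¹) = _
      exact isCentralElt_classSum y t (x : G)
    · intro c hc
      obtain ⟨x, rfl⟩ := ConjClasses.mk_surjective c
      rw [hval] at hc
      have hxy : IsConj y (x : G) := by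
        by_contra hnc
        apply hc
        rw [coeff_resAlg, coeff_classSum, if_neg, zero_mul]
        exact fun h => hnc h
      -- the period
      obtain ⟨k, hk⟩ := ht
      have hper : (classPerm L hLn t)^[p ^ k] (ConjClasses.mk x) = ConjClasses.mk x := by
        rw [classPerm_iterate]
        congr 1
        apply Subtype.ext
        show t ^ p ^ k * (x : G) * (t ^ p ^ k)⁻¹ = x
        rw [← hk, pow_orderOf_eq_one]
        simp
      have hd : Function.minimalPeriod (classPerm L hLn t) (ConjClasses.mk x) ∣ p ^ k :=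
        Function.IsPeriodicPt.minimalPeriod_dvd hper
      obtain ⟨j, _, hj⟩ := (Nat.dvd_prime_pow hp.out).1 hd
      rw [hj]
      rcases j with _ | j
      · exfalso
        rw [pow_zero] at hj
        have hfix : classPerm L hLn t (ConjClasses.mk x) = ConjClasses.mk x :=
          Function.minimalPeriod_eq_one_iff_isFixedPt.1 hj
        rw [classPerm_mk, ConjClasses.mk_eq_mk_iff_isConj] at hfix
        obtain ⟨l, hl⟩ := isConj_iff.1 hfix
        -- `l t⁻¹`-like element in the centralizer
        have hl' : (l : G) * (t * (x : G) * t⁻¹) * (l : G)⁻¹ = x := congrArg Subtype.val hl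
        set w₀ : G := (l : G) * t with hw₀
        have hw₀C : w₀ ∈ Subgroup.centralizer ({(x : G)} : Set G) := by
          rw [mem_centralizer_singleton]
          calc w₀ * x = ((l : G) * (t * (x : G) * t⁻¹) * (l : G)⁻¹) * w₀ := by rw [hw₀]; group
            _ = x * w₀ := by rw [hl']
        obtain ⟨u, v, huv, hcomm, hu, hv, huz, hvz⟩ := exists_jordan (p := p) w₀
        have huC : u ∈ Subgroup.centralizer ({(x : G)} : Set G) :=
          (Subgroup.zpowers_le.2 hw₀C) huz
        obtain ⟨g, hg⟩ := isConj_iff.1 hxy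
        rw [← hg] at huC
        have huQ : u ∈ Q := pElement_mem_of_centralizer S hS huC hu
        -- `v` maps into a `p`-group
        have hvL : v ∈ L := by
          haveI := hLn
          have h1 : ((w₀ : G) : G ⧸ L) = (t : G ⧸ L) := by
            rw [hw₀, QuotientGroup.mk_mul, (QuotientGroup.eq_one_iff _).2 l.2, one_mul]
          have h2 : (t : G ⧸ L) ^ p ^ k = 1 := by
            rw [← QuotientGroup.mk_pow, ← hk, pow_orderOf_eq_one, QuotientGroup.mk_one]
          obtain ⟨m, rfl⟩ := Subgroup.mem_zpowers_iff.1 hvz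
          have h3 : ((w₀ ^ m : G) : G ⧸ L) ^ p ^ k = 1 := by
            rw [QuotientGroup.mk_zpow, h1, ← zpow_natCast, ← zpow_mul, mul_comm, zpow_mul, zpow_natCast, h2, one_zpow]
          have h4 : orderOf ((w₀ ^ m : G) : G ⧸ L) ∣ p ^ k := orderOf_dvd_of_pow_eq_one h3
          have h5 : orderOf ((w₀ ^ m : G) : G ⧸ L) ∣ orderOf (w₀ ^ m) :=
            orderOf_map_dvd (QuotientGroup.mk' L) (w₀ ^ m)
          have h6 : orderOf ((w₀ ^ m : G) : G ⧸ L) = 1 := by
            obtain ⟨i, _, hi⟩ := (Nat.dvd_prime_pow hp.out).1 h4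
            rcases i with _ | i
            · simpa using hi
            · exfalso
              apply hv
              rw [hi] at h5
              exact (dvd_pow_self p (Nat.succ_ne_zero i)).trans h5
          rw [orderOf_eq_one_iff] at h6
          exact (QuotientGroup.eq_one_iff _).1 h6
        have hw₀L : w₀ ∈ L := by
          rw [← huv]
          exact L.mul_mem (hQL huQ) hvL
        apply htL
        have : t = (l : G)⁻¹ * w₀ := by rw [hw₀]; group
        rw [this]
        exact L.mul_mem (L.inv_mem l.2) hw₀L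
      · exact dvd_pow_self p (Nat.succ_ne_zero j)
  obtain ⟨r, hr, hsum⟩ := key
  rw [hsum]
  apply memLocalIdeal_mul_right _ hr
  exact memLocalIdeal_p hM
/-- The `p`-part of the index of the inertia group is the `p`-part of the index of `L`. -/
theorem factorization_index_le_inertia {L Q : Subgroup G} [hLn : L.Normal] [Fintype L] [hQn : Q.Normal]
    (hM : IsPModular p M) (hQL : Q ≤ L) (hCL : Subgroup.centralizer (Q : Set G) ≤ L) {B : Set (IrrCharacter G)}
    (hB : IsPBlock M B) (hD : IsDefectGroup p M B Q) {b : Set (IrrCharacter L)} (hind : IsInducedBlock M L b B)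
    {ξ : IrrCharacter L} (hξ : ξ ∈ b) :
    L.index.factorization p ≤ (inertia hLn (ξ : L → ℂ)).index.factorization p := by
  classical
  set I := inertia hLn (ξ : L → ℂ) with hI
  obtain ⟨T⟩ : Nonempty (Sylow p I) := inferInstance
  have hTL : (T : Subgroup I).map I.subtype ≤ L := by
    rintro _ ⟨a, ha, rfl⟩
    obtain ⟨k, hk⟩ := T.isPGroup' ⟨a, ha⟩
    have h1 : (a : G) ^ p ^ k = 1 := by
      have := congrArg (fun z : T => ((z : I) : G)) hk
      simpa using this
    obtain ⟨j, _, hj⟩ := (Nat.dvd_prime_pow hp.out).1 (orderOf_dvd_of_pow_eq_one h1)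
    exact mem_of_mem_inertia hM hQL hCL hB hD hind hξ ⟨j, hj⟩ a.2
  have h1 : Nat.card T ∣ Nat.card L := by
    have h2 := Subgroup.card_dvd_of_le hTL
    rwa [Subgroup.card_map_of_injective (Subgroup.subtype_injective _)] at h2
  have h3 : (Nat.card I).factorization p ≤ (Nat.card L).factorization p := by
    have h4 := T.card_eq_multiplicity
    rw [h4] at h1
    exact (hp.out.pow_dvd_iff_le_factorization Nat.card_pos.ne').1 h1
  have hLI := Subgroup.card_mul_index L
  have hII := Subgroup.card_mul_index I
  have h0L : L.index ≠ 0 := Subgroup.index_ne_zero_of_finite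
  have h0I : I.index ≠ 0 := Subgroup.index_ne_zero_of_finite
  have hfL : (Nat.card L).factorization p + L.index.factorization p = (Nat.card G).factorization p := by
    rw [← hLI, Nat.factorization_mul Nat.card_pos.ne' h0L, Finsupp.add_apply]
  have hfI : (Nat.card I).factorization p + I.index.factorization p = (Nat.card G).factorization p := by
    rw [← hII, Nat.factorization_mul Nat.card_pos.ne' h0I, Finsupp.add_apply]
  omega

end Normal

section Main

variable {G : Type*} [Group G] [Fintype G] {p : ℕ} [hp : Fact p.Prime] {M : Ideal AlgInt}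

theorem sup_centralizer_subgroupOf_eq_top (P : Subgroup G) [P.Normal] :
    P.subgroupOf (P ⊔ Subgroup.centralizer (P : Set G)) ⊔
      Subgroup.centralizer ((P.subgroupOf (P ⊔ Subgroup.centralizer (P : Set G)) : Subgroup _) : Set _) = ⊤ := by
  rw [eq_top_iff]
  rintro ⟨x, hx⟩ -
  obtain ⟨y, hy, c, hc, rfl⟩ := Subgroup.mem_sup_of_normal_right.1 hx
  have hy' : y ∈ P ⊔ Subgroup.centralizer (P : Set G) := Subgroup.mem_sup_left hy
  have hc' : c ∈ P ⊔ Subgroup.centralizer (P : Set G) := Subgroup.mem_sup_right hc
  have h1 : (⟨y * c, hx⟩ : (P ⊔ Subgroup.centralizer (P : Set G) : Subgroup G)) = ⟨y, hy'⟩ * ⟨c, hc'⟩ := rfl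
  rw [h1]
  refine Subgroup.mul_mem_sup (Subgroup.mem_subgroupOf.2 hy) ?_
  rw [Subgroup.mem_centralizer_iff]
  rintro ⟨q, hq⟩ hq'
  have hq'' : q ∈ P := Subgroup.mem_subgroupOf.1 hq'
  apply Subtype.ext
  exact Subgroup.mem_centralizer_iff.1 hc q hq''

/-- **Reynolds' theorem.** -/
theorem reynolds (hM : IsPModular p M) {B : Set (IrrCharacter G)} (hB : IsPBlock M B) {P : Subgroup G} [hPn : P.Normal]
    (hP : IsDefectGroup p M B P) :
    (∀ a ∈ P, ∀ c ∈ P, a * c = c * a) ↔ ∀ χ ∈ B, blockHeight p B (χ : G → ℂ) = 0 := by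
  classical
  have := isPModular_isPrime hM
  have hPp : IsPGroup p P := isPGroup_of_isDefectGroup hP
  have hcard := card_defect_group hM hB hP
  have hne := IsPBlock_nonempty hB
  -- the minimal exponent
  have hmin : minExp p B + blockDefect p B = (Nat.card G).factorization p := by
    have h1 := minExp_le_factorization_card (p := p) hne
    have h2 : blockDefect p B = (Nat.card G).factorization p - minExp p B := rfl
    omega
  have hcardf : (Nat.card P).factorization p = blockDefect p B := by
    rw [hcard, Nat.factorization_pow, Finsupp.smul_apply, hp.out.factorization]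
    simp
  have hidxf : (Nat.card P).factorization p + P.index.factorization p = (Nat.card G).factorization p := by
    rw [← Subgroup.card_mul_index P, Nat.factorization_mul Nat.card_pos.ne' Subgroup.index_ne_zero_of_finite,
      Finsupp.add_apply]
  constructor
  · intro hab χ hχ
    obtain ⟨n, ρ, hρ, hn⟩ := χ.2
    have h1 : charDegree (χ : G → ℂ) ∣ P.index := by
      rw [← hn, charDegree_natCast (Representation.char_one ρ)]
      exact finrank_dvd_index_of_abelian_normal ρ hρ P hPn hab
    have h4 : (charDegree (χ : G → ℂ)).factorization p ≤ P.index.factorization p :=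
      (Nat.factorization_le_iff_dvd charDegree_ne_zero Subgroup.index_ne_zero_of_finite).2 h1 p
    have h5 := minExp_le (p := p) hχ
    unfold blockHeight
    unfold minExp at h5 hmin
    omega
  · intro h0
    by_contra hnab
    set L := P ⊔ Subgroup.centralizer (P : Set G) with hLdef
    haveI hLn : L.Normal := by
      rw [hLdef]
      infer_instance
    haveI : Fintype L := Fintype.ofFinite _
    have hPL : P ≤ L := le_sup_left
    have hCL : Subgroup.centralizer (P : Set G) ≤ L := le_sup_right
    obtain ⟨b, hbd, hind⟩ := exists_block_inducing_defect hM hPp hB hP hPL hCL (sup_centralizer_le_normalizer P)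
    set P' := P.subgroupOf L with hP'
    haveI hP'n : P'.Normal := inferInstance
    haveI : Fintype P' := Fintype.ofFinite _
    haveI : Fintype (L ⧸ P') := Fintype.ofFinite _
    have hP'p : IsPGroup p P' := isPGroup_of_isDefectGroup hbd
    have hG' : P' ⊔ Subgroup.centralizer (P' : Set L) = ⊤ := sup_centralizer_subgroupOf_eq_top P
    haveI : Fintype (Subgroup.centralizer (P' : Set L)) := Fintype.ofFinite _
    have hidx := exists_index_centralizer hG' hP'p
    have hC' : ∀ g : L, ¬ p ∣ orderOf g → g ∈ Subgroup.centralizer (P' : Set L) := fun g hg =>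
      mem_of_regular_of_index _ hidx hg
    obtain ⟨ψ, θ, hθ, hθψ⟩ := exists_inflate_mem_block hM hP'p hC' hind.1
    have hθi : θ = Cfsg.Agent.Lib.Degree.inflate P' ψ := Subtype.ext hθψ
    subst hθi
    -- a nonlinear character of `P'`
    have hnab' : ¬ ∀ a b : P', a * b = b * a := by
      intro h
      apply hnab
      intro a ha c hc
      have h1 : a ∈ L := hPL ha
      have h2 : c ∈ L := hPL hc
      have := h ⟨⟨a, h1⟩, Subgroup.mem_subgroupOf.2 ha⟩ ⟨⟨c, h2⟩, Subgroup.mem_subgroupOf.2 hc⟩
      exact congrArg (fun z : P' => ((z : L) : G)) this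
    rw [comm_iff_forall_irr_degree_one] at hnab'
    push Not at hnab'
    obtain ⟨ζ, hζ⟩ := hnab'
    obtain ⟨-, hres⟩ := restrict_block hM hP'p hG' hind.1 hbd hθ
    obtain ⟨ξ, hξ, hξr⟩ := hres ζ
    obtain ⟨χ₀, hχ₀⟩ := exists_irr_over L ξ
    have hχ₀B : χ₀ ∈ B := mem_block_of_constituent hM hPp hCL hind hξ χ₀ hχ₀
    have hh := factorization_eq_minExp_of_height hχ₀B (h0 χ₀ hχ₀B)
    -- the degree computation
    have hdvd := Cfsg.Agent.Lib.CharExtra.inertia_index_mul_degree_dvd L hLn χ₀.2 ξ.2 hχ₀
    have hv1 : (inertia hLn (ξ : L → ℂ)).index.factorization p + (charDegree (ξ : L → ℂ)).factorization p ≤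
        (charDegree (χ₀ : G → ℂ)).factorization p := by
      have h1 := (Nat.factorization_le_iff_dvd (mul_ne_zero Subgroup.index_ne_zero_of_finite charDegree_ne_zero)
        charDegree_ne_zero).2 hdvd p
      rwa [Nat.factorization_mul Subgroup.index_ne_zero_of_finite charDegree_ne_zero, Finsupp.add_apply] at h1
    have hv2 := factorization_index_le_inertia hM hPL hCL hB hP hind hξ
    have hdeg : charDegree (ξ : L → ℂ) = charDegree (ψ : L ⧸ P' → ℂ) * charDegree (ζ : P' → ℂ) := by
      have h1 := hξr 1
      have h2 := map_one_eq_charDegree (IsIrrCharacter.isCharacter ξ.2)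
      have h3 := map_one_eq_charDegree (IsIrrCharacter.isCharacter ζ.2)
      simp only [OneMemClass.coe_one] at h1
      rw [h2, h3] at h1
      exact_mod_cast h1
    have hv3 : (charDegree (ψ : L ⧸ P' → ℂ)).factorization p = P'.index.factorization p :=
      factorization_degree_eq hM hbd hθ (Cfsg.Agent.Lib.Degree.inflate_kerContains P' ψ)
    -- `p` divides the degree of `ζ`
    have hv4 : 1 ≤ (charDegree (ζ : P' → ℂ)).factorization p := by
      have h1 := charDegree_dvd_card ζ.2
      obtain ⟨n, hn⟩ := IsPGroup.iff_card.1 hP'p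
      rw [hn] at h1
      obtain ⟨i, _, hi⟩ := (Nat.dvd_prime_pow hp.out).1 h1
      rcases i with _ | i
      · exfalso
        apply hζ
        rw [map_one_eq_charDegree (IsIrrCharacter.isCharacter ζ.2), hi]
        simp
      · rw [hi, Nat.factorization_pow, Finsupp.smul_apply, hp.out.factorization]
        simp
    have hidx2 : P'.index * L.index = P.index := by
      exact Subgroup.relIndex_mul_index hPL
    have hv5 : P'.index.factorization p + L.index.factorization p = P.index.factorization p := by
      rw [← hidx2, Nat.factorization_mul Subgroup.index_ne_zero_of_finite Subgroup.index_ne_zero_of_finite,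
        Finsupp.add_apply]
    have hv6 : (charDegree (ξ : L → ℂ)).factorization p =
        (charDegree (ψ : L ⧸ P' → ℂ)).factorization p + (charDegree (ζ : P' → ℂ)).factorization p := by
      rw [hdeg, Nat.factorization_mul charDegree_ne_zero charDegree_ne_zero, Finsupp.add_apply]
    unfold minExp at hh hmin
    omega

end Main

end Cfsg.Agent.Lib.Block
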